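import Groth.Agent.CohFinite.ProperFinite
import Groth.Agent.CohVanish.MV
import Groth.Agent.CohVanish.Sections
import Groth.Prelude.Def_Curv2

/-!
# The Euler characteristic on a proper scheme over a field

`exists_bound`, `euler_eq_sum`, `euler_additive`, `euler_congr`, `euler_of_isZero`.
-/

universe u

open CategoryTheory CategoryTheory.Limits AlgebraicGeometry Opposite TopologicalSpace
open scoped Groth.Agent.CohVanish

set_option backward.isDefEq.respectTransparency false

namespace Groth.Agent.HilbPoly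

open Groth.Agent.CohVanish Groth.Agent.CechCmp Groth.Agent.CohFinite

variable {k : Type u} [Field k] {X : Scheme.{u}} [X.Over (Spec (CommRingCat.of k))]
  [IsProper (X ↘ Spec (CommRingCat.of k))]

/-- Cohomology vanishes above a fixed degree. -/
theorem exists_bound (k : Type u) [Field k] (X : Scheme.{u}) [X.Over (Spec (CommRingCat.of k))]
    [IsProper (X ↘ Spec (CommRingCat.of k))] : ∃ N : ℕ, ∀ (M : X.Modules), M.IsQuasicoherent → ∀ n, N ≤ n →
    Subsingleton (Coh.HH X M n) := by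
  have : CompactSpace X := QuasiCompact.compactSpace_of_compactSpace (X ↘ Spec (CommRingCat.of k))
  have hS : X.IsSeparated := ⟨by
    rw [← terminal.comp_from (X ↘ Spec (CommRingCat.of k))]
    infer_instance⟩
  obtain ⟨C, hC⟩ := isCompact_univ.elim_finite_subcover (fun V : X.affineOpens => (V.1 : Set X))
    (fun V => V.1.2) fun x _ => by
      obtain ⟨V, hV, hxV, -⟩ := exists_isAffineOpen_mem_and_subset (X := X) (x := x) (U := ⊤) trivial
      exact Set.mem_iUnion.mpr ⟨⟨V, hV⟩, hxV⟩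
  let e := C.equivFin.symm
  refine ⟨C.card, fun M hM n hn => ?_⟩
  refine subsingleton_HH_of_affine_cover M (fun V W hV hW => hV.inf hW) C.card
    (fun i => ((e i).1 : X.affineOpens).1) (fun i => ((e i).1 : X.affineOpens).2) ?_ n hn
  refine top_unique fun x _ => ?_
  obtain ⟨V, hV, hxV⟩ := Set.mem_iUnion₂.mp (hC (Set.mem_univ x))
  refine Opens.mem_iSup.mpr ⟨e.symm ⟨V, hV⟩, ?_⟩
  rw [Equiv.apply_symm_apply]
  exact hxV

/-- The dimension of the `p`-th cohomology. -/
noncomputable def hdim (k : Type u) [Field k] (X : Scheme.{u}) [X.Over (Spec (CommRingCat.of k))]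
    (M : X.Modules) (p : ℕ) : ℤ :=
  Module.finrank k (Coh.HH X M p)

omit [IsProper (X ↘ Spec (CommRingCat.of k))] in
theorem hdim_eq_zero {M : X.Modules} {p : ℕ} (h : Subsingleton (Coh.HH X M p)) : hdim k X M p = 0 := by
  unfold hdim
  rw [Module.finrank_zero_of_subsingleton, Nat.cast_zero]

theorem finite_HH {M : X.Modules} (hM : Coh.IsCoh M) (p : ℕ) : Module.Finite k (Coh.HH X M p) :=
  finite_HH_of_allFin (allFin_of_isProper (X ↘ Spec (CommRingCat.of k)) M hM) p

omit [IsProper (X ↘ Spec (CommRingCat.of k))] in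
theorem euler_eq_sum {M : X.Modules} {N : ℕ} (h : ∀ n, N ≤ n → Subsingleton (Coh.HH X M n)) :
    Curv2.euler k X M = ∑ i ∈ Finset.range N, (-1 : ℤ) ^ i * hdim k X M i := by
  refine finsum_eq_sum_of_support_subset _ fun i hi => ?_
  rw [Finset.coe_range, Set.mem_Iio]
  by_contra hN
  apply hi
  change (-1 : ℤ) ^ i * hdim k X M i = 0
  rw [hdim_eq_zero (h i (not_lt.mp hN)), mul_zero]

omit [IsProper (X ↘ Spec (CommRingCat.of k))] in
theorem euler_congr {M M' : X.Modules} (e : M ≅ M') : Curv2.euler k X M = Curv2.euler k X M' := by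
  unfold Curv2.euler
  refine finsum_congr fun i => ?_
  congr 2
  let φ := Coh.toGlobal (X ↘ Spec (CommRingCat.of k))
  let f : HMod (modRSh φ M) ⊤ i ≃ₗ[k] HMod (modRSh φ M') ⊤ i :=
    LinearEquiv.ofLinearMap (mapHMod (modHom φ e.hom) ⊤ i) (mapHMod (modHom φ e.inv) ⊤ i)
      (LinearMap.ext fun x => ((eMap_comp _ _ ⊤ i x).symm.trans (congrArg (fun a => eMap a ⊤ i x)
        (((toAbF X).map_comp e.inv e.hom).symm.trans
          ((congrArg (toAbF X).map e.inv_hom_id).trans ((toAbF X).map_id M'))))).trans (eMap_id ⊤ i x))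
      (LinearMap.ext fun x => ((eMap_comp _ _ ⊤ i x).symm.trans (congrArg (fun a => eMap a ⊤ i x)
        (((toAbF X).map_comp e.hom e.inv).symm.trans
          ((congrArg (toAbF X).map e.hom_inv_id).trans ((toAbF X).map_id M))))).trans (eMap_id ⊤ i x))
  exact ((hhEquiv M i).trans (f.trans (hhEquiv M' i).symm)).finrank_eq

omit [IsProper (X ↘ Spec (CommRingCat.of k))] in
theorem euler_of_isZero {M : X.Modules} (h : IsZero M) : Curv2.euler k X M = 0 := by
  rw [euler_eq_sum (N := 0) fun n _ => subsingleton_HH_of_isZero h n]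
  simp

theorem alternating_sum_eq (c : ℕ → ℤ) : ∀ N : ℕ,
    ∑ p ∈ Finset.range N, (-1 : ℤ) ^ p * (c p + c (p + 1)) = c 0 - (-1 : ℤ) ^ N * c N
  | 0 => by simp
  | N + 1 => by rw [Finset.sum_range_succ, alternating_sum_eq c N, pow_succ]; ring

/-- Additivity of the Euler characteristic. -/
theorem euler_additive {S : ShortComplex X.Modules} (hS : S.ShortExact) (h₁ : Coh.IsCoh S.X₁)
    (h₂ : Coh.IsCoh S.X₂) (h₃ : Coh.IsCoh S.X₃) :
    Curv2.euler k X S.X₂ = Curv2.euler k X S.X₁ + Curv2.euler k X S.X₃ := by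
  obtain ⟨N, hN⟩ := exists_bound k X
  let φ := Coh.toGlobal (X ↘ Spec (CommRingCat.of k))
  let T := modSES φ S hS
  let f := fun p => mapHMod T.f ⊤ p
  let g := fun p => mapHMod T.g ⊤ p
  let δ := fun p => T.delta ⊤ p
  have fin : ∀ {M : X.Modules}, Coh.IsCoh M → ∀ p, Module.Finite k (HMod (modRSh φ M) ⊤ p) :=
    fun hM p => allFin_of_isProper (X ↘ Spec (CommRingCat.of k)) _ hM p
  let K : ℕ → ℤ := fun p => Module.finrank k (LinearMap.ker (f p))
  have hd : ∀ (M : X.Modules) p, hdim k X M p = Module.finrank k (HMod (modRSh φ M) ⊤ p) := fun M p => by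
    unfold hdim
    rw [(hhEquiv M p).finrank_eq]
  have key : ∀ p, hdim k X S.X₁ p + hdim k X S.X₃ p = hdim k X S.X₂ p + (K p + K (p + 1)) := by
    intro p
    have : Module.Finite k (HMod T.X₁ ⊤ p) := fin h₁ p
    have : Module.Finite k (HMod T.X₂ ⊤ p) := fin h₂ p
    have : Module.Finite k (HMod T.X₃ ⊤ p) := fin h₃ p
    have := fin h₁ (p + 1)
    have e1 : LinearMap.ker (g p) = LinearMap.range (f p) := by
      ext x
      refine ⟨fun hx => (eMap_g_eq_zero_iff (S := T.sc) T.shortExact ⊤ p x).1 hx, ?_⟩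
      rintro ⟨y, rfl⟩
      exact (eMap_g_eq_zero_iff (S := T.sc) T.shortExact ⊤ p _).2 ⟨y, rfl⟩
    have e2 : LinearMap.ker (δ p) = LinearMap.range (g p) := by
      ext x
      refine ⟨fun hx => (eDelta_eq_zero_iff (S := T.sc) T.shortExact ⊤ p x).1 hx, ?_⟩
      rintro ⟨y, rfl⟩
      exact (eDelta_eq_zero_iff (S := T.sc) T.shortExact ⊤ p _).2 ⟨y, rfl⟩
    have e3 : LinearMap.ker (f (p + 1)) = LinearMap.range (δ p) := by
      ext x
      refine ⟨fun hx => (eMap_f_eq_zero_iff (S := T.sc) T.shortExact ⊤ p x).1 hx, ?_⟩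
      rintro ⟨y, rfl⟩
      exact (eMap_f_eq_zero_iff (S := T.sc) T.shortExact ⊤ p _).2 ⟨y, rfl⟩
    have r1 := (f p).finrank_range_add_finrank_ker
    have r2 := (g p).finrank_range_add_finrank_ker
    have r3 := (δ p).finrank_range_add_finrank_ker
    rw [e1] at r2
    rw [e2] at r3
    rw [hd, hd, hd]
    simp only [K]
    rw [e3]
    change (Module.finrank k (HMod T.X₁ ⊤ p) : ℤ) + Module.finrank k (HMod T.X₃ ⊤ p) =
      Module.finrank k (HMod T.X₂ ⊤ p) + _
    rw [← r1, ← r2, ← r3]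
    push_cast
    ring
  have hK0 : K 0 = 0 := by
    have hinj : Function.Injective (f 0) := eMap_injective_of_mono T.shortExact.mono_f ⊤
    simp only [K]
    rw [LinearMap.ker_eq_bot.mpr hinj]
    simp
  have hKN : K N = 0 := by
    have := hN S.X₁ h₁.1 N le_rfl
    have : Subsingleton (HMod (modRSh φ S.X₁) ⊤ N) := (hhEquiv S.X₁ N).symm.injective.subsingleton
    have : Subsingleton (LinearMap.ker (f N)) :=
      ⟨fun a b => Subtype.ext ((hhEquiv S.X₁ N).symm.injective.subsingleton.elim a.1 b.1)⟩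
    simp only [K]
    rw [Module.finrank_zero_of_subsingleton, Nat.cast_zero]
  rw [euler_eq_sum (hN S.X₁ h₁.1), euler_eq_sum (hN S.X₂ h₂.1), euler_eq_sum (hN S.X₃ h₃.1),
    ← Finset.sum_add_distrib]
  have h0 := alternating_sum_eq K N
  rw [hK0, hKN, mul_zero, sub_zero] at h0
  rw [← add_zero (∑ i ∈ Finset.range N, (-1 : ℤ) ^ i * hdim k X S.X₂ i), ← h0, ← Finset.sum_add_distrib]
  refine Finset.sum_congr rfl fun p _ => ?_
  rw [← mul_add, ← mul_add, key p]

end Groth.Agent.HilbPoly
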