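import Mathlib.NumberTheory.Bernoulli
import Mathlib.Algebra.MvPolynomial.Degrees
import Mathlib.RingTheory.MvPolynomial.Basic
import Mathlib.Algebra.MvPolynomial.Eval

/-!
# Polynomial functions on `ℕ^r` from their differences
-/

open MvPolynomial

namespace Groth.Agent.HilbPoly

variable {r : ℕ}

/-- Monomials of degree `< d`. -/
noncomputable def degLT (r d : ℕ) : Submodule ℚ (MvPolynomial (Fin r) ℚ) :=
  restrictSupport ℚ {m | (m.sum fun _ e => e) < d}

theorem mem_degLT {d : ℕ} {P : MvPolynomial (Fin r) ℚ} :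
    P ∈ degLT r d ↔ ∀ m ∈ P.support, (m.sum fun _ e => e) < d := by
  simp [degLT, mem_restrictSupport_iff, Set.subset_def]

theorem totalDegree_le_of_degLT {d : ℕ} {P : MvPolynomial (Fin r) ℚ} (h : P ∈ degLT r (d + 1)) :
    P.totalDegree ≤ d :=
  Finset.sup_le fun m hm => Nat.lt_succ_iff.mp (mem_degLT.mp h m hm)

/-- The values on `ℕ^r`. -/
noncomputable def evN (P : MvPolynomial (Fin r) ℚ) (n : Fin r → ℕ) : ℚ :=
  MvPolynomial.eval (fun i => (n i : ℚ)) P

theorem monomial_mem_degLT {d : ℕ} {m : Fin r →₀ ℕ} (c : ℚ) (h : (m.sum fun _ e => e) < d) :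
    monomial m c ∈ degLT r d := by
  rw [mem_degLT]
  intro m' hm'
  rw [Finset.mem_singleton.mp (support_monomial_subset hm')]
  exact h

theorem sum_erase_add (m : Fin r →₀ ℕ) (i : Fin r) :
    ((m.erase i).sum fun _ e => e) + m i = m.sum fun _ e => e := by
  rw [Finsupp.sum_fintype _ _ (fun _ => rfl), Finsupp.sum_fintype _ _ (fun _ => rfl),
    ← Finset.add_sum_erase _ _ (Finset.mem_univ i), ← Finset.add_sum_erase _ _ (Finset.mem_univ i)]
  rw [Finsupp.erase_same, zero_add, add_comm]
  congr 1
  exact Finset.sum_congr rfl fun j hj => Finsupp.erase_ne (Finset.mem_erase.mp hj).1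

theorem evN_monomial (m : Fin r →₀ ℕ) (c : ℚ) (n : Fin r → ℕ) :
    evN (monomial m c) n = c * ∏ j, (n j : ℚ) ^ m j := by
  rw [evN, eval_monomial, Finsupp.prod_fintype _ _ (fun _ => pow_zero _)]

/-- Summation in the variable `i`. -/
theorem exists_antiderivative (i : Fin r) {d : ℕ} (G : MvPolynomial (Fin r) ℚ) (hG : G ∈ degLT r d) :
    ∃ A ∈ degLT r (d + 1), ∀ (n : Fin r → ℕ) (t : ℕ),
      evN A (Function.update n i t) = ∑ s ∈ Finset.range t, evN G (Function.update n i s) := by
  classical
  have mono : ∀ m : Fin r →₀ ℕ, (m.sum fun _ e => e) < d → ∀ c : ℚ,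
      ∃ A ∈ degLT r (d + 1), ∀ (n : Fin r → ℕ) (t : ℕ),
        evN A (Function.update n i t) = ∑ s ∈ Finset.range t, evN (monomial m c) (Function.update n i s) := by
    intro m hm c
    let p := m i
    refine ⟨∑ a ∈ Finset.range (p + 1), monomial (m.erase i + Finsupp.single i (p + 1 - a))
      (c * (bernoulli a * (Nat.choose (p + 1) a : ℚ) / (p + 1))), ?_, fun n t => ?_⟩
    · refine Submodule.sum_mem _ fun a _ => monomial_mem_degLT _ ?_
      rw [Finsupp.sum_add_index' (fun _ => rfl) (fun _ _ _ => rfl), Finsupp.sum_single_index rfl]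
      have := sum_erase_add m i
      simp only [p]
      omega
    · have hprod : ∀ (e s : ℕ) (m' : Fin r →₀ ℕ), m' = m.erase i + Finsupp.single i e →
          ∏ j, ((Function.update n i s j : ℕ) : ℚ) ^ m' j =
            (s : ℚ) ^ e * ∏ j ∈ Finset.univ.erase i, (n j : ℚ) ^ m j := by
        intro e s m' hm'
        rw [← Finset.mul_prod_erase _ _ (Finset.mem_univ i), hm']
        congr 1
        · simp
        · refine Finset.prod_congr rfl fun j hj => ?_
          have hji := (Finset.mem_erase.mp hj).1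
          simp [hji, Finsupp.erase_ne hji]
      have hsum : ∑ s ∈ Finset.range t, evN (monomial m c) (Function.update n i s) =
          c * (∑ s ∈ Finset.range t, (s : ℚ) ^ p) * ∏ j ∈ Finset.univ.erase i, (n j : ℚ) ^ m j := by
        rw [Finset.mul_sum, Finset.sum_mul]
        refine Finset.sum_congr rfl fun s _ => ?_
        rw [evN_monomial, hprod p s m (Finsupp.erase_add_single i m).symm, mul_assoc]
      rw [hsum, sum_range_pow, evN, map_sum, Finset.mul_sum, Finset.sum_mul]
      refine Finset.sum_congr rfl fun a _ => ?_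
      rw [← evN, evN_monomial, hprod (p + 1 - a) t _ rfl]
      ring
  choose A hA hA' using mono
  refine ⟨∑ m ∈ G.support.attach, A m.1 (mem_degLT.mp hG m.1 m.2) (G.coeff m.1),
    Submodule.sum_mem _ fun m _ => hA _ _ _, fun n t => ?_⟩
  rw [evN, map_sum]
  refine (Finset.sum_congr rfl fun m _ => hA' m.1 _ _ n t).trans ?_
  rw [Finset.sum_comm]
  refine Finset.sum_congr rfl fun s _ => ?_
  conv_rhs => rw [G.as_sum, evN, map_sum, ← Finset.sum_attach]
  rfl

/-- Setting the variable `i` to zero. -/
theorem exists_eval_zero (i : Fin r) {d : ℕ} (P : MvPolynomial (Fin r) ℚ) (hP : P ∈ degLT r d) :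
    ∃ P' ∈ degLT r d, ∀ n : Fin r → ℕ, evN P' n = evN P (Function.update n i 0) := by
  classical
  refine ⟨∑ m ∈ P.support, if m i = 0 then monomial m (P.coeff m) else 0,
    Submodule.sum_mem _ fun m hm => ?_, fun n => ?_⟩
  · split_ifs
    · exact monomial_mem_degLT _ (mem_degLT.mp hP m hm)
    · exact zero_mem _
  · conv_rhs => rw [P.as_sum, evN, map_sum]
    rw [evN, map_sum]
    refine Finset.sum_congr rfl fun m _ => ?_
    rw [← evN, ← evN, evN_monomial, ← Finset.mul_prod_erase _ _ (Finset.mem_univ i)]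
    have e : ∏ j ∈ Finset.univ.erase i, ((Function.update n i 0 j : ℕ) : ℚ) ^ m j =
        ∏ j ∈ Finset.univ.erase i, (n j : ℚ) ^ m j :=
      Finset.prod_congr rfl fun j hj => by simp [(Finset.mem_erase.mp hj).1]
    rw [e]
    split_ifs with hmi
    · rw [evN_monomial, ← Finset.mul_prod_erase _ _ (Finset.mem_univ i), hmi, pow_zero, pow_zero]
    · simp [evN, hmi]

/-- A function whose differences are polynomials of degree `< d` is a polynomial of degree `≤ d`. -/
theorem exists_poly_of_diff (f : (Fin r → ℕ) → ℚ) {d : ℕ}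
    (h : ∀ i : Fin r, ∃ G ∈ degLT r d, ∀ n, f (Function.update n i (n i + 1)) - f n = evN G n) :
    ∃ F ∈ degLT r (d + 1), ∀ n, f n = evN F n := by
  classical
  suffices hS : ∀ S : Finset (Fin r), ∃ F ∈ degLT r (d + 1), ∀ n : Fin r → ℕ,
      (∀ i ∉ S, n i = 0) → f n = evN F n by
    obtain ⟨F, hF, h'⟩ := hS Finset.univ
    exact ⟨F, hF, fun n => h' n fun i hi => absurd (Finset.mem_univ i) hi⟩
  intro S
  induction S using Finset.induction_on with
  | empty =>
    refine ⟨monomial 0 (f 0), monomial_mem_degLT _ (Nat.succ_pos _), fun n hn => ?_⟩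
    rw [evN_monomial, show n = 0 from funext fun i => hn i (Finset.notMem_empty i)]
    simp
  | insert i S hi ih =>
    obtain ⟨F, hF, hF'⟩ := ih
    obtain ⟨G, hG, hG'⟩ := h i
    obtain ⟨A, hA, hA'⟩ := exists_antiderivative i G hG
    obtain ⟨F₀, hF₀, hF₀'⟩ := exists_eval_zero i F hF
    refine ⟨F₀ + A, Submodule.add_mem _ hF₀ hA, fun n hn => ?_⟩
    have step : ∀ t, f (Function.update n i t) - f (Function.update n i 0) =
        ∑ s ∈ Finset.range t, evN G (Function.update n i s) := by
      intro t
      induction t with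
      | zero => simp
      | succ t iht =>
        rw [Finset.sum_range_succ, ← iht, ← hG' (Function.update n i t)]
        simp
    have e := step (n i)
    rw [Function.update_eq_self, ← hA', Function.update_eq_self] at e
    rw [evN, map_add, ← evN, ← evN, hF₀', ← e, ← hF' (Function.update n i 0) fun j hj => ?_]
    · ring
    · by_cases hji : j = i
      · subst hji; simp
      · rw [Function.update_of_ne hji]
        exact hn j fun hm => (Finset.mem_insert.mp hm).elim hji hj

end Groth.Agent.HilbPoly
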