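import Groth.Agent.HilbPoly.Tensor
import Groth.Agent.HilbPoly.Euler
import Groth.Agent.HilbPoly.Poly
import Groth.Agent.CohFinite.Devissage
import Groth.Agent.CohFinite.AnnIdeal

/-!
# Euler characteristics of twists are numerical polynomials (Snapper)

`exists_poly`: for a family `T n` of invertible modules with `T (n + e_i) ≅ T n ⊗ L i`, the function
`n ↦ χ(F ⊗ T n)` is a polynomial of total degree at most the dimension of the support of `F`.
-/

universe u

open CategoryTheory CategoryTheory.Limits AlgebraicGeometry Opposite TopologicalSpace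

set_option backward.isDefEq.respectTransparency false
set_option maxHeartbeats 800000

namespace Groth.Agent.HilbPoly

open InvBasic ProjUniv Groth.Agent.InvPow Groth.Agent.QCohLib Groth.Agent.CohFinite

variable {X : Scheme.{u}}

theorem isZero_of_support_empty {M : X.Modules} (h : CohB1.support M = ∅) : IsZero M := by
  rw [IsZero.iff_id_eq_zero]
  refine eq_of_stalkHom_eq _ _ fun x => ?_
  have : Subsingleton (M.presheaf.stalk x) := by
    by_contra hc
    exact (h ▸ (show x ∈ CohB1.support M from hc) : x ∈ (∅ : Set X))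
  ext m
  exact Subsingleton.elim _ _

theorem dim_mono {A B : Set X} (h : A ⊆ B) : topologicalKrullDim A ≤ topologicalKrullDim B :=
  (Topology.IsEmbedding.inclusion h).isInducing.topologicalKrullDim_le

theorem eq_empty_of_dim_lt_zero {A : Set X} (h : topologicalKrullDim A < 0) : A = ∅ := by
  by_contra hne
  obtain ⟨a, ha⟩ := Set.nonempty_iff_ne_empty.mpr hne
  have : Nonempty (IrreducibleCloseds A) :=
    ⟨⟨closure {(⟨a, ha⟩ : A)}, isIrreducible_singleton.closure, isClosed_closure⟩⟩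
  exact absurd (Order.krullDim_nonneg (α := IrreducibleCloseds A)) (not_le.mpr h)

/-- A proper closed subset of an irreducible closed set has smaller dimension. -/
theorem dim_add_one_le {A B : Set X} (hA : IsClosed A) (hB : IsIrreducible B) (hBc : IsClosed B)
    (hAB : A ⊂ B) (hne : A.Nonempty) : topologicalKrullDim A + 1 ≤ topologicalKrullDim B := by
  obtain ⟨a, ha⟩ := hne
  have : PreirreducibleSpace B := Subtype.preirreducibleSpace hB.isPreirreducible
  have hirr : IsIrreducible (Set.univ : Set B) :=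
    ⟨⟨⟨a, hAB.subset ha⟩, trivial⟩, PreirreducibleSpace.isPreirreducible_univ⟩
  let top : IrreducibleCloseds B := ⟨Set.univ, hirr, isClosed_univ⟩
  have : Nonempty (IrreducibleCloseds A) :=
    ⟨⟨closure {(⟨a, ha⟩ : A)}, isIrreducible_singleton.closure, isClosed_closure⟩⟩
  let ι : A → B := Set.inclusion hAB.subset
  have hind : Topology.IsInducing ι := (Topology.IsEmbedding.inclusion hAB.subset).isInducing
  let f : IrreducibleCloseds A → IrreducibleCloseds B := IrreducibleCloseds.map ι hind.continuous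
  have hf : StrictMono f := IrreducibleCloseds.map_strictMono_of_isInducing hind
  have hlt : ∀ C : IrreducibleCloseds A, f C < top := fun C => by
    refine lt_of_le_of_ne (fun _ _ => trivial) fun he => hAB.not_subset fun b hb => ?_
    have hb' : (⟨b, hb⟩ : B) ∈ closure (ι '' (C : Set A)) := by
      change (⟨b, hb⟩ : B) ∈ ((f C : IrreducibleCloseds B) : Set B)
      rw [he]
      exact Set.mem_univ _
    have hsub : closure (ι '' (C : Set A)) ⊆ ((↑) : B → X) ⁻¹' A := by
      refine closure_minimal ?_ (hA.preimage continuous_subtype_val)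
      rintro _ ⟨z, -, rfl⟩
      exact z.2
    exact hsub hb'
  let g : WithTop (IrreducibleCloseds A) → IrreducibleCloseds B := fun C => C.elim top f
  have hg : StrictMono g := by
    intro C D hCD
    cases C with
    | top => exact absurd hCD not_top_lt
    | coe c =>
      cases D with
      | top => exact hlt c
      | coe d => exact hf (WithTop.coe_lt_coe.mp hCD)
  have := Order.krullDim_le_of_strictMono g hg
  rwa [Order.krullDim_WithTop] at this

theorem dim_lt_of_ssubset {A B : Set X} (hA : IsClosed A) (hB : IsIrreducible B) (hBc : IsClosed B)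
    (hAB : A ⊂ B) {d : ℕ} (hd : topologicalKrullDim B < ((d + 1 : ℕ) : WithBot ℕ∞)) :
    topologicalKrullDim A < (d : WithBot ℕ∞) := by
  by_contra hc
  rw [not_lt] at hc
  rcases A.eq_empty_or_nonempty with rfl | hne
  · rw [show topologicalKrullDim (∅ : Set X) = ⊥ from Order.krullDim_eq_bot_iff.mpr
      ⟨fun C => C.2.nonempty.elim fun z _ => z.2.elim⟩] at hc
    exact absurd hc (by simp)
  · have h1 : ((d : WithBot ℕ∞) + 1) ≤ topologicalKrullDim A + 1 := add_le_add hc le_rfl
    have h2 := h1.trans (dim_add_one_le hA hB hBc hAB hne)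
    rw [Nat.cast_add, Nat.cast_one] at hd
    exact absurd h2 (not_le.mpr hd)

/-! ### The roof -/

theorem exists_roof [IsNoetherian X] {G₁ G₂ Q : X.Modules} (h₁ : Coh.IsCoh G₁) (h₂ : Coh.IsCoh G₂)
    (hQ : Q.IsQuasicoherent) (φ₁ : G₁ ⟶ Q) (φ₂ : G₂ ⟶ Q) [Mono φ₁] [Mono φ₂] (U : X.Opens)
    (hb₁ : ∀ W : X.Opens, W ≤ U → Function.Bijective (φ₁.app W))
    (hb₂ : ∀ W : X.Opens, W ≤ U → Function.Bijective (φ₂.app W)) :
    ∃ (K : X.Modules) (f₁ : K ⟶ G₁) (f₂ : K ⟶ G₂), Coh.IsCoh K ∧ Mono f₁ ∧ Mono f₂ ∧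
      Disjoint (CohB1.support (cokernel f₁)) U ∧ Disjoint (CohB1.support (cokernel f₂)) U := by
  have := h₁.1
  have := h₂.1
  have := isQuasicoherent_cokernel φ₂
  let ψ := φ₁ ≫ cokernel.π φ₂
  have hψ : (kernel.ι ψ ≫ φ₁) ≫ cokernel.π φ₂ = 0 := by rw [Category.assoc, kernel.condition]
  let f₂ : kernel ψ ⟶ G₂ := Abelian.monoLift φ₂ (kernel.ι ψ ≫ φ₁) hψ
  have hf₂ : f₂ ≫ φ₂ = kernel.ι ψ ≫ φ₁ := Abelian.monoLift_comp _ _ _
  have : Mono f₂ := by
    have : Mono (f₂ ≫ φ₂) := by rw [hf₂]; infer_instance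
    exact mono_of_mono f₂ φ₂
  have hkey : ∀ (W : X.Opens) (a : Γ(G₁, W)) (b : Γ(G₂, W)), φ₁.app W a = φ₂.app W b →
      ∃ c : Γ(kernel ψ, W), (kernel.ι ψ).app W c = a ∧ f₂.app W c = b := by
    intro W a b hab
    have h0 : ψ.app W a = 0 := by
      change (cokernel.π φ₂).app W (φ₁.app W a) = 0
      rw [hab]
      change (φ₂ ≫ cokernel.π φ₂).app W b = 0
      rw [cokernel.condition]; rfl
    obtain ⟨c, hc⟩ := exists_kernel_app_eq' ψ W a h0
    refine ⟨c, hc, (mono_iff_app_injective φ₂).mp inferInstance W ?_⟩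
    change (f₂ ≫ φ₂).app W c = _
    rw [hf₂]
    change φ₁.app W ((kernel.ι ψ).app W c) = _
    rw [hc, hab]
  refine ⟨kernel ψ, kernel.ι ψ, f₂, isCoh_of_mono (kernel.ι ψ) h₁ (isQuasicoherent_kernel ψ),
    inferInstance, inferInstance, ?_, ?_⟩
  · rw [Set.disjoint_right]
    refine fun x hx => notMem_support_cokernel _ x fun y => ?_
    obtain ⟨W, hxW, a, rfl⟩ := G₁.presheaf.exists_germ_eq y
    obtain ⟨b, hb⟩ := (hb₂ (W ⊓ U) inf_le_right).2 (φ₁.app _ (res G₁ (inf_le_left : W ⊓ U ≤ W) a))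
    obtain ⟨c, hc, -⟩ := hkey _ _ _ hb.symm
    refine ⟨(kernel ψ).presheaf.germ (W ⊓ U) x ⟨hxW, hx⟩ c, ?_⟩
    rw [stalkHom_germ, hc]
    exact TopCat.Presheaf.germ_res_apply _ _ _ _ _
  · rw [Set.disjoint_right]
    refine fun x hx => notMem_support_cokernel _ x fun y => ?_
    obtain ⟨W, hxW, b, rfl⟩ := G₂.presheaf.exists_germ_eq y
    obtain ⟨a, ha⟩ := (hb₁ (W ⊓ U) inf_le_right).2 (φ₂.app _ (res G₂ (inf_le_left : W ⊓ U ≤ W) b))
    obtain ⟨c, -, hc⟩ := hkey _ _ _ ha
    refine ⟨(kernel ψ).presheaf.germ (W ⊓ U) x ⟨hxW, hx⟩ c, ?_⟩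
    rw [stalkHom_germ, hc]
    exact TopCat.Presheaf.germ_res_apply _ _ _ _ _
where
  exists_kernel_app_eq' {M N : X.Modules} (ψ : M ⟶ N) (W : X.Opens) (a : Γ(M, W)) (h : ψ.app W a = 0) :
      ∃ c : Γ(kernel ψ, W), (kernel.ι ψ).app W c = a := by
    have : Mono (kernel.ι ψ) := inferInstance
    have hS : (ShortComplex.mk (kernel.ι ψ) (Abelian.factorThruImage ψ) (by
        rw [← cancel_mono (Abelian.image.ι ψ), Category.assoc, Abelian.image.fac, kernel.condition,
          zero_comp])).ShortExact := by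
      refine { exact := ShortComplex.exact_of_f_is_kernel _ (KernelFork.IsLimit.ofι' _ _ fun g hg => ?_) }
      refine ⟨kernel.lift ψ g ?_, kernel.lift_ι _ _ _⟩
      rw [← Abelian.image.fac ψ, ← Category.assoc, hg, zero_comp]
    refine (sections_exact_of_shortExact hS W).2 a ((mono_iff_app_injective (Abelian.image.ι ψ)).mp inferInstance W ?_)
    rw [map_zero]
    change (Abelian.factorThruImage ψ ≫ Abelian.image.ι ψ).app W a = 0
    rw [Abelian.image.fac]
    exact h

/-! ### `G` and `G ⊗ L` inside the direct image from an open -/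

theorem injective_res_tensor {G L : X.Modules} (hL : PicF.IsInvertible L) (U : X.Opens)
    (hG : ∀ W : X.Opens, Function.Injective (res G (inf_le_left : W ⊓ U ≤ W))) (W : X.Opens) :
    Function.Injective (res (CohB1.tensorMod G L) (inf_le_left : W ⊓ U ≤ W)) := by
  choose V hxV ℓ hℓ using exists_isBasis hL
  refine (injective_iff_map_eq_zero ((CohB1.tensorMod G L).presheaf.map
    (homOfLE (inf_le_left : W ⊓ U ≤ W)).op).hom).mpr fun s hs => ?_
  change res (CohB1.tensorMod G L) (inf_le_left : W ⊓ U ≤ W) s = 0 at hs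
  refine eq_zero_of_cover _ (fun x => ⟨x, hxV x⟩) s fun x => ?_
  obtain ⟨m, hm⟩ := (tmul_bij G (hℓ x) (inf_le_right : W ⊓ V x ≤ V x)).2
    (res (CohB1.tensorMod G L) inf_le_left s)
  dsimp only at hm
  have h2 : res G (inf_le_left : (W ⊓ V x) ⊓ U ≤ W ⊓ V x) m = 0 := by
    apply (tmul_bij G (hℓ x) ((inf_le_left : (W ⊓ V x) ⊓ U ≤ W ⊓ V x).trans inf_le_right)).1
    dsimp only
    rw [ProjCoh.tmul_zero_left, ← res_res L (inf_le_right : W ⊓ V x ≤ V x) inf_le_left, ← res_tmul, hm,
      res_res, ← res_res (CohB1.tensorMod G L) (inf_le_left : W ⊓ U ≤ W)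
        (inf_le_inf_right U inf_le_left : (W ⊓ V x) ⊓ U ≤ W ⊓ U), hs, res_zero]
  rw [← hm, hG _ (h2.trans (map_zero _).symm)]
  exact ProjCoh.tmul_zero_left G L _ _

theorem ι_image_preimage_le (U W : X.Opens) : U.ι ''ᵁ U.ι ⁻¹ᵁ W ≤ W := U.ι.image_preimage_le W

theorem inf_le_ι_image_preimage (U W : X.Opens) : W ⊓ U ≤ U.ι ''ᵁ U.ι ⁻¹ᵁ W := by
  rw [Scheme.Hom.image_preimage_eq_opensRange_inf, Scheme.Opens.opensRange_ι, inf_comm]

/-- Restriction followed by tensoring with a basis on `U`. -/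
noncomputable def toPush (G : X.Modules) {L : X.Modules} (U : X.Opens) (ℓ : Γ(L, U)) :
    G ⟶ (Scheme.Modules.pushforward U.ι).obj ((CohB1.tensorMod G L).restrict U.ι) :=
  ⟨PresheafOfModules.homMk (M₁ := G.val)
      (M₂ := ((Scheme.Modules.pushforward U.ι).obj ((CohB1.tensorMod G L).restrict U.ι)).val)
    { app := fun W => AddCommGrpCat.ofHom (AddMonoidHom.mk'
        (fun m : Γ(G, W.unop) => SecTwist.tmul G L (U.ι ''ᵁ U.ι ⁻¹ᵁ W.unop)
          (res G (ι_image_preimage_le U W.unop) m) (res L (ι_image_le U _) ℓ))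
        fun a b => by
          change SecTwist.tmul G L _ (res G _ (a + b)) _ = _
          rw [show res G (ι_image_preimage_le U W.unop) (a + b) =
            res G (ι_image_preimage_le U W.unop) a + res G (ι_image_preimage_le U W.unop) b from map_add _ a b]
          exact ProjCoh.tmul_add_left G L _ _ _ _)
      naturality := fun {W W'} g => by
        ext m
        change SecTwist.tmul G L _ (res G _ (res G g.unop.le m)) (res L _ ℓ) =
          res (CohB1.tensorMod G L) (U.ι.image_mono (U.ι.preimage_mono g.unop.le))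
            (SecTwist.tmul G L _ (res G _ m) (res L _ ℓ))
        rw [res_tmul, res_res, res_res, res_res] }
    fun W r (m : Γ(G, W.unop)) => by
      refine Eq.trans ?_ (restrict_smul_eq (CohB1.tensorMod G L) U (U.ι ⁻¹ᵁ W.unop) (U.ι.app W.unop r) _).symm
      change SecTwist.tmul G L _ (res G _ ((show Γ(X, W.unop) from r) • m)) _ = _
      rw [res_smul]
      refine (ProjCoh.tmul_smul_left G L _ _ _ _).trans ?_
      congr 1⟩

theorem toPush_app (G : X.Modules) {L : X.Modules} (U : X.Opens) (ℓ : Γ(L, U)) (W : X.Opens) (m : Γ(G, W)) :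
    (toPush G U ℓ).app W m = SecTwist.tmul G L (U.ι ''ᵁ U.ι ⁻¹ᵁ W)
      (res G (ι_image_preimage_le U W) m) (res L (ι_image_le U _) ℓ) := rfl

theorem exists_roof_tensor [IsNoetherian X] {G L : X.Modules} (hG : Coh.IsCoh G) (hL : PicF.IsInvertible L)
    {U : X.Opens} {ℓ : Γ(L, U)} (hℓ : IsBasis L ℓ)
    (hinj : ∀ W : X.Opens, Function.Injective (res G (inf_le_left : W ⊓ U ≤ W))) :
    ∃ (K : X.Modules) (f₁ : K ⟶ G) (f₂ : K ⟶ CohB1.tensorMod G L), Coh.IsCoh K ∧ Mono f₁ ∧ Mono f₂ ∧
      Disjoint (CohB1.support (cokernel f₁)) U ∧ Disjoint (CohB1.support (cokernel f₂)) U := by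
  have hG2 := isCoh_tensorMod hG hL
  have := hG2.1
  have : ((CohB1.tensorMod G L).restrict U.ι).IsQuasicoherent := inferInstance
  have hQ : ((Scheme.Modules.pushforward U.ι).obj ((CohB1.tensorMod G L).restrict U.ι)).IsQuasicoherent :=
    isQuasicoherent_pushforward U.ι
  have hbij : ∀ W : X.Opens, W ≤ U → Function.Bijective (res G (ι_image_preimage_le U W)) := fun W hW => by
    have h := (le_inf le_rfl hW).trans (inf_le_ι_image_preimage U W)
    exact Function.bijective_iff_has_inverse.mpr ⟨res G h,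
      fun m => (res_res G _ h m).trans (QCohLib.map_self G _ _),
      fun m => (res_res G h _ m).trans (QCohLib.map_self G _ _)⟩
  have : Mono (toPush G U ℓ) := by
    rw [mono_iff_app_injective]
    intro W m m' h
    apply hinj W
    rw [toPush_app, toPush_app] at h
    have h' := (tmul_bij G hℓ (ι_image_le U _)).1 h
    have h'' := congrArg (res G (inf_le_ι_image_preimage U W)) h'
    rwa [res_res, res_res] at h''
  let η := (Scheme.Modules.restrictAdjunction U.ι).unit.app (CohB1.tensorMod G L)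
  have hη : ∀ W (s : Γ(CohB1.tensorMod G L, W)),
      η.app W s = res (CohB1.tensorMod G L) (ι_image_preimage_le U W) s :=
    fun W s => by
      simp only [η]
      rw [Scheme.Modules.restrictAdjunction_unit_app_app]
      rfl
  have : Mono η := by
    refine (mono_iff_app_injective η).mpr fun W (s : Γ(CohB1.tensorMod G L, W)) (t : Γ(CohB1.tensorMod G L, W)) h => ?_
    have h : res (CohB1.tensorMod G L) (ι_image_preimage_le U W) s = res _ (ι_image_preimage_le U W) t :=
      ((hη W s).symm.trans h).trans (hη W t)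
    apply injective_res_tensor hL U hinj W
    have h'' := congrArg (res (CohB1.tensorMod G L) (inf_le_ι_image_preimage U W)) h
    rwa [res_res, res_res] at h''
  refine exists_roof hG hG2 hQ (toPush G U ℓ) η U (fun W hW => ?_) (fun W hW => ?_)
  · exact (tmul_bij G hℓ (ι_image_le U _)).comp (hbij W hW)
  · have h := (le_inf le_rfl hW).trans (inf_le_ι_image_preimage U W)
    exact Function.bijective_iff_has_inverse.mpr ⟨res (CohB1.tensorMod G L) h,
      fun m => (congrArg (res _ h) (hη W m)).trans ((res_res _ _ h m).trans (QCohLib.map_self _ _ _)),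
      fun m => (hη W _).trans ((res_res _ h _ m).trans (QCohLib.map_self _ _ _))⟩

theorem isCoh_push {Z : Scheme.{u}} [IsLocallyNoetherian X] (i : Z ⟶ X) [IsClosedImmersion i]
    {I : Z.Modules} (ι : I ⟶ Coh.structureModule Z) [Mono ι] (hI : Coh.IsQCoh I) :
    Coh.IsCoh ((Scheme.Modules.pushforward i).obj I) := isCoh_push_ideal i ι hI

theorem injective_res_push_ideal {Z : Scheme.{u}} [IsIntegral Z] (i : Z ⟶ X) {I : Z.Modules}
    (ι : I ⟶ Coh.structureModule Z) [Mono ι] {U : X.Opens} (hU : i (genericPoint Z) ∈ U) (W : X.Opens) :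
    Function.Injective (res ((Scheme.Modules.pushforward i).obj I) (inf_le_left : W ⊓ U ≤ W)) := by
  intro a b hab
  apply (mono_iff_app_injective ι).mp inferInstance (i ⁻¹ᵁ W)
  have hab' : ι.app (i ⁻¹ᵁ (W ⊓ U)) (res I (i.preimage_mono inf_le_left) a) =
      ι.app (i ⁻¹ᵁ (W ⊓ U)) (res I (i.preimage_mono inf_le_left) b) := congrArg _ hab
  rw [QCohLib.app_map, QCohLib.app_map] at hab'
  by_cases hne : Nonempty ↥(i ⁻¹ᵁ (W ⊓ U))
  · exact @map_injective_of_isIntegral Z _ (i ⁻¹ᵁ (W ⊓ U)) (i ⁻¹ᵁ W)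
      (homOfLE (i.preimage_mono (inf_le_left : W ⊓ U ≤ W))) hne _ _ hab'
  · have hbot : i ⁻¹ᵁ W = ⊥ := by
      by_contra hW
      obtain ⟨z, hz⟩ : ((i ⁻¹ᵁ W : Z.Opens) : Set Z).Nonempty := by
        by_contra hc
        exact hW (Opens.ext (Set.not_nonempty_iff_eq_empty.mp hc))
      have hgen : genericPoint Z ∈ i ⁻¹ᵁ W :=
        ((genericPoint_spec Z).specializes (Set.mem_univ z)).mem_open (i ⁻¹ᵁ W).2 hz
      exact hne ⟨⟨genericPoint Z, hgen, hU⟩⟩
    have : Subsingleton Γ(Z, i ⁻¹ᵁ W) := by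
      rw [hbot]; exact CommRingCat.subsingleton_of_isTerminal Z.sheaf.isTerminalOfEmpty
    exact Subsingleton.elim (α := Γ(Z, i ⁻¹ᵁ W)) _ _

variable (k : Type u) [Field k] [X.Over (Spec (CommRingCat.of k))] [IsProper (X ↘ Spec (CommRingCat.of k))]

/-- `χ(F ⊗ T n)`. -/
noncomputable def chiT {r : ℕ} (T : (Fin r → ℕ) → X.Modules) (F : X.Modules) (n : Fin r → ℕ) : ℚ :=
  (Curv2.euler k X (CohB1.tensorMod F (T n)) : ℚ)

variable {r : ℕ} {T : (Fin r → ℕ) → X.Modules} (hT : ∀ n, PicF.IsInvertible (T n))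

include hT in
theorem chiT_additive {S : ShortComplex X.Modules} (hS : S.ShortExact) (h₁ : Coh.IsCoh S.X₁)
    (h₂ : Coh.IsCoh S.X₂) (h₃ : Coh.IsCoh S.X₃) (n : Fin r → ℕ) :
    chiT k T S.X₂ n = chiT k T S.X₁ n + chiT k T S.X₃ n := by
  unfold chiT
  rw [← Int.cast_add]
  have h := euler_additive (k := k) (S := tSC S (hT n)) (shortExact_tSC hS (hT n))
    (by simpa only [tSC] using! isCoh_tensorMod h₁ (hT n))
    (by simpa only [tSC] using! isCoh_tensorMod h₂ (hT n))
    (by simpa only [tSC] using! isCoh_tensorMod h₃ (hT n))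
  simp only [tSC] at h
  rw [h]

theorem chiT_congr {F F' : X.Modules} (e : F ≅ F') (n : Fin r → ℕ) : chiT k T F n = chiT k T F' n := by
  unfold chiT
  rw [euler_congr (ProjTwist.nonempty_tensorMod_iso e (Iso.refl (T n))).some]

include hT in
theorem chiT_of_isZero {F : X.Modules} (h : IsZero F) (n : Fin r → ℕ) : chiT k T F n = 0 := by
  unfold chiT
  rw [euler_of_isZero, Int.cast_zero]
  apply isZero_of_support_empty
  rw [support_tensorMod F (hT n)]
  refine Set.eq_empty_iff_forall_notMem.mpr fun x hx => hx ?_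
  have h0 : (𝟙 F : F ⟶ F) = 0 := h.eq_of_src _ _
  refine subsingleton_of_forall_eq 0 fun m => ?_
  rw [← stalkHom_id (M := F) x m, h0, stalkHom_zero]

variable {L : Fin r → X.Modules} (hL : ∀ i, PicF.IsInvertible (L i))
  (hstep : ∀ n i, Nonempty (T (Function.update n i (n i + 1)) ≅ CohB1.tensorMod (T n) (L i)))

include hT hL hstep in
theorem chiT_shift (F : X.Modules) (n : Fin r → ℕ) (i : Fin r) :
    chiT k T F (Function.update n i (n i + 1)) = chiT k T (CohB1.tensorMod F (L i)) n := by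
  unfold chiT
  obtain ⟨e⟩ := hstep n i
  obtain ⟨c⟩ := ProjTwist.nonempty_tensorMod_comm (T n) (L i)
  obtain ⟨a⟩ := nonempty_assoc F (hL i) (hT n)
  rw [euler_congr ((ProjTwist.nonempty_tensorMod_iso (Iso.refl F) (e ≪≫ c)).some ≪≫ a)]

include hT hL hstep in
/-- Snapper: `n ↦ χ(F ⊗ T n)` is polynomial of degree at most `dim Supp F`. -/
theorem exists_poly : ∀ (d : ℕ) (F : X.Modules), Coh.IsCoh F →
    topologicalKrullDim (CohB1.support F) < (d : WithBot ℕ∞) →
    ∃ P ∈ degLT r d, ∀ n, chiT k T F n = evN P n := by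
  have : CompactSpace X := QuasiCompact.compactSpace_of_compactSpace (X ↘ Spec (CommRingCat.of k))
  have : IsLocallyNoetherian X := LocallyOfFiniteType.isLocallyNoetherian (X ↘ Spec (CommRingCat.of k))
  have : IsNoetherian X := ⟨⟩
  intro d
  induction d with
  | zero =>
    intro F _ hd
    refine ⟨0, zero_mem _, fun n => ?_⟩
    rw [chiT_of_isZero k hT (isZero_of_support_empty (eq_empty_of_dim_lt_zero (by simpa using hd))) n]
    simp [evN]
  | succ d ih =>
    intro F hF hd
    refine devissage_ext (fun M => ∃ P ∈ degLT r (d + 1), ∀ n, chiT k T M n = evN P n)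
      (fun M N ⟨e⟩ ⟨P, hP, h⟩ => ⟨P, hP, fun n => (chiT_congr k e n).symm.trans (h n)⟩)
      (fun M hM => ⟨0, zero_mem _, fun n => by rw [chiT_of_isZero k hT hM n]; simp [evN]⟩)
      (X' := CohB1.support F) ?_ ?_ F hF subset_rfl
    · rintro S hS h₁ h₂ h₃ - ⟨P₁, hP₁, e₁⟩ ⟨P₃, hP₃, e₃⟩
      exact ⟨P₁ + P₃, add_mem hP₁ hP₃, fun n => by
        rw [chiT_additive k hT hS h₁ h₂ h₃ n, e₁, e₃, evN, evN, evN, map_add]⟩
    · intro Z i _ _ hZ I ι _ hI _
      let G := (Scheme.Modules.pushforward i).obj I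
      have hG : Coh.IsCoh G := isCoh_push i ι hI
      refine exists_poly_of_diff (fun n => chiT k T G n) fun j => ?_
      obtain ⟨U, hU, ℓ, hℓ⟩ := exists_isBasis (hL j) (i (genericPoint Z))
      obtain ⟨K, f₁, f₂, hK, _, _, hd₁, hd₂⟩ :=
        exists_roof_tensor hG (hL j) hℓ (injective_res_push_ideal i ι hU)
      have hG2 := isCoh_tensorMod hG (hL j)
      have hc₁ := isCoh_cokernel f₁ hK.1 hG
      have hc₂ := isCoh_cokernel f₂ hK.1 hG2
      have hZc : IsClosed (Set.range i) := i.isClosedEmbedding.isClosed_range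
      have hZi : IsIrreducible (Set.range i) := by
        rw [← Set.image_univ]
        exact (IrreducibleSpace.isIrreducible_univ Z).image i i.continuous.continuousOn
      have hdrop : ∀ {C : X.Modules}, Coh.IsCoh C → CohB1.support C ⊆ Set.range i →
          Disjoint (CohB1.support C) U → topologicalKrullDim (CohB1.support C) < (d : WithBot ℕ∞) :=
        fun {C} hC hsub hdisj => dim_lt_of_ssubset (isClosed_support hC.2) hZi hZc
          ⟨hsub, fun h => Set.disjoint_left.mp hdisj (h ⟨_, rfl⟩) hU⟩ ((dim_mono hZ).trans_lt hd)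
      have hsG : CohB1.support G ⊆ Set.range i := support_pushforward_subset i I
      obtain ⟨P₁, hP₁, e₁⟩ := ih (cokernel f₁) hc₁
        (hdrop hc₁ ((support_subset_of_epi (cokernel.π f₁)).trans hsG) hd₁)
      obtain ⟨P₂, hP₂, e₂⟩ := ih (cokernel f₂) hc₂
        (hdrop hc₂ ((support_subset_of_epi (cokernel.π f₂)).trans
          ((support_tensorMod G (hL j)).le.trans hsG)) hd₂)
      refine ⟨P₂ - P₁, sub_mem hP₂ hP₁, fun n => ?_⟩
      rw [chiT_shift k hT hL hstep, evN, map_sub, ← evN, ← evN, ← e₁, ← e₂]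
      have a₁ := chiT_additive k hT (CohFinite.shortExact_cokernel f₁) hK hG hc₁ n
      have a₂ := chiT_additive k hT (CohFinite.shortExact_cokernel f₂) hK hG2 hc₂ n
      dsimp only at a₁ a₂
      rw [a₁, a₂]
      ring

end Groth.Agent.HilbPoly
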