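import Groth.Agent.HilbPoly.Hilb
import Groth.Agent.InvPow.Ample
import Groth.Agent.InvPow.LocusAffine
import Groth.Agent.CohFinite.DevissageGen
import Groth.Agent.CohVanish.AffineMorphism
import Groth.Agent.GeomUnib.HyperplaneFibre
import Groth.Agent.FibDim.Scheme
import Groth.Agent.QCohLib.StalkRestrict
import Mathlib.AlgebraicGeometry.Morphisms.Finite
import Mathlib.RingTheory.Nakayama

/-!
# Positivity of the leading coefficient of a Hilbert polynomial

`exists_dim_le`, `exists_point_of_dim`, `coeff_top_nonneg`, `coeff_top_pos`.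
-/

universe u

open CategoryTheory CategoryTheory.Limits AlgebraicGeometry Opposite TopologicalSpace

set_option backward.isDefEq.respectTransparency false
set_option maxHeartbeats 800000

namespace Groth.Agent.HilbPoly

open InvBasic ProjUniv Groth.Agent.InvPow Groth.Agent.QCohLib Groth.Agent.CohFinite Groth.Agent.CohVanish

variable (k : Type u) [Field k] {X : Scheme.{u}} [X.Over (Spec (CommRingCat.of k))]
  [IsProper (X ↘ Spec (CommRingCat.of k))]

/-! ### Dimensions -/

include k in
theorem exists_dim_closure (x : X) : ∃ n : ℕ, topologicalKrullDim (closure ({x} : Set X)) = n :=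
  (DimTrdeg.exists_dim_closure_eq_trdeg (X ↘ Spec (CommRingCat.of k)) x).imp fun _ h => h.2

omit [X.Over (Spec (CommRingCat.of k))] [IsProper (X ↘ Spec (CommRingCat.of k))] in
theorem dim_le_of_closures {s : Set X} (hs : IsClosed s) {c : WithBot ℕ∞}
    (h : ∀ x ∈ s, topologicalKrullDim (closure ({x} : Set X)) ≤ c) : topologicalKrullDim s ≤ c := by
  have : QuasiSober s := hs.isClosedEmbedding_subtypeVal.quasiSober
  refine FibreDim.dim_le_of_points fun t => ?_
  refine le_trans ?_ (h t.1 t.2)
  rw [← FibreDim.dim_image Topology.IsEmbedding.subtypeVal]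
  exact FibreDim.dim_mono (by rw [FibreDim.closure_singleton_subtype]; exact Set.inter_subset_left)

include k in
theorem exists_dim_le (X : Scheme.{u}) [X.Over (Spec (CommRingCat.of k))]
    [IsProper (X ↘ Spec (CommRingCat.of k))] : ∃ D : ℕ, ∀ s : Set X, topologicalKrullDim s ≤ (D : WithBot ℕ∞) := by
  classical
  have : CompactSpace X := QuasiCompact.compactSpace_of_compactSpace (X ↘ Spec (CommRingCat.of k))
  have : IsLocallyNoetherian X := LocallyOfFiniteType.isLocallyNoetherian (X ↘ Spec (CommRingCat.of k))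
  have : IsNoetherian X := ⟨⟩
  choose n hn using fun x : X => exists_dim_closure k x
  have hfin := (TopologicalSpace.NoetherianSpace.finite_irreducibleComponents (α := X))
  let gen : irreducibleComponents X → X := fun C => IsIrreducible.genericPoint C.2.1
  have := hfin.fintype
  refine ⟨Finset.univ.sup fun C => n (gen C), fun s => ?_⟩
  refine (dim_mono (Set.subset_univ s)).trans (dim_le_of_closures isClosed_univ fun x _ => ?_)
  let C : irreducibleComponents X := ⟨irreducibleComponent x, irreducibleComponent_mem_irreducibleComponents x⟩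
  have hx : x ∈ closure ({gen C} : Set X) := by
    rw [show closure ({gen C} : Set X) = _ from IsIrreducible.isGenericPoint_genericPoint_closure C.2.1, isClosed_irreducibleComponent.closure_eq]
    exact mem_irreducibleComponent
  refine (dim_mono (closure_minimal (Set.singleton_subset_iff.mpr hx) isClosed_closure)).trans ?_
  rw [hn]
  exact_mod_cast Finset.le_sup (f := fun C => n (gen C)) (Finset.mem_univ C)

include k in
theorem exists_point_of_dim {s : Set X} (hs : IsClosed s) {d : ℕ} (h : topologicalKrullDim s = d) :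
    ∃ x ∈ s, topologicalKrullDim (closure ({x} : Set X)) = d := by
  have hle : ∀ x ∈ s, topologicalKrullDim (closure ({x} : Set X)) ≤ d := fun x hx =>
    (dim_mono (closure_minimal (Set.singleton_subset_iff.mpr hx) hs)).trans h.le
  rcases d with _ | d
  · obtain ⟨x, hx⟩ : s.Nonempty := by
      by_contra hne
      rw [Set.not_nonempty_iff_eq_empty.mp hne,
        show topologicalKrullDim (∅ : Set X) = ⊥ from Order.krullDim_eq_bot_iff.mpr
          ⟨fun C => C.2.nonempty.elim fun z _ => z.2.elim⟩] at h
      exact absurd h.symm (by simp)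
    obtain ⟨n, hn⟩ := exists_dim_closure k x
    have := hle x hx
    rw [hn] at this
    obtain rfl : n = 0 := Nat.le_zero.mp (by exact_mod_cast this)
    exact ⟨x, hx, hn⟩
  · by_contra hc
    push Not at hc
    have : topologicalKrullDim s ≤ (d : WithBot ℕ∞) := dim_le_of_closures hs fun x hx => by
      obtain ⟨n, hn⟩ := exists_dim_closure k x
      have h1 := hle x hx
      have h2 := hc x hx
      rw [hn] at h1 h2 ⊢
      have h1' : n ≤ d + 1 := by exact_mod_cast h1
      have h2' : n ≠ d + 1 := fun e => h2 (by rw [e])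
      exact_mod_cast (show n ≤ d by omega)
    rw [h] at this
    have : d + 1 ≤ d := by exact_mod_cast this
    omega

omit [X.Over (Spec (CommRingCat.of k))] [IsProper (X ↘ Spec (CommRingCat.of k))] in
theorem eq_of_dim_closure {w w' : X} (h : w' ⤳ w) {a b : ℕ}
    (ha : topologicalKrullDim (closure ({w} : Set X)) = a) (hb : topologicalKrullDim (closure ({w'} : Set X)) = b)
    (hab : b ≤ a) : w = w' := by
  by_contra hne
  have h1 : closure ({w} : Set X) ⊆ closure {w'} :=
    closure_minimal (Set.singleton_subset_iff.mpr h.mem_closure) isClosed_closure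
  have h2 : closure ({w} : Set X) ≠ closure {w'} := fun e =>
    hne (inseparable_iff_closure_eq.mpr e).eq
  have := dim_add_one_le isClosed_closure isIrreducible_singleton.closure isClosed_closure
    (h1.ssubset_of_ne h2) ⟨w, subset_closure rfl⟩
  rw [ha, hb] at this
  have : a + 1 ≤ b := by exact_mod_cast this
  omega

omit [X.Over (Spec (CommRingCat.of k))] [IsProper (X ↘ Spec (CommRingCat.of k))] in
theorem range_eq_closure {Z : Scheme.{u}} [IsIntegral Z] (i : Z ⟶ X) [IsClosedImmersion i] :
    Set.range i = closure {i (genericPoint Z)} := by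
  refine subset_antisymm ?_ (closure_minimal (Set.singleton_subset_iff.mpr ⟨_, rfl⟩)
    i.isClosedEmbedding.isClosed_range)
  rintro _ ⟨z, rfl⟩
  exact (((genericPoint_spec Z).specializes (Set.mem_univ z)).map i.continuous).mem_closure

/-! ### Multiplication by a section -/

/-- `m ↦ m ⊗ t`. -/
noncomputable def mulSection (G : X.Modules) {E : X.Modules} (t : Γ(E, ⊤)) : G ⟶ CohB1.tensorMod G E :=
  ⟨PresheafOfModules.homMk (M₁ := G.val) (M₂ := (CohB1.tensorMod G E).val)
    { app := fun W => AddCommGrpCat.ofHom (AddMonoidHom.mk'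
        (fun m : Γ(G, W.unop) => SecTwist.tmul G E W.unop m (gres E t W.unop))
        fun a b => ProjCoh.tmul_add_left G E _ a b _)
      naturality := fun {W W'} g => by
        ext m
        change SecTwist.tmul G E _ (res G g.unop.le m) (gres E t W'.unop) =
          res (CohB1.tensorMod G E) g.unop.le (SecTwist.tmul G E _ m (gres E t W.unop))
        rw [res_tmul, res_gres] }
    fun W r (m : Γ(G, W.unop)) => ProjCoh.tmul_smul_left G E _ _ _ _⟩

omit [X.Over (Spec (CommRingCat.of k))] [IsProper (X ↘ Spec (CommRingCat.of k))] in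
theorem mulSection_app (G : X.Modules) {E : X.Modules} (t : Γ(E, ⊤)) (W : X.Opens) (m : Γ(G, W)) :
    (mulSection G t).app W m = SecTwist.tmul G E W m (gres E t W) := rfl

omit [X.Over (Spec (CommRingCat.of k))] [IsProper (X ↘ Spec (CommRingCat.of k))] in
theorem bijective_mulSection (G : X.Modules) {E : X.Modules} (hE : PicF.IsInvertible E) (t : Γ(E, ⊤))
    {W : X.Opens} (hW : W ≤ genOpen hE t) : Function.Bijective ((mulSection G t).app W) := by
  have h := tmul_bij G (isBasis_genOpen hE t) hW
  simp only [res_gres] at h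
  exact h

omit [X.Over (Spec (CommRingCat.of k))] [IsProper (X ↘ Spec (CommRingCat.of k))] in
theorem mono_mulSection (G : X.Modules) {E : X.Modules} (hE : PicF.IsInvertible E) (t : Γ(E, ⊤))
    (hinj : ∀ W : X.Opens, Function.Injective (res G (inf_le_left : W ⊓ genOpen hE t ≤ W))) :
    Mono (mulSection G t) := by
  rw [mono_iff_app_injective]
  intro W a b hab
  apply hinj W
  apply (bijective_mulSection G hE t (inf_le_right : W ⊓ genOpen hE t ≤ genOpen hE t)).1
  exact (QCohLib.app_map (mulSection G t) inf_le_left a).trans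
    ((congrArg _ hab).trans (QCohLib.app_map (mulSection G t) inf_le_left b).symm)

omit [X.Over (Spec (CommRingCat.of k))] [IsProper (X ↘ Spec (CommRingCat.of k))] in
theorem disjoint_support_cokernel_mulSection (G : X.Modules) {E : X.Modules} (hE : PicF.IsInvertible E)
    (t : Γ(E, ⊤)) : Disjoint (CohB1.support (cokernel (mulSection G t))) (genOpen hE t) := by
  rw [Set.disjoint_right]
  refine fun x hx => notMem_support_cokernel _ x fun y => ?_
  obtain ⟨U, hxU, s, rfl⟩ := (CohB1.tensorMod G E).presheaf.exists_germ_eq y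
  obtain ⟨m, hm⟩ := (bijective_mulSection G hE t (inf_le_right : U ⊓ genOpen hE t ≤ genOpen hE t)).2
    (res (CohB1.tensorMod G E) inf_le_left s)
  refine ⟨G.presheaf.germ (U ⊓ genOpen hE t) x ⟨hxU, hx⟩ m, ?_⟩
  rw [stalkHom_germ, hm]
  exact TopCat.Presheaf.germ_res_apply _ _ _ _ _

omit [X.Over (Spec (CommRingCat.of k))] [IsProper (X ↘ Spec (CommRingCat.of k))] in
/-- Off the non-vanishing locus the cokernel is nonzero on the support. -/
theorem mem_support_cokernel_mulSection [IsLocallyNoetherian X] {G : X.Modules} (hG : Coh.IsCoh G) {E : X.Modules}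
    (hE : PicF.IsInvertible E) (t : Γ(E, ⊤)) [Mono (mulSection G t)] {y : X} (hy : y ∈ CohB1.support G)
    (hyt : y ∉ genOpen hE t) : y ∈ CohB1.support (cokernel (mulSection G t)) := by
  intro hsub
  rw [← support_tensorMod G hE] at hy
  apply hy
  obtain ⟨V, hyV, ℓ, hℓ⟩ := exists_isBasis hE y
  obtain ⟨c, hc⟩ := InvPow.exists_coef hℓ (gres E t V)
  have hcy : ¬ IsUnit (X.presheaf.germ V y hyV c) := fun hu => hyt
    ((genOpen_inf_eq_basicOpen hE hℓ hc).ge ((X.mem_basicOpen c y hyV).mpr hu)).1
  let m := IsLocalRing.maximalIdeal (X.presheaf.stalk y)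
  have hfin := finite_stalk (isCoh_tensorMod hG hE) y
  have htop : (⊤ : Submodule (X.presheaf.stalk y) ((CohB1.tensorMod G E).presheaf.stalk y)) ≤
      m • ⊤ := by
    rintro z -
    obtain ⟨b, hb⟩ := (stalk_exact_of_shortExact (shortExact_cokernel (mulSection G t)) y z).1
      (hsub.elim _ _)
    obtain ⟨U, hyU, g, rfl⟩ := G.presheaf.exists_germ_eq b
    rw [← hb]
    change stalkHom (mulSection G t) y _ ∈ _
    rw [← TopCat.Presheaf.germ_res_apply G.presheaf (homOfLE (inf_le_left : U ⊓ V ≤ U)) y ⟨hyU, hyV⟩ g,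
      stalkHom_germ, mulSection_app, ← res_gres E t (inf_le_right : U ⊓ V ≤ V), hc, res_smul,
      ProjCoh.tmul_smul_right, ProjCoh.tmul_smul_left, QCohLib.germ_smul]
    refine Submodule.smul_mem_smul ?_ Submodule.mem_top
    rw [show X.presheaf.germ (U ⊓ V) y ⟨hyU, hyV⟩ (resR inf_le_right c) = X.presheaf.germ V y hyV c from
      TopCat.Presheaf.germ_res_apply _ _ _ _ _]
    exact hcy
  have := Submodule.eq_bot_of_le_smul_of_le_jacobson_bot m ⊤ hfin.fg_top htop
    (IsLocalRing.maximalIdeal_le_jacobson ⊥)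
  exact ⟨fun a b => by
    have ha : a ∈ (⊥ : Submodule (X.presheaf.stalk y) ((CohB1.tensorMod G E).presheaf.stalk y)) :=
      this ▸ Submodule.mem_top
    have hb : b ∈ (⊥ : Submodule (X.presheaf.stalk y) ((CohB1.tensorMod G E).presheaf.stalk y)) :=
      this ▸ Submodule.mem_top
    rw [(Submodule.mem_bot _).mp ha, (Submodule.mem_bot _).mp hb]⟩

/-! ### Cutting by a section -/

include k in
/-- A point of codimension one outside a non-vanishing locus. -/
theorem exists_drop {E : X.Modules} (hE : PicF.IsInvertible E) (t : Γ(E, ⊤)) {z₀ y₀ : X}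
    (hz₀ : z₀ ∈ genOpen hE t) (hs₀ : z₀ ⤳ y₀) (hy₀ : y₀ ∉ genOpen hE t) {e : ℕ}
    (he : topologicalKrullDim (closure ({z₀} : Set X)) = (e + 1 : ℕ)) :
    ∃ w, z₀ ⤳ w ∧ w ∉ genOpen hE t ∧ topologicalKrullDim (closure ({w} : Set X)) = (e : ℕ) := by
  classical
  have : IsLocallyNoetherian X := LocallyOfFiniteType.isLocallyNoetherian (X ↘ Spec (CommRingCat.of k))
  choose n hn using fun x : X => exists_dim_closure k x
  have hbd : ∀ x, z₀ ⤳ x → n x ≤ e + 1 := fun x hx => by
    have := dim_mono (closure_minimal (Set.singleton_subset_iff.mpr hx.mem_closure) isClosed_closure)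
    rw [hn, he] at this
    exact_mod_cast this
  let p : ℕ → Prop := fun j => ∃ x, z₀ ⤳ x ∧ x ∉ genOpen hE t ∧ n x = j
  have hp : p (Nat.findGreatest p (e + 1)) :=
    Nat.findGreatest_spec (hbd y₀ hs₀) ⟨y₀, hs₀, hy₀, rfl⟩
  obtain ⟨w, hsw, hw, hnw⟩ := hp
  have hmax : ∀ x, z₀ ⤳ x → x ∉ genOpen hE t → x ⤳ w → x = w := fun x hx hxt hxw =>
    (eq_of_dim_closure hxw (hn w) (hn x)
      (hnw ▸ Nat.le_findGreatest (hbd x hx) ⟨x, hx, hxt, rfl⟩)).symm
  refine ⟨w, hsw, hw, ?_⟩
  obtain ⟨V₀, hwV₀, ℓ, hℓ⟩ := exists_isBasis hE w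
  obtain ⟨c, hc⟩ := InvPow.exists_coef hℓ (gres E t V₀)
  have hbo := genOpen_inf_eq_basicOpen hE hℓ hc
  let V := V₀
  let f := V.ι ≫ X ↘ Spec (CommRingCat.of k)
  let g : Γ(V.toScheme, ⊤) := V.ι.appLE V ⊤ (by simp) c
  let m : V.toScheme := ⟨z₀, hsw.mem_open V.2 hwV₀⟩
  let z : V.toScheme := ⟨w, hwV₀⟩
  have hz : ∀ x : V.toScheme, x ∈ V.toScheme.zeroLocus ({g} : Set Γ(V.toScheme, ⊤)) ↔ x.1 ∉ genOpen hE t := by
    intro x
    rw [Scheme.zeroLocus_singleton, Set.mem_compl_iff, not_iff_not]
    have e1 : V.toScheme.basicOpen g = V.ι ⁻¹ᵁ X.basicOpen c := by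
      simp only [g]
      rw [Scheme.basicOpen_appLE, top_inf_eq]
    rw [SetLike.mem_coe, e1, ← hbo]
    exact ⟨fun h => h.1, fun h => ⟨h, x.2⟩⟩
  have hspec : ∀ x : V.toScheme, ∀ y : V.toScheme, x ⤳ y → x.1 ⤳ y.1 := fun x y h => h.map continuous_subtype_val
  have hfd : ∀ x : V.toScheme, FibreDim.fdim f x = n x.1 := fun x => by
    have : f.base ⁻¹' {f.base x} = Set.univ := Set.eq_univ_of_forall fun y => Subsingleton.elim _ _
    rw [FibreDim.fdim, this, Set.inter_univ, ← FibDim.dim_closure_openImmersion V.ι (X ↘ Spec (CommRingCat.of k)) x]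
    exact hn x.1
  have h : m ⤳ z := (subtype_specializes_iff m z).mpr hsw
  obtain ⟨a, ha, hab⟩ := GeomUnib.fdim_minimal_zero f g h (Subsingleton.elim _ _)
    (fun hm => (hz m).mp hm hz₀) ((hz z).mpr hw)
    (fun x hx _ hmx hxz => Subtype.ext (hmax x.1 (hspec _ _ hmx) ((hz x).mp hx) (hspec _ _ hxz)))
    ((hfd m).trans (by rw [show n m.1 = e + 1 from by exact_mod_cast (hn z₀).symm.trans he]))
  rw [hfd z] at ha
  have ha' : n w = a := by exact_mod_cast ha
  rw [hn, ha', show a = e by omega]

theorem coeff_comp_X_add_C {P : Polynomial ℚ} {e : ℕ} (hP : P.natDegree ≤ e + 1) (r : ℚ) :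
    (P.comp (Polynomial.X + Polynomial.C r)).coeff e = P.coeff e + (e + 1) * r * P.coeff (e + 1) := by
  conv_lhs => rw [P.as_sum_range_C_mul_X_pow' (Nat.lt_succ_of_le hP)]
  simp only [Polynomial.sum_comp, Polynomial.mul_comp, Polynomial.pow_comp, Polynomial.C_comp,
    Polynomial.X_comp, Polynomial.finsetSum_coeff, Polynomial.coeff_C_mul, Polynomial.coeff_X_add_C_pow]
  rw [Finset.sum_range_succ, Finset.sum_range_succ,
    Finset.sum_eq_zero fun j hj => by rw [Nat.choose_eq_zero_of_lt (Finset.mem_range.mp hj)]; simp]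
  simp only [Nat.sub_self, pow_zero, Nat.choose_self, Nat.choose_succ_self_right,
    show e + 1 - e = 1 by omega, pow_one]
  push_cast
  ring

/-! ### Zero-dimensional supports -/

theorem euler_pos_of_subsingleton {Z : Scheme.{u}} [IsLocallyNoetherian X] (i : Z ⟶ X) [IsClosedImmersion i]
    [Subsingleton Z] {I : Z.Modules} (ι : I ⟶ Coh.structureModule Z) [Mono ι] (hI : Coh.IsQCoh I)
    (hI0 : ¬ IsZero I) : 0 < Curv2.euler k X ((Coh.push i).obj I) := by
  have hG := isCoh_push_ideal i ι hI
  have : I.IsQuasicoherent := hI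
  obtain ⟨z₀, -⟩ : ∃ x : Z, ¬ Subsingleton (I.presheaf.stalk x) := by
    by_contra hc
    push Not at hc
    exact hI0 (isZero_of_subsingleton_stalk hc)
  have htop : ∀ (U : Z.Opens) (x : Z), x ∈ U → U = ⊤ := fun U x hx =>
    top_unique fun y _ => Subsingleton.elim x y ▸ hx
  have : IsAffine Z := by
    obtain ⟨U, hU, hxU, -⟩ := exists_isAffineOpen_mem_and_subset (X := Z) (x := z₀) (U := ⊤) trivial
    rw [htop U _ hxU] at hU
    have : IsAffine (⊤ : Z.Opens).toScheme := hU
    exact IsAffine.of_isIso (Scheme.topIso Z).inv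
  have hvan : ∀ n, 1 ≤ n → Subsingleton (Coh.HH X ((Coh.push i).obj I) n) := fun n hn => by
    obtain ⟨e⟩ := nonempty_HH_push_equiv i I n
    have := subsingleton_HH_of_isAffine Z I n hn
    exact e.symm.injective.subsingleton
  have : Nontrivial (Coh.HH X ((Coh.push i).obj I) 0) := by
    obtain ⟨e⟩ := nonempty_HH_push_equiv i I 0
    have e₀ : Coh.HH Z I 0 ≃+ (Coh.toAb I).obj.obj (op ⊤) :=
      Sheaf.H.equiv₀ (Coh.toAb I) (T := (⊤ : Z.Opens)) isTerminalTop
    by_contra hc
    rw [not_nontrivial_iff_subsingleton] at hc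
    have : Subsingleton Γ(I, ⊤) := (e.symm.trans e₀).symm.injective.subsingleton
    refine hI0 (isZero_of_subsingleton_stalk fun x => subsingleton_of_forall_eq 0 fun y => ?_)
    obtain ⟨U, hxU, s, rfl⟩ := I.presheaf.exists_germ_eq y
    obtain rfl := htop U x hxU
    rw [Subsingleton.elim s 0, map_zero]
  have := finite_HH (k := k) hG 0
  rw [euler_eq_sum (N := 1) hvan, Finset.sum_range_one]
  simp only [pow_zero, one_mul, hdim, Nat.cast_pos]
  exact Module.finrank_pos

/-! ### The theorem -/

omit [X.Over (Spec (CommRingCat.of k))] [IsProper (X ↘ Spec (CommRingCat.of k))] in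
theorem support_eq_empty_of_isZero {M : X.Modules} (h : IsZero M) : CohB1.support M = ∅ := by
  refine Set.eq_empty_iff_forall_notMem.mpr fun x hx => hx (subsingleton_of_forall_eq 0 fun m => ?_)
  rw [← stalkHom_id (M := M) x m, (h.eq_of_src (𝟙 M) 0), stalkHom_zero]

variable {L : X.Modules} (hL : CohB1.IsAmple L)

include hL in
theorem coeff_top_aux : ∀ (d : ℕ) (F : X.Modules), Coh.IsCoh F →
    topologicalKrullDim (CohB1.support F) ≤ (d : WithBot ℕ∞) → ∀ P, ShStab.IsHilbPoly k X L F P →
      0 ≤ P.coeff d ∧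
        ∀ z ∈ CohB1.support F, topologicalKrullDim (closure ({z} : Set X)) = d → 0 < P.coeff d := by
  have : CompactSpace X := QuasiCompact.compactSpace_of_compactSpace (X ↘ Spec (CommRingCat.of k))
  have : IsLocallyNoetherian X := LocallyOfFiniteType.isLocallyNoetherian (X ↘ Spec (CommRingCat.of k))
  have : IsNoetherian X := ⟨⟩
  intro d
  induction d using Nat.strong_induction_on with
  | _ d ih =>
  intro F hF hd
  refine devissage_ext
    (fun M => ∀ P, ShStab.IsHilbPoly k X L M P → 0 ≤ P.coeff d ∧
        ∀ z ∈ CohB1.support M, topologicalKrullDim (closure ({z} : Set X)) = d → 0 < P.coeff d)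
    (fun M N ⟨e⟩ h P hP => by
      rw [← support_eq_of_iso e]
      exact h P (hilbPoly_congr e.symm hP))
    (fun M hM P hP => by
      obtain ⟨P₀, hP₀, h₀⟩ := exists_hilbPoly (k := k) hL.1 (isCoh_of_isZero hM) (d := 0) (by
        rw [support_eq_empty_of_isZero hM]
        exact (Order.krullDim_eq_bot_iff.mpr
          ⟨fun C => C.2.nonempty.elim fun z _ => z.2.elim⟩).trans_lt (WithBot.bot_lt_coe _))
      rw [hilbPoly_unique hP h₀, support_eq_empty_of_isZero hM, hP₀ d (Nat.zero_le _)]
      exact ⟨le_rfl, fun z hz => hz.elim⟩)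
    (X' := CohB1.support F) ?_ ?_ F hF subset_rfl
  · intro S hS h₁ h₂ h₃ hsub e₁ e₃ P hP
    obtain ⟨D, hD⟩ := exists_dim_le k X
    obtain ⟨P₁, -, hP₁⟩ := exists_hilbPoly' (k := k) hL.1 h₁ (hD _)
    obtain ⟨P₃, -, hP₃⟩ := exists_hilbPoly' (k := k) hL.1 h₃ (hD _)
    rw [hilbPoly_additive hL.1 hS h₁ h₂ h₃ hP₁ hP hP₃, Polynomial.coeff_add,
      support_eq_union_of_shortExact hS]
    obtain ⟨a₁, b₁⟩ := e₁ P₁ hP₁
    obtain ⟨a₃, b₃⟩ := e₃ P₃ hP₃
    refine ⟨add_nonneg a₁ a₃, fun z hz hzd => ?_⟩
    rcases hz with hz | hz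
    · exact add_pos_of_pos_of_nonneg (b₁ z hz hzd) a₃
    · exact add_pos_of_nonneg_of_pos a₁ (b₃ z hz hzd)
  · intro Z i _ _ hZ I ι _ hI hI0 P hP
    have hG : Coh.IsCoh ((Coh.push i).obj I) := isCoh_push_ideal i ι hI
    have hR := range_eq_closure i
    have hsG : CohB1.support ((Coh.push i).obj I) ⊆ Set.range i := support_pushforward_subset i I
    have hgenmem : i (genericPoint Z) ∈ CohB1.support ((Coh.push i).obj I) := fun hsub => by
      obtain ⟨e⟩ := exists_residueField_equiv i ι hI0
      have := e.injective.subsingleton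
      exact absurd (Subsingleton.elim (1 : IsLocalRing.ResidueField (X.presheaf.stalk (i (genericPoint Z)))) 0)
        one_ne_zero
    have hRG : Set.range i ⊆ CohB1.support ((Coh.push i).obj I) := hR.le.trans
      (closure_minimal (Set.singleton_subset_iff.mpr hgenmem) (isClosed_support hG.2))
    obtain ⟨e, he⟩ := exists_dim_closure k (i (genericPoint Z))
    have hed : e ≤ d := by
      have := ((dim_mono (hR.ge.trans hZ)).trans hd)
      rw [he] at this
      exact_mod_cast this
    have hsd : topologicalKrullDim (CohB1.support ((Coh.push i).obj I)) ≤ e :=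
      (dim_mono (hsG.trans hR.le)).trans he.le
    obtain ⟨P', hP', hP''⟩ := exists_hilbPoly' (k := k) hL.1 hG hsd
    obtain rfl := hilbPoly_unique hP hP''
    rcases hed.lt_or_eq with hlt | rfl
    · refine ⟨(Polynomial.natDegree_le_iff_coeff_eq_zero.mp hP' d hlt).ge, fun z hz hzd => ?_⟩
      have h1 := (dim_mono (closure_minimal (Set.singleton_subset_iff.mpr hz)
        (isClosed_support hG.2))).trans hsd
      rw [hzd] at h1
      have : d ≤ e := by exact_mod_cast h1
      omega
    suffices h : 0 < P.coeff e from ⟨h.le, fun _ _ _ => h⟩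
    rcases e with _ | e
    · -- a single point
      have hone : ∀ y ∈ closure ({i (genericPoint Z)} : Set X), y = i (genericPoint Z) := fun y hy => by
        obtain ⟨n, hn⟩ := exists_dim_closure k y
        exact eq_of_dim_closure (specializes_iff_mem_closure.mpr hy) hn he (Nat.zero_le _)
      have : Subsingleton Z := ⟨fun a b => i.isClosedEmbedding.injective
        ((hone _ (hR.le ⟨a, rfl⟩)).trans (hone _ (hR.le ⟨b, rfl⟩)).symm)⟩
      have h0 : (Curv2.euler k X ((Coh.push i).obj I) : ℚ) = P.eval ((0 : ℕ) : ℚ) := by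
        rw [← hP 0]
        exact congrArg Int.cast (euler_congr ((SecTwist.unitorR _).symm))
      rw [Nat.cast_zero, ← Polynomial.coeff_zero_eq_eval_zero] at h0
      rw [← h0]
      exact Int.cast_pos.mpr (euler_pos_of_subsingleton k i ι hI hI0)
    · obtain ⟨N, hN, s, hz₀, haff⟩ := affLoci_of_isAmple hL (i (genericPoint Z))
      have hE := isInvertible_tensorPow hL.1 N
      obtain ⟨y₀, hy₀, hy₀t⟩ : ∃ y, i (genericPoint Z) ⤳ y ∧ y ∉ genOpen hE s := by
        by_contra hc
        push Not at hc
        have : IsAffine Z := by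
          have h := haff.preimage i
          rw [show i ⁻¹ᵁ genOpen hE s = ⊤ from top_unique fun z _ =>
            hc (i z) (((genericPoint_spec Z).specializes (Set.mem_univ z)).map i.continuous)] at h
          have : IsAffine (⊤ : Z.Opens).toScheme := h
          exact IsAffine.of_isIso (Scheme.topIso Z).inv
        let f := i ≫ X ↘ Spec (CommRingCat.of k)
        have : IsAffineHom f := inferInstance
        have hfin : IsFinite f := IsFinite.iff_isProper_and_isAffineHom.mpr ⟨inferInstance, inferInstance⟩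
        have : Finite Z := by
          have := hfin
          rw [← Set.finite_univ_iff]
          have h : (Set.univ : Set Z) = f ⁻¹' {f (genericPoint Z)} :=
            (Set.eq_univ_of_forall fun y => Subsingleton.elim _ _).symm
          rw [h]
          exact f.finite_preimage_singleton _
        have : JacobsonSpace Z := LocallyOfFiniteType.jacobsonSpace f
        have : DiscreteTopology Z := inferInstance
        have hone : ∀ z : Z, z = genericPoint Z := fun z =>
          ((specializes_iff_mem_closure.mp ((genericPoint_spec Z).specializes (Set.mem_univ z))) |> fun h => by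
            rwa [(isClosed_discrete _).closure_eq, Set.mem_singleton_iff] at h)
        obtain ⟨x, hxs, hx⟩ := exists_point_of_dim k (isClosed_closure (s := {i (genericPoint Z)})) he
        have hsing : closure ({i (genericPoint Z)} : Set X) = {i (genericPoint Z)} := by
          rw [← hR]
          ext y
          exact ⟨fun ⟨z, hz⟩ => by rw [← hz, hone z]; rfl, fun hy => ⟨_, hy.symm⟩⟩
        rw [hsing] at he
        have : topologicalKrullDim ({i (genericPoint Z)} : Set X) ≤ 0 :=
          by
          have : Subsingleton (IrreducibleCloseds ({i (genericPoint Z)} : Set X)) := ⟨fun a b => by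
            refine IrreducibleCloseds.ext ?_
            rw [a.isIrreducible.nonempty.eq_univ, b.isIrreducible.nonempty.eq_univ]⟩
          exact Order.krullDim_nonpos_of_subsingleton
        rw [he] at this
        exact absurd this (by exact_mod_cast Nat.succ_ne_zero e ∘ Nat.le_zero.mp)
      obtain ⟨w, hw, hwt, hwd⟩ := exists_drop k hE s hz₀ hy₀ hy₀t he
      have := mono_mulSection ((Coh.push i).obj I) hE s (injective_res_push_ideal i ι hz₀)
      have hG2 := isCoh_tensorMod hG hE
      have hQ := isCoh_cokernel (mulSection ((Coh.push i).obj I) s) hG.1 hG2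
      have hwQ := mem_support_cokernel_mulSection hG hE s (hRG (hR.ge hw.mem_closure)) hwt
      have hsQ : CohB1.support (cokernel (mulSection ((Coh.push i).obj I) s)) ⊆ Set.range i :=
        ((support_subset_of_epi (cokernel.π _)).trans (support_tensorMod _ hE).le).trans hsG
      have hQd : topologicalKrullDim (CohB1.support (cokernel (mulSection ((Coh.push i).obj I) s))) ≤
          (e : WithBot ℕ∞) := by
        obtain ⟨D, hD⟩ := exists_dim_le k X
        refine dim_le_of_closures (isClosed_support hQ.2) fun x hx => ?_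
        obtain ⟨n, hn⟩ := exists_dim_closure k x
        have hxc : i (genericPoint Z) ⤳ x := specializes_iff_mem_closure.mpr (hR.le (hsQ hx))
        by_contra hc
        rw [hn, not_le] at hc
        have hne : n ≥ e + 1 := by exact_mod_cast hc
        have := eq_of_dim_closure hxc hn he hne
        subst this
        exact Set.disjoint_left.mp (disjoint_support_cokernel_mulSection _ hE s) hx hz₀
      obtain ⟨PQ, -, hPQ⟩ := exists_hilbPoly' (k := k) hL.1 hQ hQd
      have hpos := (ih e (Nat.lt_succ_self e) _ hQ hQd PQ hPQ).2 w hwQ hwd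
      have hadd := hilbPoly_additive hL.1 (shortExact_cokernel (mulSection ((Coh.push i).obj I) s)) hG hG2 hQ
        hP (hilbPoly_shift hL.1 N hP) hPQ
      have hc := congrArg (fun p => Polynomial.coeff p e) hadd
      simp only [coeff_comp_X_add_C hP', Polynomial.coeff_add] at hc
      have : 0 < ((e : ℚ) + 1) * N * P.coeff (e + 1) := by linarith
      exact (mul_pos_iff_of_pos_left (by positivity)).mp this

include hL in
theorem coeff_top_nonneg {F : X.Modules} (hF : Coh.IsCoh F) {d : ℕ}
    (hd : topologicalKrullDim (CohB1.support F) ≤ (d : WithBot ℕ∞)) {P : Polynomial ℚ}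
    (hP : ShStab.IsHilbPoly k X L F P) : 0 ≤ P.coeff d :=
  (coeff_top_aux k hL d F hF hd P hP).1

include hL in
theorem coeff_top_pos {F : X.Modules} (hF : Coh.IsCoh F) {d : ℕ}
    (hd : topologicalKrullDim (CohB1.support F) = (d : WithBot ℕ∞)) {P : Polynomial ℚ}
    (hP : ShStab.IsHilbPoly k X L F P) : 0 < P.coeff d := by
  obtain ⟨z, hz, hzd⟩ := exists_point_of_dim k (isClosed_support hF.2) hd
  exact (coeff_top_aux k hL d F hF hd.le P hP).2 z hz hzd

end Groth.Agent.HilbPoly
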