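import Groth.Agent.HilbPoly.PushForm
import Groth.Agent.HilbPoly.Positive
import Groth.Agent.CohFinite.Generic
import Groth.Agent.CohFinite.ProperFinite
import Groth.Agent.QCohLib.Cover

/-!
# The leading part of `χ(F ⊗ L_1^{n_1} ⊗ ⋯)`: contributions of the components of top dimension
-/

universe u

open CategoryTheory CategoryTheory.Limits AlgebraicGeometry Opposite TopologicalSpace

set_option backward.isDefEq.respectTransparency false
set_option maxHeartbeats 800000

namespace Groth.Agent.HilbPoly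

open InvBasic ProjUniv Groth.Agent.InvPow Groth.Agent.QCohLib Groth.Agent.CohFinite

variable {X : Scheme.{u}}

/-- The length of a stalk. -/
noncomputable def stkLen (M : X.Modules) (ξ : X) : ℕ∞ :=
  Module.length (X.presheaf.stalk ξ) (M.presheaf.stalk ξ)

theorem stkLen_additive {S : ShortComplex X.Modules} (hS : S.ShortExact) (ξ : X) :
    stkLen S.X₂ ξ = stkLen S.X₁ ξ + stkLen S.X₃ ξ := by
  refine Module.length_eq_add_of_exact (stalkLinearMap S.f ξ) (stalkLinearMap S.g ξ) ?_ ?_ fun m => ?_
  · intro a b h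
    rw [stalkLinearMap_apply, stalkLinearMap_apply] at h
    exact (mono_iff_stalk_injective S.f).mp hS.mono_f ξ h
  · intro y
    obtain ⟨x, hx⟩ := (epi_iff_stalk_surjective S.g).mp hS.epi_g ξ y
    exact ⟨x, by rw [stalkLinearMap_apply]; exact hx⟩
  · rw [stalkLinearMap_apply, stalk_exact_of_shortExact hS ξ m]
    exact ⟨fun ⟨c, hc⟩ => ⟨c, by rw [stalkLinearMap_apply]; exact hc⟩,
      fun ⟨c, hc⟩ => ⟨c, by rwa [stalkLinearMap_apply] at hc⟩⟩

theorem stkLen_eq_zero {M : X.Modules} {ξ : X} (h : ξ ∉ CohB1.support M) : stkLen M ξ = 0 :=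
  Module.length_eq_zero_iff.mpr (not_not.mp h)

theorem notMem_support_of_stkLen_eq_zero {M : X.Modules} {ξ : X} (h : stkLen M ξ = 0) :
    ξ ∉ CohB1.support M := fun hs => hs (Module.length_eq_zero_iff.mp h)

theorem stkLen_congr {M N : X.Modules} (e : M ≅ N) (ξ : X) : stkLen M ξ = stkLen N ξ := by
  refine (LinearEquiv.ofBijective (stalkLinearMap e.hom ξ) ⟨fun a b h => ?_, fun y => ?_⟩).length_eq
  · rw [stalkLinearMap_apply, stalkLinearMap_apply] at h
    exact (mono_iff_stalk_injective e.hom).mp inferInstance ξ h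
  · obtain ⟨x, hx⟩ := (epi_iff_stalk_surjective e.hom).mp inferInstance ξ y
    exact ⟨x, by rw [stalkLinearMap_apply]; exact hx⟩

/-- The stalk of `i_* O_Z` at the generic point of `Z` has length one. -/
theorem stkLen_push_structureModule {Z : Scheme.{u}} [IsIntegral Z] (i : Z ⟶ X) [IsClosedImmersion i] :
    stkLen ((Coh.push i).obj (Coh.structureModule Z)) (i (genericPoint Z)) = 1 := by
  rw [stkLen, ← ((genMap i).quotKerEquivOfSurjective (genMap_surjective i)).length_eq, ker_genMap,
    Module.length_eq_one_iff]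
  exact isSimpleModule_iff_isCoatom.mpr
    (Ideal.isMaximal_def.mp (IsLocalRing.maximalIdeal.isMaximal _))

/-- A reduced closed immersion is the inclusion of the reduced subscheme on its range. -/
theorem ker_eq_vanishingIdeal {Z : Scheme.{u}} [IsReduced Z] (i : Z ⟶ X) [IsClosedImmersion i]
    {C : Closeds X} (hC : Set.range i = C) : i.ker = Scheme.IdealSheafData.vanishingIdeal C := by
  refine le_antisymm ?_ fun U a ha => ?_
  · rw [← Scheme.IdealSheafData.le_support_iff_le_vanishingIdeal]
    intro x hx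
    exact (Scheme.Hom.support_ker i).ge (subset_closure (hC.ge hx))
  · rw [Scheme.Hom.ker_apply, RingHom.mem_ker]
    change i.app U.1 a = 0
    rw [← basicOpen_eq_bot_iff, ← Scheme.preimage_basicOpen]
    refine le_bot_iff.1 fun w hw => ?_
    obtain ⟨p, hp⟩ := U.2.range_fromSpec.ge (X.basicOpen_le a hw)
    have hb : p ∈ U.2.fromSpec ⁻¹ᵁ X.basicOpen a := by
      change U.2.fromSpec p ∈ X.basicOpen a
      rw [hp]; exact hw
    rw [U.2.fromSpec_preimage_basicOpen] at hb
    exact (hb ((PrimeSpectrum.mem_vanishingIdeal _ _).1 ha p (by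
      change U.2.fromSpec p ∈ (C : Set X)
      rw [hp]; exact hC.le ⟨w, rfl⟩))).elim

/-- Structure sheaves of reduced closed subschemes with the same range. -/
theorem nonempty_push_structureModule_iso {Z : Scheme.{u}} [IsReduced Z] (i : Z ⟶ X)
    [IsClosedImmersion i] {C : Closeds X} (hC : Set.range i = C) :
    Nonempty ((Coh.push i).obj (Coh.structureModule Z) ≅
      (Coh.push (Scheme.IdealSheafData.vanishingIdeal C).subschemeι).obj
        (Coh.structureModule (Scheme.IdealSheafData.vanishingIdeal C).subscheme)) := by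
  let j := (Scheme.IdealSheafData.vanishingIdeal C).subschemeι
  have hk : j.ker = i.ker := by
    rw [ker_eq_vanishingIdeal i hC]
    exact Scheme.IdealSheafData.ker_subschemeι _
  let a := IsClosedImmersion.lift j i hk.le
  have ha : a ≫ j = i := IsClosedImmersion.lift_fac _ _ _
  have : IsIso a := IsClosedImmersion.isIso_lift j i hk
  have hO : Nonempty ((Scheme.Modules.pushforward a).obj (Coh.structureModule Z) ≅
      Coh.structureModule (Scheme.IdealSheafData.vanishingIdeal C).subscheme) :=
    ⟨(@asIso _ _ _ _ (SheafOfModules.unitToPushforwardObjUnit a.toRingCatSheafHom)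
      (isIso_unit_of_isIso a)).symm⟩
  obtain ⟨e⟩ := hO
  refine ⟨(Scheme.Modules.pushforwardCongr ha.symm).app _ ≪≫
    ((Scheme.Modules.pushforwardComp a j).app _).symm ≪≫ (Scheme.Modules.pushforward j).mapIso e⟩
where
  isIso_unit_of_isIso {A B : Scheme.{u}} (a : A ⟶ B) [IsIso a] :
      IsIso (SheafOfModules.unitToPushforwardObjUnit a.toRingCatSheafHom) := by
    refine @isIso_of_mono_of_epi _ _ _ _ _ _ ?_ ?_
    · exact (mono_iff_app_injective _).mpr fun U => (ConcreteCategory.bijective_of_isIso (a.app U)).1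
    · refine (epi_iff_locally_surjective _).mpr fun U t x hx => ⟨U, le_rfl, ?_⟩
      obtain ⟨s, hs⟩ := (ConcreteCategory.bijective_of_isIso (a.app U)).2 t
      exact ⟨⟨s, hs.trans (QCohLib.map_self _ _ _).symm⟩, hx⟩

/-- Finitely many points of a closed set have closure of the top dimension. -/
theorem finite_topPoints [IsNoetherian X] {s : Set X} (hs : IsClosed s) {d : ℕ}
    (hd : topologicalKrullDim s = d) :
    {ξ : X | ξ ∈ s ∧ topologicalKrullDim (closure ({ξ} : Set X)) = d}.Finite := by
  obtain ⟨S, hSf, hSc, hSi, hsS⟩ := NoetherianSpace.exists_finite_set_isClosed_irreducible hs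
  refine Set.Finite.of_finite_image (f := fun ξ : X => closure ({ξ} : Set X)) (hSf.subset ?_)
    fun a _ b _ h => T0Space.t0 (inseparable_iff_closure_eq.mpr h)
  rintro _ ⟨ξ, ⟨hξs, hξd⟩, rfl⟩
  rw [hsS] at hξs
  obtain ⟨C, hC, hξC⟩ := hξs
  have hsub : closure ({ξ} : Set X) ⊆ C := (hSc C hC).closure_subset_iff.mpr (Set.singleton_subset_iff.mpr hξC)
  rcases hsub.eq_or_ssubset with h | h
  · show closure ({ξ} : Set X) ∈ S
    rw [h]
    exact hC
  · exfalso
    have h1 := (dim_add_one_le isClosed_closure (hSi C hC) (hSc C hC) h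
      ⟨ξ, subset_closure rfl⟩).trans (dim_mono (hsS ▸ Set.subset_sUnion_of_mem hC : C ⊆ s))
    rw [hξd, hd] at h1
    norm_cast at h1
    omega

section Main

variable (k : Type u) [Field k] [X.Over (Spec (CommRingCat.of k))]
  [IsProper (X ↘ Spec (CommRingCat.of k))]

/-- `n ↦ χ(Z_ξ, L|Z_ξ ^ n)` for the reduced closure of a point. -/
noncomputable def chiClosure {r : ℕ} (L : Fin r → X.Modules) (ξ : X) (n : Fin r → ℕ) : ℚ :=
  (@Curv2.euler k _
    (Scheme.IdealSheafData.vanishingIdeal (⟨closure ({ξ} : Set X), isClosed_closure⟩ : Closeds X)).subscheme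
    ⟨(Scheme.IdealSheafData.vanishingIdeal (⟨closure ({ξ} : Set X), isClosed_closure⟩ : Closeds X)).subschemeι ≫
      (X ↘ (Spec (CommRingCat.of k)))⟩
    (Curv2.tensorPows
      (Coh.structureModule (Scheme.IdealSheafData.vanishingIdeal (⟨closure ({ξ} : Set X), isClosed_closure⟩ : Closeds X)).subscheme)
      r (fun i => (Scheme.Modules.pullback
        (Scheme.IdealSheafData.vanishingIdeal (⟨closure ({ξ} : Set X), isClosed_closure⟩ : Closeds X)).subschemeι).obj (L i)) n) : ℚ)

theorem euler_tensorPows_additive {r : ℕ} {L : Fin r → X.Modules} (hL : ∀ i, PicF.IsInvertible (L i))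
    {S : ShortComplex X.Modules} (hS : S.ShortExact) (h₁ : Coh.IsCoh S.X₁) (h₂ : Coh.IsCoh S.X₂)
    (h₃ : Coh.IsCoh S.X₃) (n : Fin r → ℕ) :
    (Curv2.euler k X (Curv2.tensorPows S.X₂ r L n) : ℚ) =
      Curv2.euler k X (Curv2.tensorPows S.X₁ r L n) + Curv2.euler k X (Curv2.tensorPows S.X₃ r L n) := by
  have h := chiT_additive k (isInvertible_tensorPows hL) hS h₁ h₂ h₃ n
  unfold chiT at h
  rwa [← euler_congr (nonempty_tensorPows_iso S.X₁ hL n).some, ← euler_congr (nonempty_tensorPows_iso S.X₂ hL n).some,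
    ← euler_congr (nonempty_tensorPows_iso S.X₃ hL n).some] at h

omit [IsProper (X ↘ Spec (CommRingCat.of k))] in
theorem euler_tensorPows_congr {r : ℕ} {L : Fin r → X.Modules} (hL : ∀ i, PicF.IsInvertible (L i))
    {M N : X.Modules} (e : M ≅ N) (n : Fin r → ℕ) :
    Curv2.euler k X (Curv2.tensorPows M r L n) = Curv2.euler k X (Curv2.tensorPows N r L n) := by
  rw [euler_congr (nonempty_tensorPows_iso M hL n).some, euler_congr (nonempty_tensorPows_iso N hL n).some,
    euler_congr (ProjTwist.nonempty_tensorMod_iso e (Iso.refl _)).some]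

theorem euler_tensorPows_closure {r : ℕ} {L : Fin r → X.Modules} (hL : ∀ i, PicF.IsInvertible (L i))
    (ξ : X) (n : Fin r → ℕ) :
    (Curv2.euler k X (Curv2.tensorPows ((Coh.push (Scheme.IdealSheafData.vanishingIdeal
        (⟨closure ({ξ} : Set X), isClosed_closure⟩ : Closeds X)).subschemeι).obj (Coh.structureModule _))
      r L n) : ℚ) = chiClosure k L ξ n := by
  let j := (Scheme.IdealSheafData.vanishingIdeal (⟨closure ({ξ} : Set X), isClosed_closure⟩ : Closeds X)).subschemeι
  obtain ⟨e⟩ := nonempty_push_tensorPows j (Coh.structureModule _) hL n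
  have := InvBasic.isQuasicoherent_structureModule
    (Scheme.IdealSheafData.vanishingIdeal (⟨closure ({ξ} : Set X), isClosed_closure⟩ : Closeds X)).subscheme
  have := isQuasicoherent_tensorPows (N := Coh.structureModule
    (Scheme.IdealSheafData.vanishingIdeal (⟨closure ({ξ} : Set X), isClosed_closure⟩ : Closeds X)).subscheme)
    (fun i => isInvertible_pullback j (hL i)) n
  rw [euler_congr e, euler_push j k]
  rfl

variable {r : ℕ} {L : Fin r → X.Modules} (hL : ∀ i, PicF.IsInvertible (L i))

include hL in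
/-- `χ(F ⊗ L^n)` minus the contributions of the top-dimensional components has degree `< d`. -/
theorem exists_poly_sub_components {F : X.Modules} (hF : Coh.IsCoh F) {d : ℕ}
    (hd : topologicalKrullDim (CohB1.support F) = d) :
    ∃ P ∈ degLT r d, ∀ n : Fin r → ℕ,
      (Curv2.euler k X (Curv2.tensorPows F r L n) : ℚ) -
        ∑ᶠ ξ : X, (if topologicalKrullDim (closure ({ξ} : Set X)) = (d : WithBot ℕ∞) then
          ((stkLen F ξ).toNat : ℚ) * chiClosure k L ξ n else 0) = evN P n := by
  classical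
  have : CompactSpace X := QuasiCompact.compactSpace_of_compactSpace (X ↘ Spec (CommRingCat.of k))
  have : IsLocallyNoetherian X := LocallyOfFiniteType.isLocallyNoetherian (X ↘ Spec (CommRingCat.of k))
  have : IsNoetherian X := ⟨⟩
  let s := CohB1.support F
  have hsc : IsClosed s := isClosed_support hF.2
  let S := (finite_topPoints hsc hd).toFinset
  have hS : ∀ ξ, ξ ∈ S ↔ ξ ∈ s ∧ topologicalKrullDim (closure ({ξ} : Set X)) = d := fun ξ => by
    simp [S]
  suffices key : ∀ M : X.Modules, Coh.IsCoh M → CohB1.support M ⊆ s →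
      (∀ ξ ∈ S, stkLen M ξ ≠ ⊤) ∧ ∃ P ∈ degLT r d, ∀ n : Fin r → ℕ,
        (Curv2.euler k X (Curv2.tensorPows M r L n) : ℚ) -
          ∑ ξ ∈ S, ((stkLen M ξ).toNat : ℚ) * chiClosure k L ξ n = evN P n by
    obtain ⟨-, P, hP, h⟩ := key F hF subset_rfl
    refine ⟨P, hP, fun n => ?_⟩
    rw [← h n, finsum_eq_sum_of_support_subset _ (s := S) ?_]
    · congr 1
      exact Finset.sum_congr rfl fun ξ hξ => if_pos ((hS ξ).mp hξ).2
    · intro ξ hξ
      simp only [Function.mem_support] at hξ
      obtain ⟨hdim, hne⟩ := ite_ne_right_iff.mp hξ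
      refine Finset.mem_coe.mpr ((hS ξ).mpr ⟨?_, hdim⟩)
      by_contra hns
      rw [stkLen_eq_zero hns] at hne
      simp at hne
  intro M hM hMs
  refine devissage_ext (fun M => (∀ ξ ∈ S, stkLen M ξ ≠ ⊤) ∧ ∃ P ∈ degLT r d, ∀ n : Fin r → ℕ,
        (Curv2.euler k X (Curv2.tensorPows M r L n) : ℚ) -
          ∑ ξ ∈ S, ((stkLen M ξ).toNat : ℚ) * chiClosure k L ξ n = evN P n) ?_ ?_ (X' := s) ?_ ?_ M hM hMs
  · rintro A B ⟨e⟩ ⟨h1, P, hP, h⟩
    refine ⟨fun ξ hξ => stkLen_congr e ξ ▸ h1 ξ hξ, P, hP, fun n => ?_⟩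
    rw [← h n, euler_tensorPows_congr k hL e n]
    congr 1
    exact Finset.sum_congr rfl fun ξ _ => by rw [stkLen_congr e ξ]
  · intro A hA
    have h0 : ∀ ξ, stkLen A ξ = 0 := fun ξ => stkLen_eq_zero (by
      rw [support_eq_empty_of_isZero hA]; exact Set.notMem_empty ξ)
    refine ⟨fun ξ _ => by rw [h0]; simp, 0, zero_mem _, fun n => ?_⟩
    have := chiT_of_isZero k (isInvertible_tensorPows hL) hA n
    unfold chiT at this
    rw [euler_congr (nonempty_tensorPows_iso A hL n).some, this]
    simp [h0, evN]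
  · rintro T hT h₁ h₂ h₃ - ⟨f₁, P₁, hP₁, e₁⟩ ⟨f₃, P₃, hP₃, e₃⟩
    refine ⟨fun ξ hξ => by rw [stkLen_additive hT]; exact WithTop.add_ne_top.mpr ⟨f₁ ξ hξ, f₃ ξ hξ⟩,
      P₁ + P₃, add_mem hP₁ hP₃, fun n => ?_⟩
    rw [euler_tensorPows_additive k hL hT h₁ h₂ h₃ n, evN, map_add, ← evN, ← evN, ← e₁, ← e₃,
      Finset.sum_congr rfl fun ξ (hξ : ξ ∈ S) => show ((stkLen T.X₂ ξ).toNat : ℚ) * chiClosure k L ξ n =
        ((stkLen T.X₁ ξ).toNat : ℚ) * chiClosure k L ξ n + ((stkLen T.X₃ ξ).toNat : ℚ) * chiClosure k L ξ n by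
          rw [stkLen_additive hT, ENat.toNat_add (f₁ ξ hξ) (f₃ ξ hξ), Nat.cast_add, add_mul],
      Finset.sum_add_distrib]
    ring
  · intro Z i _ _ hZ I ι _ hI hI0
    let G := (Coh.push i).obj I
    let G₁ := (Coh.push i).obj (Coh.structureModule Z)
    let η := i (genericPoint Z)
    have hG : Coh.IsCoh G := isCoh_push_ideal i ι hI
    have hrange : closure ({η} : Set X) = Set.range i := closure_genericPoint i
    have hsG : CohB1.support G ⊆ Set.range i := support_pushforward_subset i I
    have hrd : topologicalKrullDim (Set.range i) ≤ (d : WithBot ℕ∞) := hd ▸ dim_mono hZ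
    have hother : ∀ {C : X.Modules}, CohB1.support C ⊆ Set.range i → ∀ ξ ∈ S, ξ ≠ η → stkLen C ξ = 0 := by
      intro C hC ξ hξ hne
      refine stkLen_eq_zero fun hm => hne ?_
      have hsp : η ⤳ ξ := specializes_iff_mem_closure.mpr (hrange.ge (hC hm))
      obtain ⟨b, hb⟩ := exists_dim_closure k η
      refine ?_
      by_contra hne'
      have hss : closure ({ξ} : Set X) ⊂ Set.range i := by
        refine ssubset_of_subset_of_ne (hrange ▸ closure_minimal (Set.singleton_subset_iff.mpr
          (hrange.ge (hC hm))) isClosed_closure) fun he => hne' ?_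
        exact T0Space.t0 (inseparable_iff_closure_eq.mpr (he.trans hrange.symm))
      have h1 := (dim_add_one_le isClosed_closure (hrange ▸ isIrreducible_singleton.closure)
        i.isClosedEmbedding.isClosed_range hss ⟨ξ, subset_closure rfl⟩).trans hrd
      rw [((hS ξ).mp hξ).2] at h1
      norm_cast at h1
      omega
    by_cases hη : η ∈ S
    · have hG₁ : Coh.IsCoh G₁ := isCoh_pushforward_structureModule i
      let f : G ⟶ G₁ := (Coh.push i).map ι
      have : Mono f := by
        refine (mono_iff_app_injective f).mpr fun V => ?_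
        exact (mono_iff_app_injective ι).mp inferInstance (i ⁻¹ᵁ V)
      have hT := CohFinite.shortExact_cokernel f
      have hQ : Coh.IsCoh (cokernel f) := isCoh_cokernel f hG.1 hG₁
      have hlen := stkLen_additive hT η
      dsimp only at hlen
      rw [stkLen_push_structureModule i] at hlen
      have hGne : stkLen G η ≠ 0 := fun h => by
        have hz : IsZero G := isZero_of_subsingleton_stalk_generic i f
          (not_not.mp (notMem_support_of_stkLen_eq_zero h))
        refine hI0 ?_
        rw [IsZero.iff_id_eq_zero]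
        refine Scheme.Modules.hom_ext _ _ fun V => ?_
        ext m
        obtain ⟨O, hO, hVO⟩ := i.isClosedEmbedding.isInducing.isOpen_iff.mp V.isOpen
        obtain rfl : i ⁻¹ᵁ (⟨O, hO⟩ : X.Opens) = V := Opens.ext hVO
        exact ConcreteCategory.congr_hom (congrArg (fun φ : G ⟶ G => φ.app ⟨O, hO⟩) (hz.eq_of_src (𝟙 G) 0)) m
      have hGle : stkLen G η ≤ 1 := hlen ▸ le_self_add
      have hG1 : stkLen G η = 1 := le_antisymm hGle (Order.one_le_iff_pos.mpr (pos_iff_ne_zero.mpr hGne))
      have hQη : stkLen (cokernel f) η = 0 := by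
        rw [hG1] at hlen
        exact (WithTop.add_left_cancel (by simp) (hlen.symm.trans (add_zero 1).symm))
      have hsQ : CohB1.support (cokernel f) ⊆ Set.range i :=
        (support_subset_of_epi (cokernel.π f)).trans (support_pushforward_subset i _)
      have hQd : topologicalKrullDim (CohB1.support (cokernel f)) < (d : WithBot ℕ∞) := by
        refine dim_lt_of_ssubset (isClosed_support hQ.2) (hrange ▸ isIrreducible_singleton.closure)
          i.isClosedEmbedding.isClosed_range
          ⟨hsQ, fun h => notMem_support_of_stkLen_eq_zero hQη (h ⟨_, rfl⟩)⟩ (hrd.trans_lt ?_)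
        exact_mod_cast Nat.lt_succ_self d
      obtain ⟨P, hP, hPe⟩ := exists_poly_tensorPows k hL hQ hQd
      obtain ⟨e⟩ := nonempty_push_structureModule_iso i (C := ⟨closure ({η} : Set X), isClosed_closure⟩) hrange.symm
      refine ⟨fun ξ hξ => ?_, -P, neg_mem hP, fun n => ?_⟩
      · by_cases h : ξ = η
        · rw [h, hG1]; simp
        · rw [hother hsG ξ hξ h]; simp
      rw [Finset.sum_eq_single η (fun ξ hξ hne => by rw [hother hsG ξ hξ hne]; simp) (fun h => absurd hη h),
        hG1, evN, map_neg, ← evN, ← hPe n, ← euler_tensorPows_closure k hL η n,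
        ← euler_tensorPows_congr k hL e n]
      have h2 := euler_tensorPows_additive k hL hT hG hG₁ hQ n
      dsimp only at h2
      rw [h2]
      simp only [Nat.cast_one, ENat.toNat_one, one_mul, G]
      ring
    · have hall : ∀ ξ ∈ S, stkLen G ξ = 0 := fun ξ hξ =>
        hother hsG ξ hξ fun h => hη (h ▸ hξ)
      have hlt : topologicalKrullDim (CohB1.support G) < (d : WithBot ℕ∞) := by
        refine (dim_mono hsG).trans_lt (lt_of_le_of_ne hrd fun he => hη ?_)
        exact (hS η).mpr ⟨hZ ⟨_, rfl⟩, hrange ▸ he⟩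
      obtain ⟨P, hP, hPe⟩ := exists_poly_tensorPows k hL hG hlt
      refine ⟨fun ξ hξ => by rw [hall ξ hξ]; simp, P, hP, fun n => ?_⟩
      rw [Finset.sum_eq_zero fun ξ hξ => by rw [hall ξ hξ]; simp, sub_zero]
      exact hPe n

end Main

end Groth.Agent.HilbPoly
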