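import Groth.Agent.HilbPoly.PushForm
import Groth.Agent.InvPow.VeryAmpleBase
import Groth.Agent.InvPow.Projective
import Groth.Agent.ProjSpaceBC.Basic
import Groth.Agent.ProjCoh.Serre
import Groth.Agent.ProjCoh.ExtTwist

/-!
# Serre vanishing for an ample module on a scheme proper over a Noetherian ring

`exists_vanishing_ample`.
-/

universe u

open CategoryTheory CategoryTheory.Limits AlgebraicGeometry Opposite TopologicalSpace

set_option backward.isDefEq.respectTransparency false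

namespace Groth.Agent.HilbPoly

open InvBasic ProjUniv Groth.Agent.InvPow Groth.Agent.QCohLib

theorem nonempty_tensorPow_congr {X : Scheme.{u}} {L L' : X.Modules} (e : L ≅ L') :
    ∀ m : ℕ, Nonempty (CohB1.tensorPow L m ≅ CohB1.tensorPow L' m)
  | 0 => ⟨Iso.refl _⟩
  | m + 1 => by
    obtain ⟨a⟩ := nonempty_tensorPow_congr e m
    exact ProjTwist.nonempty_tensorMod_iso a e

theorem isInvertible_of_iso' {X : Scheme.{u}} {L L' : X.Modules} (e : L ≅ L') (h : PicF.IsInvertible L) :
    PicF.IsInvertible L' := fun x => by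
  obtain ⟨U, hx, ⟨a⟩⟩ := h x
  exact ⟨U, hx, ⟨((Scheme.Modules.restrictFunctor U.ι).mapIso e).symm ≪≫ a⟩⟩

/-- Serre vanishing for ample modules. -/
theorem exists_vanishing_ample {R : Type u} [CommRing R] [IsNoetherianRing R] {X : Scheme.{u}}
    (f : X ⟶ Spec (CommRingCat.of R)) [IsProper f] {L : X.Modules} (hL : CohB1.IsAmple L)
    (M : X.Modules) (hM : Coh.IsCoh M) :
    ∃ n₀ : ℕ, ∀ n : ℕ, n₀ ≤ n → ∀ p : ℕ, 0 < p →
      Subsingleton (Coh.HH X (CohB1.tensorMod M (CohB1.tensorPow L n)) p) := by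
  have : CompactSpace X := QuasiCompact.compactSpace_of_compactSpace f
  have : IsLocallyNoetherian X := LocallyOfFiniteType.isLocallyNoetherian f
  obtain ⟨d, hd0, hd⟩ := exists_bound_isRelVeryAmplePn f hL
  obtain ⟨N, i, _, hi, ⟨e⟩⟩ := hd d le_rfl
  have := isProper_snd N (Spec (CommRingCat.of R))
  have : IsProper (i ≫ pullback.snd (CohB1.ProjSpace.toSpec N (ULift.{u} ℤ))
    (specULiftZIsTerminal.from (Spec (CommRingCat.of R)))) := by
    rw [hi]; infer_instance
  have : IsProper i := IsProper.of_comp i (pullback.snd (CohB1.ProjSpace.toSpec N (ULift.{u} ℤ))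
    (specULiftZIsTerminal.from (Spec (CommRingCat.of R))))
  have hci : IsClosedImmersion i := IsClosedImmersion.of_isPreimmersion i i.isClosedMap.isClosed_range
  let r : X ⟶ CohB1.ProjSpace N R := i ≫ inv (ProjSpaceBC.toOver N R)
  have : IsClosedImmersion r := inferInstance
  have : IsLocallyNoetherian (CohB1.ProjSpace N R) := by
    have := isProper_toSpec N R
    exact LocallyOfFiniteType.isLocallyNoetherian (CohB1.ProjSpace.toSpec N R)
  let O1 : (CohB1.ProjSpace N R).Modules := Twist.twistProjSpace N R ((1 : ℕ) : ℤ)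
  have hr : r ≫ ProjSpaceBC.toOver N R = i := by simp [r]
  obtain ⟨τ⟩ := ProjSpaceBC.nonempty_twistOver_iso N R 1
  let eO : CohB1.tensorPow L d ≅ (Scheme.Modules.pullback r).obj O1 :=
    e ≪≫ (Scheme.Modules.pullbackCongr hr.symm).app _ ≪≫
      ((Scheme.Modules.pullbackComp r (ProjSpaceBC.toOver N R)).app _).symm ≪≫
      (Scheme.Modules.pullback r).mapIso τ
  have hO1 : PicF.IsInvertible O1 := by
    obtain ⟨e'⟩ := nonempty_pow_one_iso (isInvertible_twistOver N (Spec (CommRingCat.of R)))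
    exact isInvertible_of_iso' τ (isInvertible_pullback (ProjSpaceBC.toOver N R)
      (isInvertible_twistOver N (Spec (CommRingCat.of R))))
  have hpow : ∀ q : ℕ, Nonempty (CohB1.tensorPow O1 q ≅ Twist.twistProjSpace N R (q : ℤ)) := fun q => by
    obtain ⟨e'⟩ := ProjTwist.nonempty_twist_iso_tensorPow (CohB1.polyGrading N R)
      (ProjCoh.hasUnit_polyGrading (1 : ℤ)) q (q : ℤ) (mul_one _).symm
    exact ⟨e'.symm⟩
  have hMa : ∀ a : ℕ, Coh.IsCoh (CohB1.tensorMod M (CohB1.tensorPow L a)) := fun a =>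
    isCoh_tensorMod hM (isInvertible_tensorPow hL.1 a)
  choose d₁ hd₁ using fun a : ℕ => ProjCoh.exists_vanishing
    ((Scheme.Modules.pushforward r).obj (CohB1.tensorMod M (CohB1.tensorPow L a)))
    (QCohLib.isCoh_pushforward r (hMa a))
  let B : ℕ := (Finset.range d).sup fun a => (d₁ a).toNat
  refine ⟨d * B + d, fun n hn p hp => ?_⟩
  have hq : B ≤ n / d := (Nat.le_div_iff_mul_le hd0).mpr (by rw [mul_comm]; omega)
  have ha : (d₁ (n % d)).toNat ≤ n / d :=
    (Finset.le_sup (f := fun a => (d₁ a).toNat) (Finset.mem_range.mpr (Nat.mod_lt n hd0))).trans hq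
  have hv := hd₁ (n % d) ((n / d : ℕ) : ℤ) (by omega) p hp
  obtain ⟨a₁⟩ := nonempty_pow_add_iso hL.1 (n % d) (d * (n / d))
  obtain ⟨a₂⟩ := nonempty_pow_mul_iso hL.1 d (n / d)
  obtain ⟨a₃⟩ := nonempty_tensorPow_congr eO (n / d)
  obtain ⟨a₄⟩ := nonempty_assoc M (isInvertible_tensorPow hL.1 (n % d))
    (isInvertible_tensorPow hL.1 (d * (n / d)))
  obtain ⟨a₅⟩ := nonempty_push_tensorPow r (CohB1.tensorMod M (CohB1.tensorPow L (n % d))) hO1 (n / d)
  obtain ⟨a₆⟩ := hpow (n / d)
  let Ma := CohB1.tensorMod M (CohB1.tensorPow L (n % d))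
  let Mn := CohB1.tensorMod Ma (CohB1.tensorPow ((Scheme.Modules.pullback r).obj O1) (n / d))
  have hMn : Mn.IsQuasicoherent :=
    (isCoh_tensorMod (hMa _) (isInvertible_tensorPow (isInvertible_pullback r hO1) _)).1
  let e₁ : CohB1.tensorMod M (CohB1.tensorPow L n) ≅ Mn :=
    (ProjTwist.nonempty_tensorMod_iso (Iso.refl M)
      (eqToIso (by rw [Nat.mod_add_div]) ≪≫ a₁.symm)).some ≪≫ a₄ ≪≫
      (ProjTwist.nonempty_tensorMod_iso (Iso.refl Ma) (a₂.symm ≪≫ a₃)).some
  let e₂ : (Scheme.Modules.pushforward r).obj Mn ≅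
      CohB1.tensorMod ((Scheme.Modules.pushforward r).obj Ma) (Twist.twistProjSpace N R ((n / d : ℕ) : ℤ)) :=
    a₅.symm ≪≫ (ProjTwist.nonempty_tensorMod_iso (Iso.refl _) a₆).some
  obtain ⟨b⟩ := Groth.Agent.CohVanish.nonempty_HH_push_equiv r Mn p
  have h1 : Subsingleton (Coh.HH (CohB1.ProjSpace N R) ((Scheme.Modules.pushforward r).obj Mn) p) :=
    subsingleton_HH_of_iso e₂ hv
  have h2 : Subsingleton (Coh.HH X Mn p) := b.injective.subsingleton
  exact subsingleton_HH_of_iso e₁ h2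
where
  subsingleton_HH_of_iso {Y : Scheme.{u}} {A A' : Y.Modules} (e : A ≅ A') {p : ℕ}
      (h : Subsingleton (Coh.HH Y A' p)) : Subsingleton (Coh.HH Y A p) :=
    (Function.LeftInverse.injective (f := Sheaf.H.map ((SheafOfModules.toSheaf Y.ringCatSheaf).map e.hom) p)
      (g := Sheaf.H.map ((SheafOfModules.toSheaf Y.ringCatSheaf).map e.inv) p) fun x => by
      refine (Sheaf.H.map_comp_apply _ _ x).symm.trans ?_
      refine (congrArg (fun z => Sheaf.H.map z p x)
        (((SheafOfModules.toSheaf Y.ringCatSheaf).map_comp _ _).symm.trans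
          ((congrArg (SheafOfModules.toSheaf Y.ringCatSheaf).map e.hom_inv_id).trans
            (CategoryTheory.Functor.map_id _ _)))).trans ?_
      exact Sheaf.H.map_id_apply _).subsingleton

end Groth.Agent.HilbPoly
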