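import Groth.Agent.HilbPoly.Intersection
import Groth.Agent.HilbPoly.Positive
import Mathlib.Algebra.Group.ForwardDiff

/-!
# Asymptotic Riemann–Roch for an ample module
-/

universe u

open CategoryTheory CategoryTheory.Limits AlgebraicGeometry Opposite TopologicalSpace

set_option backward.isDefEq.respectTransparency false

namespace Groth.Agent.HilbPoly

open InvBasic ProjUniv Groth.Agent.InvPow Groth.Agent.QCohLib

theorem altSum_card {d : ℕ} {p : Polynomial ℚ} (hp : p.natDegree = d) :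
    altSum (d := d) (fun n => p.eval ((∑ i, n i : ℕ) : ℚ)) = d.factorial * p.coeff d := by
  classical
  have hsum : ∀ t : Finset (Fin d), ∑ i, ind t i = t.card := fun t => by
    simp [ind, Finset.sum_ite_mem]
  unfold altSum
  rw [Finset.sum_congr rfl fun t (_ : t ∈ (Finset.univ : Finset (Fin d)).powerset) =>
    show (-1 : ℚ) ^ (Finset.univ \ t).card * p.eval ((∑ i, ind t i : ℕ) : ℚ) =
      (fun m => (-1 : ℚ) ^ (d - m) * p.eval (m : ℚ)) t.card by
        rw [hsum, Finset.card_sdiff_of_subset (Finset.subset_univ t), Finset.card_univ, Fintype.card_fin]]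
  rw [Finset.sum_powerset_apply_card (f := fun m => (-1 : ℚ) ^ (d - m) * p.eval (m : ℚ)),
    Finset.card_univ, Fintype.card_fin]
  have h := congrFun (Polynomial.fwdDiff_iter_degree_eq_factorial p) 0
  rw [hp, fwdDiff_iter_eq_sum_shift] at h
  have hlc : p.leadingCoeff = p.coeff d := by rw [Polynomial.leadingCoeff, hp]
  rw [hlc] at h
  simp only [zero_add, Pi.smul_apply, Pi.natCast_apply, smul_eq_mul, nsmul_eq_mul, mul_one] at h
  rw [mul_comm, ← h]
  refine Finset.sum_congr rfl fun m _ => ?_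
  rw [zsmul_eq_mul, nsmul_eq_mul]
  push_cast
  ring

theorem abs_eval_sub_top_le {p : Polynomial ℚ} {d : ℕ} (hp : p.natDegree ≤ d) (n : ℕ) :
    |p.eval (n : ℚ) - p.coeff d * (n : ℚ) ^ d| ≤
      (∑ j ∈ Finset.range d, |p.coeff j|) * ((n : ℚ) + 1) ^ (d - 1) := by
  rw [Polynomial.eval_eq_sum_range' (Nat.lt_succ_of_le hp), Finset.sum_range_succ, add_sub_cancel_right,
    Finset.sum_mul]
  refine (Finset.abs_sum_le_sum_abs _ _).trans (Finset.sum_le_sum fun j hj => ?_)
  rw [abs_mul, abs_pow, Nat.abs_cast]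
  refine mul_le_mul_of_nonneg_left ?_ (abs_nonneg _)
  have h1 : (1 : ℚ) ≤ (n : ℚ) + 1 := by linarith [(Nat.cast_nonneg n : (0 : ℚ) ≤ n)]
  exact (pow_le_pow_left₀ (Nat.cast_nonneg n) (by linarith) j).trans
    (pow_le_pow_right₀ h1 (by have := Finset.mem_range.mp hj; omega))

variable {X : Scheme.{u}}

theorem nonempty_tensorPows_const {L : X.Modules} (hL : PicF.IsInvertible L) :
    ∀ {r : ℕ} (n : Fin r → ℕ),
      Nonempty (Curv2.tensorPows (Coh.structureModule X) r (fun _ => L) n ≅ CohB1.tensorPow L (∑ i, n i))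
  | 0, n => ⟨eqToIso (by rw [Fin.sum_univ_zero]; rfl)⟩
  | r + 1, n => by
    obtain ⟨e⟩ := nonempty_tensorPows_const hL fun i : Fin r => n i.castSucc
    obtain ⟨a⟩ := nonempty_pow_add_iso hL (∑ i : Fin r, n i.castSucc) (n (Fin.last r))
    exact ⟨(ProjTwist.nonempty_tensorMod_iso e (Iso.refl _)).some ≪≫ a ≪≫
      eqToIso (by rw [Fin.sum_univ_castSucc])⟩

theorem support_structureModule : CohB1.support (Coh.structureModule X) = Set.univ := by
  refine Set.eq_univ_of_forall fun x hx => ?_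
  let A := Coh.structureModule X
  obtain ⟨W, hW, iW, iW', e⟩ := A.presheaf.germ_eq (U := (⊤ : X.Opens)) (V := (⊤ : X.Opens)) x trivial trivial
    (show Γ(X, ⊤) from 1) 0 (hx.elim _ _)
  rw [map_zero] at e
  have h2 : (1 : Γ(X, W)) = 0 := (map_one (X.presheaf.map iW.op).hom).symm.trans e
  have h3 := congrArg (X.presheaf.germ W x hW) h2
  rw [map_one, map_zero] at h3
  exact one_ne_zero h3

variable (k : Type u) [Field k] [X.Over (Spec (CommRingCat.of k))]
  [IsProper (X ↘ Spec (CommRingCat.of k))]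

/-- Asymptotic Riemann–Roch. -/
theorem asymptotic_riemann_roch {d : ℕ} (hX : topologicalKrullDim X = d) {L : X.Modules}
    (hL : CohB1.IsAmple L) {P : MvPolynomial (Fin d) ℚ}
    (hP : ∀ n : Fin d → ℕ, (Curv2.euler k X (Curv2.tensorPows (Coh.structureModule X) d (fun _ => L) n) : ℚ) =
      MvPolynomial.eval (fun i => (n i : ℚ)) P) :
    0 < P.coeff (diag d) ∧ ∃ C : ℚ, ∀ n : ℕ,
      |(Module.finrank k (Coh.HH X (CohB1.tensorPow L n) 0) : ℚ) -
          P.coeff (diag d) / (d.factorial : ℚ) * (n : ℚ) ^ d| ≤ C * ((n : ℚ) + 1) ^ (d - 1) := by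
  have : CompactSpace X := QuasiCompact.compactSpace_of_compactSpace (X ↘ Spec (CommRingCat.of k))
  have : IsLocallyNoetherian X := LocallyOfFiniteType.isLocallyNoetherian (X ↘ Spec (CommRingCat.of k))
  have hO : Coh.IsCoh (Coh.structureModule X) := isCoh_of_isInvertible (isInvertible_structureModule X)
  have hdim : topologicalKrullDim (CohB1.support (Coh.structureModule X)) = d := by
    rw [support_structureModule, ← hX]
    exact IsHomeomorph.topologicalKrullDim_eq _ (Homeomorph.Set.univ X).isHomeomorph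
  obtain ⟨p, hpd, hp⟩ := exists_hilbPoly' (k := k) hL.1 hO hdim.le
  have hpow : ∀ m : ℕ, Curv2.euler k X (CohB1.tensorPow L m) = Curv2.euler k X (ShStab.twist X L (Coh.structureModule X) m) :=
    fun m => by
      obtain ⟨c⟩ := ProjTwist.nonempty_tensorMod_comm (Coh.structureModule X) (CohB1.tensorPow L m)
      exact euler_congr ((SecTwist.unitorR _).symm ≪≫ c.symm)
  have hpos := coeff_top_pos k hL hO hdim hp
  have hdeg : p.natDegree = d := le_antisymm hpd (Polynomial.le_natDegree_of_ne_zero hpos.ne')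
  have hc : P.coeff (diag d) = d.factorial * p.coeff d := by
    rw [coeff_diag_eq_altSum k (fun _ => hL.1) hO hdim.le hP, ← altSum_card hdeg]
    refine congrArg altSum (funext fun n => ?_)
    rw [euler_congr (nonempty_tensorPows_const hL.1 n).some, hpow, hp]
  refine ⟨by rw [hc]; positivity, ?_⟩
  obtain ⟨n₀, hn₀⟩ := exists_vanishing_ample (X ↘ Spec (CommRingCat.of k)) hL (Coh.structureModule X) hO
  let e : ℕ → ℚ := fun n => |(Module.finrank k (Coh.HH X (CohB1.tensorPow L n) 0) : ℚ) - p.eval (n : ℚ)|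
  refine ⟨(∑ j ∈ Finset.range d, |p.coeff j|) + ∑ m ∈ Finset.range n₀, e m, fun n => ?_⟩
  rw [hc, mul_div_cancel_left₀ _ (Nat.cast_ne_zero.mpr d.factorial_ne_zero), add_mul]
  have h1 : (1 : ℚ) ≤ ((n : ℚ) + 1) ^ (d - 1) :=
    one_le_pow₀ (by linarith [(Nat.cast_nonneg n : (0 : ℚ) ≤ n)])
  refine (abs_sub_le _ (p.eval (n : ℚ)) _).trans ((add_comm _ _).trans_le
    (add_le_add (abs_eval_sub_top_le hpd n) ?_))
  refine le_trans ?_ (le_mul_of_one_le_right (Finset.sum_nonneg fun m _ => abs_nonneg _) h1)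
  by_cases hn : n < n₀
  · exact Finset.single_le_sum (f := e) (fun m _ => abs_nonneg _) (Finset.mem_range.mpr hn)
  · have hsub : ∀ i, 1 ≤ i → Subsingleton (Coh.HH X (CohB1.tensorPow L n) i) := fun i hi => by
      obtain ⟨c⟩ := ProjTwist.nonempty_tensorMod_comm (Coh.structureModule X) (CohB1.tensorPow L n)
      exact exists_vanishing_ample.subsingleton_HH_of_iso ((SecTwist.unitorR _).symm ≪≫ c.symm)
        (hn₀ n (not_lt.mp hn) i hi)
    have h2 : (Module.finrank k (Coh.HH X (CohB1.tensorPow L n) 0) : ℚ) = p.eval (n : ℚ) := by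
      rw [← hp n, ← hpow, euler_eq_sum (N := 1) hsub, Finset.sum_range_one]
      simp [hdim_def]
    rw [h2, sub_self, abs_zero]
    exact Finset.sum_nonneg fun m _ => abs_nonneg _
where
  hdim_def {Y : Scheme.{u}} [Y.Over (Spec (CommRingCat.of k))] {M : Y.Modules} {i : ℕ} :
      hdim k Y M i = (Module.finrank k (Coh.HH Y M i) : ℤ) := rfl

end Groth.Agent.HilbPoly
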