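import Groth.Agent.HilbPoly.Tensor
import Groth.Agent.HilbPoly.Euler
import Groth.Agent.InvPow.Avoidance
import Groth.Agent.InvPow.GloballyGenerated
import Groth.Agent.InvPow.DualBasis
import Groth.Agent.AssPoints.Basic
import Groth.Agent.S1576
import Groth.Prelude.Def_ClSub2

/-!
# No sections of very negative twists

`subsingleton_sections_negTwist`: if `Ass F` has no closed point, then `Γ(F ⊗ M^n) = 0` for `n ≫ 0`,
`M` inverse to an ample module.
-/

universe u

open CategoryTheory CategoryTheory.Limits AlgebraicGeometry Opposite TopologicalSpace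

set_option backward.isDefEq.respectTransparency false
set_option maxHeartbeats 800000

namespace Groth.Agent.HilbPoly

open InvBasic ProjUniv Groth.Agent.InvPow Groth.Agent.QCohLib

variable {X : Scheme.{u}}

theorem exists_paired_bases {L M : X.Modules} (hL : PicF.IsInvertible L)
    (Φ : CohB1.tensorMod L M ≅ Coh.structureModule X) :
    ∀ x : X, ∃ (V : X.Opens), x ∈ V ∧ IsAffineOpen V ∧ ∃ (ℓ : Γ(L, V)) (μ : Γ(M, V)),
      IsBasis L ℓ ∧ IsBasis M μ ∧ Φ.hom.app V (SecTwist.tmul L M V ℓ μ) = (oneSec X V) := by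
  intro x
  obtain ⟨U, hxU, ℓ₀, hℓ₀⟩ := exists_isBasis hL x
  obtain ⟨V, hV, hxV, hVU⟩ := exists_isAffineOpen_mem_and_subset hxU
  let ℓ := res L hVU ℓ₀
  have hℓ : IsBasis L ℓ := isBasis_res hℓ₀ hVU
  obtain ⟨c⟩ := ProjTwist.nonempty_tensorMod_comm M L
  let Ψ : CohB1.tensorMod M L ≅ Coh.structureModule X := c ≪≫ Φ
  have hb : ∀ {W : X.Opens} (h : W ≤ V), Function.Bijective fun m : Γ(M, W) =>
      Ψ.hom.app W (SecTwist.tmul M L W m (res L h ℓ)) := fun {W} h =>
    (ConcreteCategory.bijective_of_isIso (Ψ.hom.app W)).comp (tmul_bij M hℓ h)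
  obtain ⟨μ₀, hμ₀⟩ := (hb (le_refl V)).2 (oneSec X V)
  have hμ₀' : IsBasis M μ₀ := fun W hW => by
    refine (Function.Bijective.of_comp_iff' (hb hW) _).mp ?_
    have hone : Ψ.hom.app W (SecTwist.tmul M L W (res M hW μ₀) (res L hW ℓ)) = oneSec X W := by
      have h1 := congrArg (res (Coh.structureModule X) hW) hμ₀
      dsimp only at h1
      have h2 := (QCohLib.app_map Ψ.hom hW (SecTwist.tmul M L V μ₀ (res L (le_refl V) ℓ))).trans h1
      refine Eq.trans ?_ (h2.trans (res_oneSec hW))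
      refine congrArg _ ?_
      refine Eq.trans ?_ (res_tmul M L hW _ _).symm
      congr 1
      exact (congrArg (res L hW) (QCohLib.map_self L _ ℓ)).symm
    refine Eq.mpr (congrArg Function.Bijective (funext fun r => ?_)) Function.bijective_id
    change Ψ.hom.app W (SecTwist.tmul M L W (r • res M hW μ₀) (res L hW ℓ)) = r
    rw [ProjCoh.tmul_smul_left, Scheme.Modules.Hom.app_smul, hone]
    exact smul_oneSec r
  have hz := bijective_smul_self (M := CohB1.tensorMod L M) (U := V) (β := SecTwist.tmul L M V ℓ μ₀)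
    (isBasis_tmul hℓ hμ₀')
  obtain ⟨r, hr⟩ := hz.2 (Φ.inv.app V (oneSec X V))
  dsimp only at hr
  have hone : Φ.hom.app V (SecTwist.tmul L M V ℓ (r • μ₀)) = oneSec X V := by
    rw [ProjCoh.tmul_smul_right, ProjCoh.tmul_smul_left, hr]
    exact ConcreteCategory.congr_hom (congrArg (fun φ => Scheme.Modules.Hom.app φ V) Φ.inv_hom_id) _
  have hu : IsUnit r := by
    refine IsUnit.of_mul_eq_one (show Γ(X, V) from Φ.hom.app V (SecTwist.tmul L M V ℓ μ₀)) ?_
    refine Eq.trans ?_ (hone.trans rfl)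
    rw [ProjCoh.tmul_smul_right, ProjCoh.tmul_smul_left, Scheme.Modules.Hom.app_smul]
    rfl
  refine ⟨V, hxV, hV, ℓ, r • μ₀, hℓ, fun W hW => ?_, hone⟩
  have hu' : IsUnit (X.presheaf.map (homOfLE hW).op r) := hu.map _
  have heq : (fun z : Γ(X, W) => z • res M hW (r • μ₀)) =
      (fun z : Γ(X, W) => z • res M hW μ₀) ∘ fun z => z * X.presheaf.map (homOfLE hW).op r := by
    funext z
    simp only [Function.comp_apply, res_smul, mul_smul]
  change Function.Bijective fun z : Γ(X, W) => z • res M hW (r • μ₀)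
  rw [heq]
  exact (hμ₀' W hW).comp (Units.mulRight hu'.unit).bijective

/-- The chart data: `t0 = c • ℓ^e`, with `ℓ ⊗ μ ↦ 1`. -/
structure Charts (L M : X.Modules) (U : X.Opens) (e : ℕ) where
  /-- index -/
  ι : Type u
  [fin : Finite ι]
  /-- opens -/
  V : ι → X.Opens
  cover : ∀ x, ∃ i, x ∈ V i
  affine : ∀ i, IsAffineOpen (V i)
  /-- basis of `M` -/
  μ : ∀ i, Γ(M, V i)
  basis : ∀ i, IsBasis M (μ i)
  /-- equation of the complement of `U` -/
  c : ∀ i, Γ(X, V i)
  locus : ∀ i, U ⊓ V i = X.basicOpen (c i)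
  trans : ∀ i j (W : X.Opens) (hi : W ≤ V i) (hj : W ≤ V j) (v : Γ(X, W)),
    res M hi (μ i) = v • res M hj (μ j) → resR hi (c i) = resR hj (c j) * v ^ e

theorem nonempty_charts [CompactSpace X] {L M : X.Modules} (hL : PicF.IsInvertible L)
    (Φ : CohB1.tensorMod L M ≅ Coh.structureModule X) {e : ℕ} (t0 : Γ(CohB1.tensorPow L e, ⊤)) :
    Nonempty (Charts L M (genOpen (isInvertible_tensorPow hL e) t0) e) := by
  choose V hxV hV ℓ μ hℓ hμ hone using exists_paired_bases hL Φ
  obtain ⟨s, hs⟩ := isCompact_univ.elim_finite_subcover (fun x : X => (V x : Set X)) (fun x => (V x).2)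
    fun x _ => Set.mem_iUnion.mpr ⟨x, hxV x⟩
  choose c hc using fun x : X => exists_coef (isBasis_pw (hℓ x) e) (gres (CohB1.tensorPow L e) t0 (V x))
  refine ⟨{ ι := {x : X // x ∈ s}, V := fun i => V i.1, cover := fun x => ?_, affine := fun i => hV i.1,
            μ := fun i => μ i.1, basis := fun i => hμ i.1, c := fun i => c i.1,
            locus := fun i => genOpen_inf_eq_basicOpen _ (isBasis_pw (hℓ i.1) e) (hc i.1), trans := ?_ }⟩
  · obtain ⟨i, hi, hxi⟩ := Set.mem_iUnion₂.mp (hs (Set.mem_univ x))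
    exact ⟨⟨i, hi⟩, hxi⟩
  intro i j W hi hj v hv
  obtain ⟨v', hv'⟩ := exists_coef (isBasis_res (hℓ i.1) hi) (res L hj (ℓ j.1))
  have ht : ∀ (x : X) (h : W ≤ V x), gres (CohB1.tensorPow L e) t0 W = resR h (c x) • pw L (res L h (ℓ x)) e := by
    intro x h
    rw [← res_pw h, ← res_gres _ _ h, hc x, res_smul]
  have h1 := (ht i.1 hi).symm.trans (ht j.1 hj)
  rw [hv', pw_smul, smul_smul] at h1
  have h2 := coef_unique (isBasis_pw (isBasis_res (hℓ i.1) hi) e) h1
  have hres : ∀ (x : X) (h : W ≤ V x), Φ.hom.app W (SecTwist.tmul L M W (res L h (ℓ x)) (res M h (μ x))) = oneSec X W := by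
    intro x h
    rw [← res_tmul, QCohLib.app_map, hone]
    exact res_oneSec h
  have hi1 := hres i.1 hi
  have hj1 := hres j.1 hj
  rw [hv, ProjCoh.tmul_smul_right, ProjCoh.tmul_smul_left, Scheme.Modules.Hom.app_smul] at hi1
  rw [hv', ProjCoh.tmul_smul_left, Scheme.Modules.Hom.app_smul] at hj1
  let z : Γ(X, W) := Φ.hom.app W (SecTwist.tmul L M W (res L hi (ℓ i.1)) (res M hj (μ j.1)))
  have hiz : v * z = 1 := hi1
  have hjz : v' * z = 1 := hj1
  have hvv : v' = v := by
    calc v' = v' * (v * z) := by rw [hiz, mul_one]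
      _ = v * (v' * z) := by ring
      _ = v := by rw [hjz, mul_one]
  rw [h2, hvv]

section Rel

variable {L M F : X.Modules} {U : X.Opens} {e : ℕ} (C : Charts L M U e)

/-- `u` (twist `eq + a`) and `w` (twist `a`, on `U`) correspond. -/
def Charts.Rel (a q : ℕ) (u : Γ(CohB1.tensorMod F (CohB1.tensorPow M (e * q + a)), ⊤))
    (w : Γ(CohB1.tensorMod F (CohB1.tensorPow M a), U)) : Prop :=
  ∀ i, ∃ b : Γ(F, C.V i),
    gres (CohB1.tensorMod F (CohB1.tensorPow M (e * q + a))) u (C.V i) =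
      SecTwist.tmul F (CohB1.tensorPow M (e * q + a)) (C.V i) b (pw M (C.μ i) (e * q + a)) ∧
    res (CohB1.tensorMod F (CohB1.tensorPow M a)) (inf_le_left : U ⊓ C.V i ≤ U) w =
      SecTwist.tmul F (CohB1.tensorPow M a) (U ⊓ C.V i)
        (resR (inf_le_right : U ⊓ C.V i ≤ C.V i) (C.c i ^ q) • res F inf_le_right b)
        (pw M (res M (inf_le_right : U ⊓ C.V i ≤ C.V i) (C.μ i)) a)

theorem tmul_pw_bij (F : X.Modules) {M : X.Modules} {V : X.Opens} {μ : Γ(M, V)} (hμ : IsBasis M μ) (n : ℕ) :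
    Function.Bijective fun m : Γ(F, V) => SecTwist.tmul F (CohB1.tensorPow M n) V m (pw M μ n) := by
  have h := tmul_bij F (isBasis_pw hμ n) (le_refl V)
  simp only [QCohLib.map_self] at h
  convert h using 2 with m

theorem Charts.isUnit_c (i : C.ι) : IsUnit (resR (inf_le_right : U ⊓ C.V i ≤ C.V i) (C.c i)) := by
  have h := RingedSpace.isUnit_res_basicOpen X.toRingedSpace (C.c i)
  have h2 : U ⊓ C.V i ≤ X.basicOpen (C.c i) := (C.locus i).le
  have h3 := h.map (X.presheaf.map (homOfLE h2).op).hom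
  refine (congrArg IsUnit ?_).mp h3
  change (X.presheaf.map _ ≫ X.presheaf.map _) (C.c i) = _
  rw [← X.presheaf.map_comp]
  rfl

theorem Charts.rel_zero {a q : ℕ} : C.Rel (F := F) a q 0 0 := fun i => ⟨0, by
    rw [ProjCoh.tmul_zero_left]; exact map_zero _, by
    rw [res_zero, res_zero, smul_zero, ProjCoh.tmul_zero_left]⟩

theorem Charts.rel_add {a q : ℕ} {u u' w w'} (h : C.Rel (F := F) a q u w) (h' : C.Rel (F := F) a q u' w') :
    C.Rel (F := F) a q (u + u') (w + w') := fun i => by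
  obtain ⟨b, hb, hb2⟩ := h i
  obtain ⟨b', hb', hb2'⟩ := h' i
  refine ⟨b + b', ?_, ?_⟩
  · rw [ProjCoh.tmul_add_left, ← hb, ← hb']
    exact map_add _ _ _
  · rw [show res F (inf_le_right : U ⊓ C.V i ≤ C.V i) (b + b') = res F inf_le_right b + res F inf_le_right b' from
      map_add _ _ _, smul_add, ProjCoh.tmul_add_left, ← hb2, ← hb2']
    exact map_add _ _ _

theorem Charts.rel_smul {a q : ℕ} {u w} (h : C.Rel (F := F) a q u w) (g : Γ(X, ⊤)) :
    C.Rel (F := F) a q (g • u) (resR (le_top : U ≤ ⊤) g • w) := fun i => by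
  obtain ⟨b, hb, hb2⟩ := h i
  refine ⟨resR (le_top : C.V i ≤ ⊤) g • b, ?_, ?_⟩
  · rw [ProjCoh.tmul_smul_left, ← hb]
    exact res_smul _ _ _ _
  · rw [res_smul, hb2, res_smul, smul_comm, ProjCoh.tmul_smul_left F _ _ (resR _ (resR _ g))]
    congr 1
    change (X.presheaf.map _ ≫ X.presheaf.map _) g = (X.presheaf.map _ ≫ X.presheaf.map _) g
    rw [← X.presheaf.map_comp, ← X.presheaf.map_comp]
    rfl

/-- Transition law of the local coefficients. -/
theorem Charts.coef_trans {n : ℕ} {i j : C.ι} {W : X.Opens} (hi : W ≤ C.V i) (hj : W ≤ C.V j)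
    {v : Γ(X, W)} (hv : res M hi (C.μ i) = v • res M hj (C.μ j)) {b b' : Γ(F, W)}
    (h : SecTwist.tmul F (CohB1.tensorPow M n) W b (pw M (res M hi (C.μ i)) n) =
      SecTwist.tmul F (CohB1.tensorPow M n) W b' (pw M (res M hj (C.μ j)) n)) : b' = v ^ n • b := by
  rw [hv, pw_smul, ProjCoh.tmul_smul_right] at h
  exact ((tmul_pw_bij F (isBasis_res (C.basis j) hj) n).1 h).symm

variable (hinj : ∀ W : X.Opens, Function.Injective (res F (inf_le_left : W ⊓ U ≤ W)))

include hinj in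
theorem Charts.rel_left_unique {a q : ℕ} {u w} (h : C.Rel (F := F) a q u w) (hw : w = 0) : u = 0 := by
  subst hw
  refine eq_zero_of_cover _ C.cover u fun i => ?_
  have hu : gres (CohB1.tensorMod F (CohB1.tensorPow M (e * q + a))) u (C.V i) = 0 := by
    obtain ⟨b, hb, hb2⟩ := h i
    rw [hb]
    rw [res_zero] at hb2
    have h1 : resR (inf_le_right : U ⊓ C.V i ≤ C.V i) (C.c i ^ q) • res F inf_le_right b = 0 :=
      (tmul_pw_bij F (isBasis_res (C.basis i) inf_le_right) a).1
        (hb2.symm.trans (ProjCoh.tmul_zero_left F _ _ _).symm)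
    rw [resR_pow] at h1
    have h2 := ((C.isUnit_c i).pow q).smul_eq_zero.mp h1
    have h3 : b = 0 := hinj (C.V i) (by
      rw [res_zero, ← res_res F (inf_le_right : U ⊓ C.V i ≤ C.V i) (le_of_eq (inf_comm _ _) : C.V i ⊓ U ≤ U ⊓ C.V i), h2,
        res_zero])
    rw [h3, ProjCoh.tmul_zero_left]
  exact (congrArg (res _ (inf_le_right : ⊤ ⊓ C.V i ≤ C.V i)) hu ▸ (res_gres _ u (inf_le_right : ⊤ ⊓ C.V i ≤ C.V i)).symm).trans (map_zero _)

theorem Charts.exists_right {a q : ℕ} (u : Γ(CohB1.tensorMod F (CohB1.tensorPow M (e * q + a)), ⊤)) :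
    ∃ w, C.Rel (F := F) a q u w := by
  choose b hb using fun i => (tmul_pw_bij F (C.basis i) (e * q + a)).2
    (gres (CohB1.tensorMod F (CohB1.tensorPow M (e * q + a))) u (C.V i))
  replace hb : ∀ i, SecTwist.tmul F (CohB1.tensorPow M (e * q + a)) (C.V i) (b i) (pw M (C.μ i) (e * q + a)) =
      gres (CohB1.tensorMod F (CohB1.tensorPow M (e * q + a))) u (C.V i) := hb
  obtain ⟨w, hw, -⟩ := TopCat.Sheaf.existsUnique_gluing'
    ⟨(CohB1.tensorMod F (CohB1.tensorPow M a)).presheaf, (CohB1.tensorMod F (CohB1.tensorPow M a)).isSheaf⟩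
    (fun i => U ⊓ C.V i) U (fun i => homOfLE inf_le_left)
    (fun x hx => by obtain ⟨i, hi⟩ := C.cover x; exact Opens.mem_iSup.mpr ⟨i, hx, hi⟩)
    (fun i => SecTwist.tmul F (CohB1.tensorPow M a) (U ⊓ C.V i)
        (resR (inf_le_right : U ⊓ C.V i ≤ C.V i) (C.c i ^ q) • res F inf_le_right (b i))
        (pw M (res M (inf_le_right : U ⊓ C.V i ≤ C.V i) (C.μ i)) a)) fun i j => by
      let W := U ⊓ C.V i ⊓ (U ⊓ C.V j)
      have hi : W ≤ C.V i := inf_le_left.trans inf_le_right
      have hj : W ≤ C.V j := inf_le_right.trans inf_le_right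
      change res _ (inf_le_left : W ≤ U ⊓ C.V i) _ = res _ (inf_le_right : W ≤ U ⊓ C.V j) _
      erw [res_tmul, res_tmul, res_smul, res_smul, res_res, res_res, res_pw, res_pw, res_res, res_res]
      obtain ⟨v, hv⟩ := exists_coef (isBasis_res (C.basis j) hj) (res M hi (C.μ i))
      have hbW : res F hj (b j) = v ^ (e * q + a) • res F hi (b i) := by
        refine C.coef_trans (n := e * q + a) hi hj hv ?_
        have e1 := congrArg (res (CohB1.tensorMod F (CohB1.tensorPow M (e * q + a))) hi) (hb i)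
        have e2 := congrArg (res (CohB1.tensorMod F (CohB1.tensorPow M (e * q + a))) hj) (hb j)
        rw [res_tmul, res_pw, res_gres] at e1 e2
        exact e1.trans e2.symm
      have hcW := C.trans i j W hi hj v hv
      rw [show ∀ h : W ≤ C.V i, resR inf_le_left (resR (inf_le_right : U ⊓ C.V i ≤ C.V i) (C.c i ^ q)) =
          resR h (C.c i) ^ q from fun h => by rw [← resR_pow]; exact res_res (Coh.structureModule X) _ _ _,
        show ∀ h : W ≤ C.V j, resR inf_le_right (resR (inf_le_right : U ⊓ C.V j ≤ C.V j) (C.c j ^ q)) =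
          resR h (C.c j) ^ q from fun h => by rw [← resR_pow]; exact res_res (Coh.structureModule X) _ _ _]
      · rw [hv, pw_smul, ProjCoh.tmul_smul_right, hbW, hcW, smul_smul, smul_smul,
          mul_pow, ← pow_mul, pow_add]
        congr 2
        ring
      · exact hj
      · exact hi
  exact ⟨w, fun i => ⟨b i, (hb i).symm, hw i⟩⟩

theorem Charts.right_unique {a q : ℕ} {u w w'}
    (h : C.Rel (F := F) a q u w) (h' : C.Rel (F := F) a q u w') : w = w' := by
  refine TopCat.Sheaf.eq_of_locally_eq' ⟨(CohB1.tensorMod F (CohB1.tensorPow M a)).presheaf,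
    (CohB1.tensorMod F (CohB1.tensorPow M a)).isSheaf⟩ (fun i => U ⊓ C.V i) U (fun i => homOfLE inf_le_left)
    (fun x hx => by obtain ⟨i, hi⟩ := C.cover x; exact Opens.mem_iSup.mpr ⟨i, hx, hi⟩) _ _ fun i => ?_
  obtain ⟨b, hb, hb2⟩ := h i
  obtain ⟨b', hb', hb2'⟩ := h' i
  rw [(tmul_pw_bij F (C.basis i) _).1 (hb.symm.trans hb')] at hb2
  exact hb2.trans hb2'.symm


include hinj in
theorem Charts.rel_mul [F.IsQuasicoherent] (f : Γ(X, U)) :
    ∃ j₀ : ℕ, ∀ (a q j : ℕ), j₀ ≤ j → ∀ u w, C.Rel (F := F) a (q + j) u w →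
      ∃ u', C.Rel (F := F) a q u' (f • w) := by
  have := isQuasicoherent_structureModule X
  choose N g hg using fun i => exists_res_eq_pow_smul_of_isCompact (M := Coh.structureModule X)
    (C.affine i).isCompact (C.affine i).isQuasiSeparated (C.c i) (U ⊓ C.V i) inf_le_right (C.locus i)
    (resR (inf_le_left : U ⊓ C.V i ≤ U) f)
  have := C.fin
  have := Fintype.ofFinite C.ι
  refine ⟨Finset.univ.sup N, fun a q j hj u w h => ?_⟩
  choose b hb hb2 using h
  let g' : ∀ i, Γ(X, C.V i) := fun i => C.c i ^ (j - N i) * (show Γ(X, C.V i) from g i)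
  have hg' : ∀ i, resR (inf_le_right : U ⊓ C.V i ≤ C.V i) (g' i) =
      resR (inf_le_right : U ⊓ C.V i ≤ C.V i) (C.c i) ^ j * resR (inf_le_left : U ⊓ C.V i ≤ U) f := fun i => by
    simp only [g']
    rw [resR_mul, resR_pow,
      show resR (inf_le_right : U ⊓ C.V i ≤ C.V i) (show Γ(X, C.V i) from g i) =
        resR (inf_le_right : U ⊓ C.V i ≤ C.V i) (C.c i) ^ N i * resR (inf_le_left : U ⊓ C.V i ≤ U) f from hg i,
      ← mul_assoc, ← pow_add, Nat.sub_add_cancel ((Finset.le_sup (Finset.mem_univ i)).trans hj)]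
  obtain ⟨u', hu'⟩ := exists_glue_sections (CohB1.tensorMod F (CohB1.tensorPow M (e * q + a))) C.V C.cover
    (fun i => SecTwist.tmul F _ (C.V i) (g' i • b i) (pw M (C.μ i) (e * q + a))) fun i i' => by
      let W := C.V i ⊓ C.V i'
      have hi : W ≤ C.V i := inf_le_left
      have hj : W ≤ C.V i' := inf_le_right
      change res _ hi _ = res _ hj _
      erw [res_tmul, res_tmul, res_smul, res_smul, res_pw, res_pw]
      obtain ⟨v, hv⟩ := exists_coef (isBasis_res (C.basis i') hj) (res M hi (C.μ i))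
      have hbW : res F hj (b i') = v ^ (e * (q + j) + a) • res F hi (b i) := by
        refine C.coef_trans (n := e * (q + j) + a) hi hj hv ?_
        have e1 := congrArg (res _ hi) (hb i)
        have e2 := congrArg (res _ hj) (hb i')
        rw [res_tmul, res_pw, res_gres] at e1 e2
        exact e1.symm.trans e2
      rw [hv, pw_smul, ProjCoh.tmul_smul_right]
      refine congrArg (fun m => SecTwist.tmul F _ W m (pw M (res M hj (C.μ i')) (e * q + a))) (hinj W ?_)
      rw [hbW, res_smul, res_smul, res_smul, res_smul]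
      have hWi : W ⊓ U ≤ U ⊓ C.V i := le_inf inf_le_right (inf_le_left.trans hi)
      have hWj : W ⊓ U ≤ U ⊓ C.V i' := le_inf inf_le_right (inf_le_left.trans hj)
      have ec := congrArg (resR (inf_le_left : W ⊓ U ≤ W)) (C.trans i i' W hi hj v hv)
      have eg := congrArg (resR hWi) (hg' i)
      have eg' := congrArg (resR hWj) (hg' i')
      simp only [resR_mul, resR_pow, resR_resR'] at ec eg eg' ⊢
      rw [eg, eg', ec]
      simp only [smul_smul]
      congr 1
      ring
  refine ⟨u', fun i => ⟨g' i • b i, hu' i, ?_⟩⟩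
  rw [res_smul, hb2, ← ProjCoh.tmul_smul_left, res_smul, smul_smul, smul_smul, resR_pow, resR_pow, hg']
  congr 2
  change resR _ f * _ = _
  ring
where
  resR_resR' {W₁ W₂ W₃ : X.Opens} (h₁ : W₂ ≤ W₁) (h₂ : W₃ ≤ W₂) (x : Γ(X, W₁)) :
      resR h₂ (resR h₁ x) = resR (h₂.trans h₁) x := res_res (Coh.structureModule X) h₁ h₂ x

end Rel

variable (k : Type u) [Field k] [X.Over (Spec (CommRingCat.of k))]
  [IsProper (X ↘ Spec (CommRingCat.of k))]

include k in
/-- Global sections of negative twists of a module without closed associated point vanish. -/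
theorem subsingleton_sections_negTwist {L M : X.Modules} (hL : CohB1.IsAmple L)
    (hM : ClSub.IsInverseOf L M) {F : X.Modules} (hF : Coh.IsCoh F)
    (hass : ∀ x : X, IsClosed ({x} : Set X) → ¬ Curv2.IsAssPoint F x) :
    ∃ n₀ : ℕ, ∀ n : ℕ, n₀ ≤ n →
      Subsingleton (Coh.HH X (CohB1.tensorMod F (CohB1.tensorPow M n)) 0) := by
  classical
  have : CompactSpace X := QuasiCompact.compactSpace_of_compactSpace (X ↘ Spec (CommRingCat.of k))
  have : IsLocallyNoetherian X := LocallyOfFiniteType.isLocallyNoetherian (X ↘ Spec (CommRingCat.of k))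
  have := LocallyOfFiniteType.jacobsonSpace (X ↘ Spec (CommRingCat.of k))
  obtain ⟨Φ⟩ := hM
  have hMi : PicF.IsInvertible M := isInvertible_of_isBasis fun x => by
    obtain ⟨V, hx, -, ℓ, μ, -, hμ, -⟩ := exists_paired_bases hL.1 Φ x
    exact ⟨V, hx, μ, hμ⟩
  have hfin : {x : X | x ∈ (⊤ : X.Opens) ∧ Curv2.IsAssPoint F x}.Finite :=
    S1576.result X F hF ⊤ isCompact_univ
  obtain ⟨e, he, t0, hsub, -, haff⟩ := exists_locus_finite hL _ hfin ⊤ (fun _ _ => trivial)
  let U := genOpen (isInvertible_tensorPow hL.1 e) t0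
  obtain ⟨C⟩ := nonempty_charts hL.1 Φ t0
  have := hF.1
  have hinj : ∀ W : X.Opens, Function.Injective (res F (inf_le_left : W ⊓ U ≤ W)) := fun W =>
    AssPoints.restrict_injective hF.1 inf_le_left fun x hxW hw =>
      ⟨hxW, hsub ⟨trivial, AssPoints.isWeakAssPoint_iff_isAssPoint.mp hw⟩⟩
  suffices key : ∀ a : ℕ, ∃ Q : ℕ, ∀ q, Q ≤ q →
      Subsingleton (Coh.HH X (CohB1.tensorMod F (CohB1.tensorPow M (e * q + a))) 0) by
    choose Q hQ using key
    refine ⟨e * ((Finset.range e).sup Q) + e, fun n hn => ?_⟩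
    have h1 : (Finset.range e).sup Q ≤ n / e := (Nat.le_div_iff_mul_le he).mpr (by rw [mul_comm]; omega)
    have h2 := hQ (n % e) (n / e) ((Finset.le_sup (Finset.mem_range.mpr (Nat.mod_lt n he))).trans h1)
    rwa [Nat.div_add_mod] at h2
  intro a
  let φ : k →+* Γ(X, ⊤) := Coh.toGlobal (X ↘ Spec (CommRingCat.of k))
  let G := fun q => CohB1.tensorMod F (CohB1.tensorPow M (e * q + a))
  let Fa := CohB1.tensorMod F (CohB1.tensorPow M a)
  have hGfin : ∀ q, ∃ (S : Finset Γ(G q, ⊤)), ∀ u : Γ(G q, ⊤), ∃ r : Γ(G q, ⊤) → k, u = ∑ s ∈ S, φ (r s) • s := by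
    intro q
    have := finite_HH (k := k) (isCoh_tensorMod hF (isInvertible_tensorPow hMi (e * q + a))) 0
    let E : Coh.HH X (G q) 0 ≃+ Γ(G q, ⊤) :=
      (CohVanish.hEquiv (X := CohVanish.sp X) (Coh.toAb (G q)) 0).trans (CohVanish.eu0 ⊤ _)
    have hE : ∀ (r : k) (x : Coh.HH X (G q) 0), E (r • x) = φ r • E x := fun r x => by
      change CohVanish.eu0 ⊤ _ (CohVanish.hEquiv _ 0 (Sheaf.H.map (Coh.smulAb (G q) (φ r)) 0 x)) = _
      rw [CohVanish.hEquiv_map, CohVanish.eu0_eMap]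
      exact congrArg (fun c : Γ(X, ⊤) => c • E x) (QCohLib.map_self (Coh.structureModule X) _ (φ r))
    obtain ⟨S, hS⟩ := (Module.Finite.fg_top : (⊤ : Submodule k (Coh.HH X (G q) 0)).FG)
    refine ⟨S.image E, fun u => ?_⟩
    obtain ⟨r, -, hr⟩ := Submodule.mem_span_finset.mp (hS ▸ Submodule.mem_top : E.symm u ∈ Submodule.span k (S : Set _))
    refine ⟨fun s => r (E.symm s), ?_⟩
    rw [Finset.sum_image fun x _ y _ h => E.injective h]
    conv_lhs => rw [← E.apply_symm_apply u, ← hr, map_sum]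
    exact Finset.sum_congr rfl fun x _ => by simp only [hE, E.symm_apply_apply]
  let ψ : k →+* Γ(X, U) := (X.presheaf.map (homOfLE (le_top : U ≤ ⊤)).op).hom.comp φ
  letI : Module k Γ(Fa, U) := Module.compHom _ ψ
  letI : Algebra k Γ(X, U) := ψ.toAlgebra
  have : IsScalarTower k Γ(X, U) Γ(Fa, U) := ⟨fun r f w => mul_smul (ψ r) f w⟩
  let W : ℕ → Submodule k Γ(Fa, U) := fun q =>
    { carrier := {w | ∃ u, C.Rel (F := F) a q u w}
      zero_mem' := ⟨0, C.rel_zero⟩
      add_mem' := fun ⟨u, hu⟩ ⟨u', hu'⟩ => ⟨u + u', C.rel_add hu hu'⟩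
      smul_mem' := fun r w ⟨u, hu⟩ => ⟨φ r • u, C.rel_smul hu (φ r)⟩ }
  have hWfin : ∀ q, Module.Finite k (W q) := fun q => by
    obtain ⟨S, hS⟩ := hGfin q
    choose w hw using fun s : Γ(G q, ⊤) => C.exists_right (F := F) (a := a) (q := q) s
    rw [Module.Finite.iff_fg]
    refine ⟨S.image w, le_antisymm ?_ fun x hx => ?_⟩
    · rw [Submodule.span_le]
      intro x hx
      obtain ⟨s, -, rfl⟩ := Finset.mem_image.mp (Finset.mem_coe.mp hx)
      exact ⟨s, hw s⟩
    · obtain ⟨u, hu⟩ := hx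
      obtain ⟨r, rfl⟩ := hS u
      have hsum : ∀ T : Finset Γ(G q, ⊤),
          C.Rel (F := F) a q (∑ s ∈ T, φ (r s) • s) (∑ s ∈ T, r s • w s) := fun T => by
        induction T using Finset.induction with
        | empty => exact C.rel_zero
        | insert s T hs ih =>
          rw [Finset.sum_insert hs, Finset.sum_insert hs]
          exact C.rel_add (C.rel_smul (hw s) (φ (r s))) ih
      have : x = ∑ s ∈ S, r s • w s := C.right_unique hu (hsum S)
      rw [this, Finset.coe_image]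
      exact Submodule.sum_mem _ fun s hs => Submodule.smul_mem _ _ (Submodule.subset_span ⟨s, hs, rfl⟩)
  obtain ⟨j₁, hj₁⟩ := C.rel_mul (F := F) hinj 1
  have hanti : ∀ q j, j₁ ≤ j → W (q + j) ≤ W q := fun q j hj w hw => by
    obtain ⟨u, hu⟩ := hw
    obtain ⟨u', hu'⟩ := hj₁ a q j hj u w hu
    rw [one_smul] at hu'
    exact ⟨u', hu'⟩
  -- minimise the dimension
  have : Set.Nonempty (Set.range fun q => Module.finrank k (W q)) := ⟨_, 0, rfl⟩
  obtain ⟨Q, hQ⟩ := Nat.sInf_mem this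
  dsimp only at hQ
  have hstab : ∀ j, j₁ ≤ j → W (Q + j) = W Q := fun j hj => by
    have := hWfin Q
    exact Submodule.eq_of_le_of_finrank_le (hanti Q j hj) (hQ ▸ Nat.sInf_le ⟨_, rfl⟩)
  suffices hW0 : W Q = ⊥ by
    refine ⟨Q + j₁, fun q hq => ?_⟩
    obtain ⟨j, rfl⟩ := Nat.exists_eq_add_of_le (le_trans (Nat.le_add_right Q j₁) hq)
    let E : Coh.HH X (G (Q + j)) 0 ≃+ Γ(G (Q + j), ⊤) :=
      (CohVanish.hEquiv (X := CohVanish.sp X) (Coh.toAb (G (Q + j))) 0).trans (CohVanish.eu0 ⊤ _)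
    suffices h0 : Subsingleton Γ(G (Q + j), ⊤) from E.injective.subsingleton
    refine subsingleton_of_forall_eq 0 fun u => ?_
    obtain ⟨w, hw⟩ := C.exists_right (F := F) (a := a) u
    refine C.rel_left_unique hinj hw ?_
    have : w ∈ W Q := hanti Q j (by omega) ⟨u, hw⟩
    rw [hW0] at this
    exact (Submodule.mem_bot k).mp this
  -- `W Q` is stable under all functions on `U`
  by_contra hne
  let N : Submodule Γ(X, U) Γ(Fa, U) :=
    { carrier := W Q
      zero_mem' := zero_mem _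
      add_mem' := fun ha hb => add_mem ha hb
      smul_mem' := fun f w hw => by
        obtain ⟨j₀, hj₀⟩ := C.rel_mul (F := F) hinj f
        obtain ⟨u, hu⟩ : w ∈ W (Q + max j₀ j₁) := (hstab _ (le_max_right _ _)).ge hw
        exact hj₀ a Q _ (le_max_left _ _) u w hu }
  have : Module.Finite k N := hWfin Q
  have : IsArtinian Γ(X, U) N := isArtinian_of_tower k (inferInstance : IsArtinian k N)
  have hNne : (⊤ : Submodule Γ(X, U) N) ≠ ⊥ := fun h => hne (eq_bot_iff.mpr fun w hw => by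
    have hz : (⟨w, hw⟩ : N) ∈ (⊤ : Submodule Γ(X, U) N) := trivial
    rw [h, Submodule.mem_bot] at hz
    rw [Submodule.mem_bot]
    exact congrArg (fun z : N => z.1) hz)
  obtain ⟨S, hS, -⟩ := (eq_bot_or_exists_atom_le (⊤ : Submodule Γ(X, U) N)).resolve_left hNne
  obtain ⟨w, hw, hw0⟩ := Submodule.exists_mem_ne_zero_of_ne_bot hS.1
  let P : Ideal Γ(X, U) := LinearMap.ker (LinearMap.toSpanSingleton Γ(X, U) N w)
  have hP : P.IsMaximal := by
    refine Ideal.isMaximal_iff.mpr ⟨fun h => hw0 (by simpa [P] using h), fun J f hPJ hfP hfJ => ?_⟩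
    have hfw : f • w ≠ 0 := hfP
    have hle : Submodule.span Γ(X, U) {f • w} ≤ S :=
      (Submodule.span_singleton_le_iff_mem _ _).mpr (S.smul_mem f hw)
    have heq : Submodule.span Γ(X, U) {f • w} = S :=
      (hS.le_iff.mp hle).resolve_left fun h => hfw (Submodule.span_singleton_eq_bot.mp h)
    obtain ⟨g, hg⟩ := Submodule.mem_span_singleton.mp (heq.ge hw)
    have h1 : 1 - g * f ∈ P := by
      change (1 - g * f) • w = 0
      rw [sub_smul, one_smul, mul_smul, hg, sub_self]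
    have := J.add_mem (hPJ h1) (J.mul_mem_left g hfJ)
    rwa [sub_add_cancel] at this
  let y := haff.fromSpec ⟨P, hP.isPrime⟩
  have hyU : y ∈ U := haff.range_fromSpec.le ⟨_, rfl⟩
  have hpy : haff.primeIdealOf ⟨y, hyU⟩ = ⟨P, hP.isPrime⟩ :=
    haff.fromSpec.isOpenEmbedding.injective (haff.fromSpec_primeIdealOf ⟨y, hyU⟩)
  have hyc : IsClosed ({y} : Set X) := by
    refine isClosed_singleton_of_isLocallyClosed_singleton ⟨(U : Set X), closure {y}, U.2, isClosed_closure, ?_⟩
    refine Set.Subset.antisymm (Set.singleton_subset_iff.mpr ⟨hyU, subset_closure rfl⟩) fun z ⟨hzU, hz⟩ => ?_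
    obtain ⟨p, rfl⟩ := haff.range_fromSpec.ge hzU
    have hsp : (⟨P, hP.isPrime⟩ : PrimeSpectrum Γ(X, U)) ⤳ p :=
      haff.fromSpec.isOpenEmbedding.isInducing.specializes_iff.mp (specializes_iff_mem_closure.mpr hz)
    have h' : P = p.asIdeal := hP.eq_of_le p.isPrime.ne_top
      ((PrimeSpectrum.le_iff_specializes (⟨P, hP.isPrime⟩ : PrimeSpectrum Γ(X, U)) p).mpr hsp)
    exact congrArg haff.fromSpec (PrimeSpectrum.ext h'.symm)
  obtain ⟨i, hiy⟩ := C.cover y
  refine hass y hyc ?_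
  have hFaq : Fa.IsQuasicoherent := (isCoh_tensorMod hF (isInvertible_tensorPow hMi a)).1
  have hwne : Fa.presheaf.germ U y hyU w.1 ≠ 0 := fun h => by
    obtain ⟨f, hf, hfw⟩ := (germ_eq_zero_iff haff y hyU w.1).mp h
    rw [mem_basicOpen_iff_notMem_primeIdealOf haff hyU, hpy] at hf
    exact hf (show f ∈ P from Subtype.ext hfw)
  let V := U ⊓ C.V i
  obtain ⟨b, hb⟩ := (tmul_pw_bij F (isBasis_res (C.basis i) (inf_le_right : V ≤ C.V i)) a).2
    (res Fa (inf_le_left : V ≤ U) w.1)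
  dsimp only at hb
  have hbne : F.presheaf.germ V y ⟨hyU, hiy⟩ b ≠ 0 := fun h => hwne (by
    obtain ⟨W', hW', iW, iW₂, hz⟩ := F.presheaf.germ_eq (U := V) (V := V) y ⟨hyU, hiy⟩ ⟨hyU, hiy⟩ b 0
      (h.trans (map_zero _).symm)
    rw [map_zero] at hz
    have := congrArg (res Fa iW.le) hb
    rw [res_tmul, show res F iW.le b = 0 from hz, ProjCoh.tmul_zero_left, res_res] at this
    rw [← TopCat.Presheaf.germ_res_apply Fa.presheaf (homOfLE (iW.le.trans inf_le_left : W' ≤ U)) y hW' w.1]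
    exact (congrArg _ this.symm).trans (map_zero _))
  have hkill : IsLocalRing.maximalIdeal (X.presheaf.stalk y) ≤
      LinearMap.ker (LinearMap.toSpanSingleton _ _ (F.presheaf.germ V y ⟨hyU, hiy⟩ b)) := by
    intro r hr
    letI := TopCat.Presheaf.algebra_section_stalk X.presheaf (⟨y, hyU⟩ : U)
    haveI := haff.isLocalization_stalk ⟨y, hyU⟩
    obtain ⟨⟨f, s⟩, hfs⟩ := IsLocalization.surj (haff.primeIdealOf ⟨y, hyU⟩).asIdeal.primeCompl r
    have hfP : f ∈ P := by
      by_contra hc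
      have hu := IsLocalization.map_units (X.presheaf.stalk y)
        (⟨f, by rw [hpy]; exact hc⟩ : (haff.primeIdealOf ⟨y, hyU⟩).asIdeal.primeCompl)
      rw [← hfs] at hu
      exact hr (isUnit_of_mul_isUnit_left hu)
    have hfw : f • w.1 = 0 := congrArg Subtype.val (show f • w = 0 from hfP)
    have hfb : resR (inf_le_left : V ≤ U) f • b = 0 := by
      apply (tmul_pw_bij F (isBasis_res (C.basis i) (inf_le_right : V ≤ C.V i)) a).1
      dsimp only
      rw [ProjCoh.tmul_smul_left, hb, ProjCoh.tmul_zero_left]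
      exact (res_smul Fa (inf_le_left : V ≤ U) f w.1).symm.trans ((congrArg _ hfw).trans (map_zero _))
    change r • F.presheaf.germ V y ⟨hyU, hiy⟩ b = 0
    have h1 : X.presheaf.germ U y hyU f • F.presheaf.germ V y ⟨hyU, hiy⟩ b = 0 := by
      rw [← TopCat.Presheaf.germ_res_apply X.presheaf (homOfLE (inf_le_left : V ≤ U)) y ⟨hyU, hiy⟩ f,
        ← QCohLib.germ_smul]
      exact (congrArg _ hfb).trans (map_zero _)
    rw [← (show r * X.presheaf.germ U y hyU s.1 = X.presheaf.germ U y hyU f from hfs), mul_comm, mul_smul] at h1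
    exact (IsLocalization.map_units (X.presheaf.stalk y) s).smul_eq_zero.mp h1
  rw [← AssPoints.isWeakAssPoint_iff_isAssPoint]
  refine ⟨F.presheaf.germ V y ⟨hyU, hiy⟩ b, ?_⟩
  rw [show LinearMap.ker (LinearMap.toSpanSingleton (X.presheaf.stalk y) _ (F.presheaf.germ V y ⟨hyU, hiy⟩ b)) =
      IsLocalRing.maximalIdeal (X.presheaf.stalk y) from le_antisymm (IsLocalRing.le_maximalIdeal fun htop => hbne
        ((one_smul (X.presheaf.stalk y) _).symm.trans
          (LinearMap.mem_ker.mp ((Ideal.eq_top_iff_one _).mp htop)))) hkill]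
  exact (IsLocalRing.maximalIdeal.isMaximal _).isPrime.radical
end Groth.Agent.HilbPoly
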