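import Groth.Agent.InvPow.GloballyGenerated
import Groth.Agent.TensorQCoh.Basic
import Groth.Agent.ProjTwist.Tensor
import Groth.Agent.ProjTwist.LocBij
import Groth.Agent.QCohLib.Cover
import Groth.Agent.CohVanish.Sections
import Groth.Prelude.Def_W4c2derhamsingLim

/-!
# Tensoring arbitrary modules with invertible modules

* `tMap f E : M ⊗ E ⟶ M' ⊗ E`; preserves mono, epi, short exact sequences for invertible `E`;
* `nonempty_iso_of_local`: modules with compatible local identifications are isomorphic;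
* associativity, unit, commutation with invertible modules; support; coherence.
-/

universe u

open CategoryTheory CategoryTheory.Limits AlgebraicGeometry Opposite TopologicalSpace TensorProduct

set_option backward.isDefEq.respectTransparency false
set_option maxHeartbeats 800000
set_option synthInstance.maxHeartbeats 400000

namespace Groth.Agent.HilbPoly

open InvBasic ProjUniv Groth.Agent.InvPow

variable {X : Scheme.{u}}

/-- `M ⊗ E ⟶ M' ⊗ E`. -/
noncomputable abbrev tMap {M M' : X.Modules} (f : M ⟶ M') (E : X.Modules) :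
    CohB1.tensorMod M E ⟶ CohB1.tensorMod M' E :=
  LimSh.tensorModMap f E

theorem tMap_tmul {M M' : X.Modules} (f : M ⟶ M') (E : X.Modules) (U : X.Opens) (m : Γ(M, U))
    (e : Γ(E, U)) :
    (tMap f E).app U (SecTwist.tmul M E U m e) = SecTwist.tmul M' E U (f.app U m) e := by
  have h := (PresheafOfModules.sheafificationAdjunction (𝟙 X.ringCatSheaf.obj)).unit.naturality
    (show (CohB1.tensorPre M E : X.PresheafOfModules) ⟶ (CohB1.tensorPre M' E : X.PresheafOfModules) from
      MonoidalCategory.whiskerRight (show CohB1.toPMod M ⟶ CohB1.toPMod M' from f.val) (CohB1.toPMod E))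
  exact (congrArg (fun φ => ((φ.app (op U)).hom (m ⊗ₜ e))) h).symm

/-- Tensoring sections with a basis is bijective. -/
theorem tmul_bij (M : X.Modules) {E : X.Modules} {V : X.Opens} {ℓ : Γ(E, V)} (hℓ : IsBasis E ℓ)
    {W : X.Opens} (hW : W ≤ V) :
    Function.Bijective fun m : Γ(M, W) => SecTwist.tmul M E W m (res E hW ℓ) :=
  ProjCoh.tmul_gen_bijective M (g := ℓ) hℓ hW

theorem res_tmul (M E : X.Modules) {U W : X.Opens} (h : W ≤ U) (m : Γ(M, U)) (e : Γ(E, U)) :
    res (CohB1.tensorMod M E) h (SecTwist.tmul M E U m e) = SecTwist.tmul M E W (res M h m) (res E h e) :=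
  SecTwist.map_tmul M E (homOfLE h) m e

theorem res_zero (M : X.Modules) {U W : X.Opens} (h : W ≤ U) : res M h (0 : Γ(M, U)) = 0 := map_zero _

theorem eq_zero_of_cover (M : X.Modules) {κ : Type*} {V : κ → X.Opens} (hV : ∀ x, ∃ i, x ∈ V i)
    {W : X.Opens} (s : Γ(M, W)) (h : ∀ i, res M (inf_le_left : W ⊓ V i ≤ W) s = 0) : s = 0 := by
  refine TopCat.Sheaf.eq_of_locally_eq' ⟨M.presheaf, M.isSheaf⟩ (fun i => W ⊓ V i) W
    (fun i => homOfLE inf_le_left) (fun y hy => ?_) _ _ fun i => ?_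
  · obtain ⟨i, hi⟩ := hV y
    exact Opens.mem_iSup.mpr ⟨i, hy, hi⟩
  · exact (h i).trans (map_zero _).symm

theorem mono_tMap {M M' : X.Modules} (f : M ⟶ M') [Mono f] {E : X.Modules} (hE : PicF.IsInvertible E) :
    Mono (tMap f E) := by
  have hf := (QCohLib.mono_iff_app_injective f).mp inferInstance
  choose V hxV ℓ hℓ using exists_isBasis hE
  rw [QCohLib.mono_iff_app_injective]
  refine fun W => (injective_iff_map_eq_zero ((tMap f E).app W).hom).mpr fun s hs => ?_
  refine eq_zero_of_cover _ (fun x => ⟨x, hxV x⟩) s fun x => ?_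
  obtain ⟨m, hm⟩ := (tmul_bij M (hℓ x) (inf_le_right : W ⊓ V x ≤ V x)).2
    (res (CohB1.tensorMod M E) inf_le_left s)
  have h := QCohLib.app_map (tMap f E) (inf_le_left : W ⊓ V x ≤ W) s
  change (tMap f E).app _ (res _ _ s) = res _ _ ((tMap f E).app W s) at h
  rw [← hm, tMap_tmul, show (tMap f E).app W s = 0 from hs, res_zero] at h
  have h0 : f.app _ m = 0 := (tmul_bij M' (hℓ x) (inf_le_right : W ⊓ V x ≤ V x)).1
    (h.trans (ProjCoh.tmul_zero_left M' E _ _).symm)
  rw [← hm, hf _ (h0.trans (map_zero _).symm)]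
  exact ProjCoh.tmul_zero_left M E _ _

theorem epi_tMap {M M' : X.Modules} (f : M ⟶ M') [Epi f] {E : X.Modules} (hE : PicF.IsInvertible E) :
    Epi (tMap f E) := by
  have hf := (QCohLib.epi_iff_locally_surjective f).mp inferInstance
  rw [QCohLib.epi_iff_locally_surjective]
  intro U t x hx
  obtain ⟨V, hxV, ℓ, hℓ⟩ := exists_isBasis hE x
  obtain ⟨m', hm'⟩ := (tmul_bij M' hℓ (inf_le_right : U ⊓ V ≤ V)).2
    (res (CohB1.tensorMod M' E) inf_le_left t)
  obtain ⟨W, hW, ⟨m, hm⟩, hxW⟩ := hf (U ⊓ V) m' x ⟨hx, hxV⟩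
  refine ⟨W, hW.trans inf_le_left, ⟨SecTwist.tmul M E W m (res E (hW.trans inf_le_right) ℓ), ?_⟩, hxW⟩
  rw [tMap_tmul, hm]
  have h2 := congrArg (res (CohB1.tensorMod M' E) hW) hm'
  rw [res_tmul, res_res, res_res] at h2
  exact h2


theorem hom_ext_tmul {M E N : X.Modules} (hE : PicF.IsInvertible E) (f g : CohB1.tensorMod M E ⟶ N)
    (h : ∀ (W : X.Opens) (m : Γ(M, W)) (e : Γ(E, W)),
      f.app W (SecTwist.tmul M E W m e) = g.app W (SecTwist.tmul M E W m e)) : f = g := by
  choose V hxV ℓ hℓ using exists_isBasis hE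
  refine Scheme.Modules.hom_ext _ _ fun W => ?_
  ext s
  rw [← sub_eq_zero]
  refine eq_zero_of_cover N (fun x => ⟨x, hxV x⟩) _ fun x => ?_
  obtain ⟨m, hm⟩ := (tmul_bij M (hℓ x) (inf_le_right : W ⊓ V x ≤ V x)).2
    (res (CohB1.tensorMod M E) inf_le_left s)
  refine (map_sub (N.presheaf.map (homOfLE (inf_le_left : W ⊓ V x ≤ W)).op).hom _ _).trans ?_
  rw [sub_eq_zero]
  refine (QCohLib.app_map f (inf_le_left : W ⊓ V x ≤ W) s).symm.trans
    (Eq.trans ?_ (QCohLib.app_map g (inf_le_left : W ⊓ V x ≤ W) s))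
  change f.app _ (res _ _ s) = g.app _ (res _ _ s)
  rw [← hm]
  exact h _ _ _

theorem tMap_zero (M M' : X.Modules) {E : X.Modules} (hE : PicF.IsInvertible E) :
    tMap (0 : M ⟶ M') E = 0 :=
  hom_ext_tmul hE _ _ fun W m e => by
    rw [tMap_tmul]
    exact ProjCoh.tmul_zero_left M' E W e

/-- The tensored short complex. -/
noncomputable def tSC (S : ShortComplex X.Modules) {E : X.Modules} (hE : PicF.IsInvertible E) :
    ShortComplex X.Modules :=
  ShortComplex.mk (tMap S.f E) (tMap S.g E)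
    (by rw [← LimSh.tensorModMap_comp, S.zero]; exact tMap_zero _ _ hE)

theorem shortExact_tSC {S : ShortComplex X.Modules} (hS : S.ShortExact) {E : X.Modules}
    (hE : PicF.IsInvertible E) : (tSC S hE).ShortExact := by
  have := hS.mono_f
  have := hS.epi_g
  have hm : Mono (tSC S hE).f := mono_tMap S.f hE
  have he : Epi (tSC S hE).g := epi_tMap S.g hE
  refine { exact := ?_ }
  rw [ShortComplex.exact_iff_epi_kernel_lift, QCohLib.epi_iff_locally_surjective]
  intro U t x hx
  obtain ⟨V, hxV, ℓ, hℓ⟩ := exists_isBasis hE x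
  let s := (kernel.ι (tSC S hE).g).app U t
  have hs : (tSC S hE).g.app U s = 0 := by
    change ((kernel.ι (tSC S hE).g) ≫ (tSC S hE).g).app U t = 0
    rw [kernel.condition]; rfl
  obtain ⟨m, hm'⟩ := (tmul_bij S.X₂ hℓ (inf_le_right : U ⊓ V ≤ V)).2
    (res (CohB1.tensorMod S.X₂ E) inf_le_left s)
  have hg : S.g.app _ m = 0 := by
    refine (tmul_bij S.X₃ hℓ (inf_le_right : U ⊓ V ≤ V)).1 ?_
    refine Eq.trans ?_ (ProjCoh.tmul_zero_left S.X₃ E _ _).symm
    refine (tMap_tmul S.g E _ m _).symm.trans ?_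
    dsimp only at hm'
    rw [hm']
    refine (QCohLib.app_map (tMap S.g E) (inf_le_left : U ⊓ V ≤ U) s).trans ?_
    exact (congrArg _ hs).trans (map_zero _)
  obtain ⟨a, ha⟩ := (QCohLib.sections_exact_of_shortExact hS (U ⊓ V)).2 m hg
  refine ⟨U ⊓ V, inf_le_left, ⟨SecTwist.tmul S.X₁ E _ a (res E inf_le_right ℓ), ?_⟩, hx, hxV⟩
  apply (QCohLib.mono_iff_app_injective (kernel.ι (tSC S hE).g)).mp inferInstance
  refine Eq.trans ?_ (QCohLib.app_map (kernel.ι (tSC S hE).g) (inf_le_left : U ⊓ V ≤ U) t).symm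
  change ((kernel.lift (tSC S hE).g (tSC S hE).f (tSC S hE).zero) ≫ kernel.ι _).app _ _ = _
  rw [kernel.lift_ι]
  refine (tMap_tmul S.f E _ a _).trans ?_
  rw [ha]
  exact hm'

theorem support_tensorMod (M : X.Modules) {E : X.Modules} (hE : PicF.IsInvertible E) :
    CohB1.support (CohB1.tensorMod M E) = CohB1.support M := by
  ext x
  change ¬ Subsingleton _ ↔ ¬ Subsingleton _
  rw [not_iff_not]
  obtain ⟨V, hxV, ℓ, hℓ⟩ := exists_isBasis hE x
  constructor
  · intro h
    refine subsingleton_of_forall_eq 0 fun y => ?_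
    obtain ⟨U, hxU, m, rfl⟩ := M.presheaf.exists_germ_eq y
    have h0 : (CohB1.tensorMod M E).presheaf.germ (U ⊓ V) x ⟨hxU, hxV⟩
        (SecTwist.tmul M E (U ⊓ V) (res M inf_le_left m) (res E inf_le_right ℓ)) =
        (CohB1.tensorMod M E).presheaf.germ (U ⊓ V) x ⟨hxU, hxV⟩ 0 := Subsingleton.elim _ _
    obtain ⟨W, hxW, i, i', e⟩ := (CohB1.tensorMod M E).presheaf.germ_eq x _ _ _ _ h0
    have hW : W ≤ U ⊓ V := i.le
    have e2 : SecTwist.tmul M E W (res M (hW.trans inf_le_left) m) (res E (hW.trans inf_le_right) ℓ) =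
        SecTwist.tmul M E W (0 : Γ(M, W)) (res E (hW.trans inf_le_right) ℓ) := by
      rw [ProjCoh.tmul_zero_left, ← res_res M inf_le_left hW, ← res_res E inf_le_right hW]
      refine (res_tmul M E hW _ _).symm.trans (e.trans ?_)
      exact map_zero _
    have e3 := (tmul_bij M hℓ (hW.trans inf_le_right)).1 e2
    rw [← TopCat.Presheaf.germ_res_apply M.presheaf (homOfLE (hW.trans inf_le_left)) x hxW m]
    exact (congrArg _ e3).trans (map_zero _)
  · intro h
    refine subsingleton_of_forall_eq 0 fun y => ?_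
    obtain ⟨U, hxU, t, rfl⟩ := (CohB1.tensorMod M E).presheaf.exists_germ_eq y
    obtain ⟨m, hm⟩ := (tmul_bij M hℓ (inf_le_right : U ⊓ V ≤ V)).2
      (res (CohB1.tensorMod M E) inf_le_left t)
    dsimp only at hm
    have h0 : M.presheaf.germ (U ⊓ V) x ⟨hxU, hxV⟩ m = M.presheaf.germ (U ⊓ V) x ⟨hxU, hxV⟩ 0 :=
      Subsingleton.elim _ _
    obtain ⟨W, hxW, i, i', e⟩ := M.presheaf.germ_eq x _ _ _ _ h0
    have hW : W ≤ U ⊓ V := i.le
    have e' : res M hW m = 0 := e.trans (map_zero _)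
    have e2 : res (CohB1.tensorMod M E) (hW.trans inf_le_left) t = 0 := by
      rw [← res_res _ inf_le_left hW, ← hm, res_tmul, e']
      exact ProjCoh.tmul_zero_left M E W _
    rw [← TopCat.Presheaf.germ_res_apply (CohB1.tensorMod M E).presheaf (homOfLE (hW.trans inf_le_left)) x hxW t]
    exact (congrArg _ e2).trans (map_zero _)

theorem isCoh_tensorMod {M E : X.Modules} (hM : Coh.IsCoh M) (hE : PicF.IsInvertible E) :
    Coh.IsCoh (CohB1.tensorMod M E) := by
  have := hM.1
  have := InvBasic.isQuasicoherent_of_isInvertible hE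
  exact ⟨TensorQCoh.isQuasicoherent_tensorMod M E,
    TensorQCoh.isFiniteType_tensorMod M E hM.2 (isCoh_of_isInvertible hE).2⟩

/-! ### Isomorphisms from local identifications -/

/-- A local identification of `M` with `F` on each `V i`. -/
structure Loc (F M : X.Modules) {κ : Type u} (V : κ → X.Opens) where
  /-- the maps -/
  β : ∀ (i : κ) {W : X.Opens}, W ≤ V i → Γ(F, W) → Γ(M, W)
  bij : ∀ i {W : X.Opens} (h : W ≤ V i), Function.Bijective (β i h)
  add : ∀ i {W : X.Opens} (h : W ≤ V i) (m m' : Γ(F, W)), β i h (m + m') = β i h m + β i h m'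
  smul : ∀ i {W : X.Opens} (h : W ≤ V i) (r : Γ(X, W)) (m : Γ(F, W)), β i h (r • m) = r • β i h m
  nat : ∀ i {W W' : X.Opens} (h : W ≤ V i) (h' : W' ≤ W) (m : Γ(F, W)),
    res M h' (β i h m) = β i (h'.trans h) (res F h' m)

section LocIso

variable {F M N : X.Modules} {κ : Type u} {V : κ → X.Opens} (hV : ∀ x, ∃ i, x ∈ V i)
  (T : Loc F M V) (T' : Loc F N V)

/-- The two identifications have the same transitions. -/
def Loc.Same : Prop := ∀ i j (W : X.Opens) (hi : W ≤ V i) (hj : W ≤ V j) (m m' : Γ(F, W)),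
  T.β i hi m = T.β j hj m' → T'.β i hi m = T'.β j hj m'

/-- `t` corresponds to `q`. -/
def Loc.Rel (U : X.Opens) (q : Γ(M, U)) (t : Γ(N, U)) : Prop :=
  ∀ i (W : X.Opens) (hU : W ≤ U) (hi : W ≤ V i) (m : Γ(F, W)),
    res M hU q = T.β i hi m → res N hU t = T'.β i hi m

variable (h : T.Same T')

include hV h in
theorem Loc.existsUnique_rel (U : X.Opens) (q : Γ(M, U)) : ∃! t, T.Rel T' U q t := by
  choose m hm using fun i => (T.bij i (inf_le_right : U ⊓ V i ≤ V i)).2 (res M inf_le_left q)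
  have hcov : U ≤ ⨆ i, U ⊓ V i := fun x hx => by
    obtain ⟨i, hi⟩ := hV x
    exact Opens.mem_iSup.mpr ⟨i, hx, hi⟩
  obtain ⟨t, ht, huniq⟩ := TopCat.Sheaf.existsUnique_gluing' ⟨N.presheaf, N.isSheaf⟩ (fun i => U ⊓ V i) U
    (fun i => homOfLE inf_le_left) hcov (fun i => T'.β i inf_le_right (m i)) fun i j => by
      change res N (inf_le_left : U ⊓ V i ⊓ (U ⊓ V j) ≤ U ⊓ V i) _ =
        res N (inf_le_right : U ⊓ V i ⊓ (U ⊓ V j) ≤ U ⊓ V j) _
      rw [T'.nat i (inf_le_right : U ⊓ V i ≤ V i), T'.nat j (inf_le_right : U ⊓ V j ≤ V j)]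
      refine h i j _ _ _ _ _ ?_
      rw [← T.nat i (inf_le_right : U ⊓ V i ≤ V i), ← T.nat j (inf_le_right : U ⊓ V j ≤ V j), hm, hm,
        res_res, res_res]
  refine ⟨t, fun i W hU hi n hn => ?_, fun t' ht' => huniq t' fun i => ht' i _ inf_le_left inf_le_right _ (hm i).symm⟩
  have e : res N (inf_le_left : U ⊓ V i ≤ U) t = T'.β i inf_le_right (m i) := ht i
  have e1 := congrArg (res N (le_inf hU hi)) e
  rw [res_res, T'.nat] at e1
  rw [e1]
  refine congrArg _ ((T.bij i hi).1 ?_)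
  rw [← T.nat i (inf_le_right : U ⊓ V i ≤ V i) (le_inf hU hi) (m i), hm, res_res]
  exact hn

include hV h in
theorem Loc.existsUnique_hom : ∃ φ : M ⟶ N, ∀ (U : X.Opens) (q : Γ(M, U)), T.Rel T' U q (φ.app U q) := by
  let f : ∀ U : X.Opens, Γ(M, U) → Γ(N, U) := fun U q => (T.existsUnique_rel hV T' h U q).choose
  have hf : ∀ U q, T.Rel T' U q (f U q) := fun U q => (T.existsUnique_rel hV T' h U q).choose_spec.1
  have hu : ∀ U q t, T.Rel T' U q t → f U q = t := fun U q t ht =>
    ((T.existsUnique_rel hV T' h U q).choose_spec.2 t ht).symm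
  refine ⟨⟨PresheafOfModules.homMk
    { app := fun U => AddCommGrpCat.ofHom (AddMonoidHom.mk' (f U.unop) fun q q' => hu _ _ _
        fun i W hU hi n hn => ?_)
      naturality := fun {U U'} g => ?_ }
    fun U r q => hu _ _ _ fun i W hU hi n hn => ?_⟩, fun U q => hf U q⟩
  · obtain ⟨n₁, h₁⟩ := (T.bij i hi).2 (res M hU q)
    have h₂ : res M hU q' = T.β i hi (n - n₁) := by
      have e : T.β i hi n₁ + T.β i hi (n - n₁) = T.β i hi n := by rw [← T.add, add_sub_cancel]
      rw [← hn, h₁, show res M hU (q + q') = res M hU q + res M hU q' from map_add _ _ _] at e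
      exact (add_left_cancel e).symm
    show res N hU (_ + _) = _
    rw [show ∀ x y : Γ(N, U.unop), res N hU (x + y) = res N hU x + res N hU y from fun x y => map_add _ x y,
      hf _ q i W hU hi n₁ h₁.symm, hf _ q' i W hU hi _ h₂, ← T'.add, add_sub_cancel]
  · ext q
    refine hu _ _ _ fun i W hU hi n hn => ?_
    have hn' : res M (hU.trans (leOfHom g.unop)) q = T.β i hi n := by
      rw [← hn]; exact (res_res M (leOfHom g.unop) hU q).symm
    rw [← hf U.unop q i W (hU.trans (leOfHom g.unop)) hi n hn']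
    exact res_res N (leOfHom g.unop) hU _
  · obtain ⟨n₁, h₁⟩ := (T.bij i hi).2 (res M hU q)
    have hn' : res M hU ((show Γ(X, U.unop) from r) • (show Γ(M, U.unop) from q)) = T.β i hi n := hn
    rw [res_smul, ← h₁, ← T.smul] at hn'
    show res N hU ((show Γ(X, U.unop) from r) • f U.unop q) = _
    rw [res_smul, hf _ q i W hU hi n₁ h₁.symm, ← T'.smul, (T.bij i hi).1 hn']

include hV h in
theorem Loc.nonempty_iso : Nonempty (M ≅ N) := by
  obtain ⟨φ, hφ⟩ := T.existsUnique_hom hV T' h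
  have hloc : ∀ i (W : X.Opens) (hi : W ≤ V i) (m : Γ(F, W)), φ.app W (T.β i hi m) = T'.β i hi m := by
    intro i W hi m
    have e := hφ W (T.β i hi m) i W le_rfl hi m (QCohLib.map_self M le_rfl _)
    exact (QCohLib.map_self N le_rfl _).symm.trans e
  have hbij : ∀ i (W : X.Opens), W ≤ V i → Function.Bijective (φ.app W) := fun i W hi => by
    refine (Function.Bijective.of_comp_iff _ (T.bij i hi)).mp ?_
    rw [show φ.app W ∘ T.β i hi = T'.β i hi from funext fun m => hloc i W hi m]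
    exact T'.bij i hi
  have : Mono φ := by
    rw [QCohLib.mono_iff_app_injective]
    refine fun W => (injective_iff_map_eq_zero (φ.app W).hom).mpr fun s hs => ?_
    refine eq_zero_of_cover M hV s fun i => ?_
    apply (hbij i (W ⊓ V i) inf_le_right).1
    rw [map_zero]
    exact (QCohLib.app_map φ (inf_le_left : W ⊓ V i ≤ W) s).trans ((congrArg _ hs).trans (map_zero _))
  have : Epi φ := by
    rw [QCohLib.epi_iff_locally_surjective]
    intro U t x hx
    obtain ⟨i, hi⟩ := hV x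
    exact ⟨U ⊓ V i, inf_le_left, (hbij i _ inf_le_right).2 _, hx, hi⟩
  have := isIso_of_mono_of_epi φ
  exact ⟨asIso φ⟩

end LocIso

theorem tmul_add_right (M E : X.Modules) (V : X.Opens) (m m' : Γ(M, V)) (e : Γ(E, V)) :
    SecTwist.tmul M E V (m + m') e =
      (SecTwist.tmul M E V m e + SecTwist.tmul M E V m' e : Γ(CohB1.tensorMod M E, V)) :=
  ProjCoh.tmul_add_left M E V m m' e

/-- The identification `m ↦ m ⊗ ℓ`. -/
noncomputable def Loc.ofBasis (M : X.Modules) {E : X.Modules} {κ : Type u} {V : κ → X.Opens}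
    (ℓ : ∀ i, Γ(E, V i)) (hℓ : ∀ i, IsBasis E (ℓ i)) : Loc M (CohB1.tensorMod M E) V where
  β := fun i {W} h m => SecTwist.tmul M E W m (res E h (ℓ i))
  bij := fun i {_} h => tmul_bij M (hℓ i) h
  add := fun i {W} h m m' => ProjCoh.tmul_add_left M E W m m' _
  smul := fun i {W} h r m => ProjCoh.tmul_smul_left M E W r m _
  nat := fun i {W W'} h h' m => by rw [res_tmul, res_res]

/-- Compose with another identification. -/
noncomputable def Loc.tensor {F M : X.Modules} {κ : Type u} {V : κ → X.Opens} (T : Loc F M V)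
    {E : X.Modules} (ℓ : ∀ i, Γ(E, V i)) (hℓ : ∀ i, IsBasis E (ℓ i)) :
    Loc F (CohB1.tensorMod M E) V where
  β := fun i {W} h m => SecTwist.tmul M E W (T.β i h m) (res E h (ℓ i))
  bij := fun i {_} h => (tmul_bij M (hℓ i) h).comp (T.bij i h)
  add := fun i {W} h m m' => by rw [T.add]; exact ProjCoh.tmul_add_left M E W _ _ _
  smul := fun i {W} h r m => by rw [T.smul]; exact ProjCoh.tmul_smul_left M E W r _ _
  nat := fun i {W W'} h h' m => by rw [res_tmul, res_res, T.nat]

/-- `F ⊗ (A ⊗ B) ≅ (F ⊗ A) ⊗ B` for invertible `A`, `B`. -/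
theorem nonempty_assoc (F : X.Modules) {A B : X.Modules} (hA : PicF.IsInvertible A)
    (hB : PicF.IsInvertible B) :
    Nonempty (CohB1.tensorMod F (CohB1.tensorMod A B) ≅ CohB1.tensorMod (CohB1.tensorMod F A) B) := by
  choose V hxV a ha b hb using fun x : X => show ∃ (V : X.Opens) (_ : x ∈ V) (a : Γ(A, V)) (_ : IsBasis A a)
      (b : Γ(B, V)), IsBasis B b by
    obtain ⟨U, hx, a, ha⟩ := exists_isBasis hA x
    obtain ⟨U', hx', b, hb⟩ := exists_isBasis hB x
    exact ⟨U ⊓ U', ⟨hx, hx'⟩, _, isBasis_res ha inf_le_left, _, isBasis_res hb inf_le_right⟩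
  let T := Loc.ofBasis F (E := CohB1.tensorMod A B) (fun x => SecTwist.tmul A B (V x) (a x) (b x))
    fun x => isBasis_tmul (ha x) (hb x)
  let T' := (Loc.ofBasis F a ha).tensor b hb
  refine T.nonempty_iso (fun x => ⟨x, hxV x⟩) T' fun i j W hi hj m m' e => ?_
  obtain ⟨ua, hua⟩ := exists_coef (isBasis_res (ha i) hi) (res A hj (a j))
  obtain ⟨ub, hub⟩ := exists_coef (isBasis_res (hb i) hi) (res B hj (b j))
  have hm : m = (ub * ua) • m' := by
    apply (T.bij i hi).1
    rw [e, T.smul]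
    change SecTwist.tmul _ _ _ m' (res _ hj _) =
      (ub * ua) • SecTwist.tmul F (CohB1.tensorMod A B) W m' (res (CohB1.tensorMod A B) hi _)
    rw [res_tmul, res_tmul, hua, hub]
    rw [ProjCoh.tmul_smul_right A, smul_smul, ProjCoh.tmul_smul_left A, ProjCoh.tmul_smul_right F,
      ProjCoh.tmul_smul_left F]
  rw [hm, T'.smul]
  change (ub * ua) • SecTwist.tmul _ _ _ (SecTwist.tmul _ _ _ m' (res A hi (a i))) (res B hi (b i)) =
    SecTwist.tmul _ _ _ (SecTwist.tmul _ _ _ m' (res A hj (a j))) (res B hj (b j))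
  rw [hua, hub, ProjCoh.tmul_smul_right F, ProjCoh.tmul_smul_left F,
    ProjCoh.tmul_smul_right (CohB1.tensorMod F A), smul_smul, ProjCoh.tmul_smul_left (CohB1.tensorMod F A)]

end Groth.Agent.HilbPoly
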