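import Groth.Agent.HilbPoly.Intersection

/-!
# Supports of structure modules of closed subschemes
-/

universe u

open CategoryTheory CategoryTheory.Limits AlgebraicGeometry Opposite TopologicalSpace

set_option backward.isDefEq.respectTransparency false

namespace Groth.Agent.HilbPoly

variable {X : Scheme.{u}}

theorem support_quotMod_eq (D : X.IdealSheafData) : CohB1.support (ClSub.quotMod D) = (D.support : Set X) := by
  refine (support_quotMod_subset D).antisymm fun x hx => ?_
  rw [← D.range_subschemeι] at hx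
  obtain ⟨w, rfl⟩ := hx
  intro hs
  let P := ClSub.quotMod D
  obtain ⟨V, hV, i₁, i₂, e⟩ := P.presheaf.germ_eq (U := (⊤ : X.Opens)) (V := (⊤ : X.Opens)) (D.subschemeι w)
    trivial trivial (show Γ(D.subscheme, D.subschemeι ⁻¹ᵁ ⊤) from 1) 0 (hs.elim _ _)
  rw [map_zero] at e
  have h2 : (1 : Γ(D.subscheme, D.subschemeι ⁻¹ᵁ V)) = 0 :=
    (map_one (D.subscheme.presheaf.map (homOfLE (D.subschemeι.preimage_mono i₁.le)).op).hom).symm.trans e
  have h3 := congrArg (D.subscheme.presheaf.germ (D.subschemeι ⁻¹ᵁ V) w hV) h2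
  rw [map_one, map_zero] at h3
  exact one_ne_zero h3

end Groth.Agent.HilbPoly
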