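import Groth.Agent.HilbPoly.DimVanish
import Groth.Agent.HilbPoly.InterDim

/-!
# `FGA.multiTwist`, `FGA.intNum` in terms of iterated twists
-/

universe u

open CategoryTheory CategoryTheory.Limits AlgebraicGeometry Opposite TopologicalSpace

set_option backward.isDefEq.respectTransparency false

namespace Groth.Agent.HilbPoly

open InvBasic ProjUniv Groth.Agent.InvPow Groth.Agent.QCohLib

variable {X : Scheme.{u}}

theorem isInvertible_tensorList : ∀ {l : List X.Modules}, (∀ M ∈ l, PicF.IsInvertible M) →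
    PicF.IsInvertible (FGA.tensorList l)
  | [], _ => isInvertible_structureModule X
  | M :: l, h => isInvertible_tensorMod (h M (List.mem_cons_self ..))
      (isInvertible_tensorList fun N hN => h N (List.mem_cons_of_mem _ hN))

theorem nonempty_tensorList_concat : ∀ {l : List X.Modules} {A : X.Modules},
    (∀ M ∈ l, PicF.IsInvertible M) → PicF.IsInvertible A →
    Nonempty (FGA.tensorList (l ++ [A]) ≅ CohB1.tensorMod (FGA.tensorList l) A)
  | [], A, _, _ => by
    obtain ⟨c⟩ := ProjTwist.nonempty_tensorMod_comm A (Coh.structureModule X)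
    exact ⟨c⟩
  | M :: l, A, h, hA => by
    have hl : ∀ N ∈ l, PicF.IsInvertible N := fun N hN => h N (List.mem_cons_of_mem _ hN)
    obtain ⟨e⟩ := nonempty_tensorList_concat hl hA
    obtain ⟨a⟩ := nonempty_assoc M (isInvertible_tensorList hl) hA
    exact ⟨(ProjTwist.nonempty_tensorMod_iso (Iso.refl M) e).some ≪≫ a⟩

theorem nonempty_multiTwist : ∀ {n : ℕ} {L : Fin n → X.Modules}, (∀ i, PicF.IsInvertible (L i)) →
    ∀ m : Fin n → ℕ, Nonempty (FGA.multiTwist L m ≅ Curv2.tensorPows (Coh.structureModule X) n L m)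
  | 0, _, _, _ => ⟨Iso.refl _⟩
  | n + 1, L, hL, m => by
    obtain ⟨e⟩ := nonempty_multiTwist (fun i => hL i.castSucc) fun i => m i.castSucc
    obtain ⟨c⟩ := nonempty_tensorList_concat (X := X)
      (l := (List.finRange n).map fun i => CohB1.tensorPow (L i.castSucc) (m i.castSucc))
      (A := CohB1.tensorPow (L (Fin.last n)) (m (Fin.last n)))
      (fun M hM => by
        obtain ⟨i, -, rfl⟩ := List.mem_map.mp hM
        exact isInvertible_tensorPow (hL _) _) (isInvertible_tensorPow (hL _) _)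
    refine ⟨eqToIso ?_ ≪≫ c ≪≫ (ProjTwist.nonempty_tensorMod_iso e (Iso.refl _)).some⟩
    rw [FGA.multiTwist, List.finRange_succ_last, List.map_append, List.map_map]
    rfl

theorem euler_multiTwist (k : Type u) [Field k] [X.Over (Spec (CommRingCat.of k))] {n : ℕ}
    {L : Fin n → X.Modules} (hL : ∀ i, PicF.IsInvertible (L i)) (F : X.Modules) (m : Fin n → ℕ) :
    Curv2.euler k X (CohB1.tensorMod (FGA.multiTwist L m) F) =
      Curv2.euler k X (Curv2.tensorPows F n L m) := by
  obtain ⟨e⟩ := nonempty_multiTwist hL m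
  obtain ⟨c⟩ := ProjTwist.nonempty_tensorMod_comm (Curv2.tensorPows (Coh.structureModule X) n L m) F
  exact euler_congr ((ProjTwist.nonempty_tensorMod_iso e (Iso.refl F)).some ≪≫ c ≪≫
    (nonempty_tensorPows_iso F hL m).some.symm)

theorem nonempty_tensorPows_zero : ∀ {r : ℕ} {L : Fin r → X.Modules} {n : Fin r → ℕ}, (∀ i, n i = 0) →
    Nonempty (Curv2.tensorPows (Coh.structureModule X) r L n ≅ Coh.structureModule X)
  | 0, _, _, _ => ⟨Iso.refl _⟩
  | r + 1, L, n, hn => by
    obtain ⟨e⟩ := nonempty_tensorPows_zero (L := fun i : Fin r => L i.castSucc)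
      (n := fun i => n i.castSucc) fun i => hn _
    exact ⟨eqToIso (by
      show CohB1.tensorMod _ (CohB1.tensorPow _ (n (Fin.last r))) = _
      rw [hn]
      rfl) ≪≫ SecTwist.unitorR _ ≪≫ e⟩

theorem nonempty_tensorList_map {r : ℕ} {M : Fin r → X.Modules} (hM : ∀ i, PicF.IsInvertible (M i)) :
    ∀ {l : List (Fin r)}, l.Nodup →
      Nonempty (FGA.tensorList (l.map M) ≅ Curv2.tensorPows (Coh.structureModule X) r M (ind l.toFinset))
  | [], _ => ⟨(nonempty_tensorPows_zero fun i => by simp [ind]).some.symm⟩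
  | a :: l, h => by
    obtain ⟨ha, hl⟩ := List.nodup_cons.mp h
    obtain ⟨e⟩ := nonempty_tensorList_map hM hl
    obtain ⟨c⟩ := ProjTwist.nonempty_tensorMod_comm (M a)
      (Curv2.tensorPows (Coh.structureModule X) r M (ind l.toFinset))
    obtain ⟨s⟩ := nonempty_tensorPows_step hM (ind l.toFinset) a
    refine ⟨(ProjTwist.nonempty_tensorMod_iso (Iso.refl (M a)) e).some ≪≫ c ≪≫ s.symm ≪≫ eqToIso ?_⟩
    congr 1
    funext j
    by_cases hj : j = a
    · subst hj
      simp [ind, ha]
    · simp [ind, hj]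

variable (k : Type u) [Field k] [X.Over (Spec (CommRingCat.of k))] [IsProper (X ↘ Spec (CommRingCat.of k))]

include k in
theorem isCoh_tensorPows {r : ℕ} {L : Fin r → X.Modules} (hL : ∀ i, PicF.IsInvertible (L i))
    {F : X.Modules} (hF : Coh.IsCoh F) (n : Fin r → ℕ) : Coh.IsCoh (Curv2.tensorPows F r L n) := by
  have : IsLocallyNoetherian X := LocallyOfFiniteType.isLocallyNoetherian (X ↘ Spec (CommRingCat.of k))
  exact QCohLib.isCoh_of_iso (nonempty_tensorPows_iso F hL n).some.symm
    (isCoh_tensorMod hF (isInvertible_tensorPows hL n))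

/-- Intersection numbers as alternating sums. -/
theorem intNum_eq_altSum {d r : ℕ} (hd : topologicalKrullDim X ≤ d) {M : Fin r → X.Modules}
    (hM : ∀ i, PicF.IsInvertible (M i)) {F : X.Modules} (hF : Coh.IsCoh F) :
    ((FGA.intNum k X d M F : ℤ) : ℚ) =
      (-1 : ℚ) ^ r * altSum fun n => (Curv2.euler k X (Curv2.tensorPows F r M n) : ℚ) := by
  classical
  unfold FGA.intNum altSum
  push_cast
  rw [Finset.mul_sum, ← Finset.powerset_univ]
  refine Finset.sum_congr rfl fun I _ => ?_
  obtain ⟨e⟩ := nonempty_tensorList_map hM (Finset.sort_nodup I (· ≤ ·))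
  obtain ⟨c⟩ := ProjTwist.nonempty_tensorMod_comm (Curv2.tensorPows (Coh.structureModule X) r M (ind I)) F
  have e' : CohB1.tensorMod (FGA.tensorList ((I.sort (· ≤ ·)).map M)) F ≅ Curv2.tensorPows F r M (ind I) :=
    (ProjTwist.nonempty_tensorMod_iso (e ≪≫ eqToIso (by rw [Finset.sort_toFinset])) (Iso.refl F)).some ≪≫ c ≪≫
      (nonempty_tensorPows_iso F hM (ind I)).some.symm
  have : IsLocallyNoetherian X := LocallyOfFiniteType.isLocallyNoetherian (X ↘ Spec (CommRingCat.of k))
  rw [eulerCharLE_eq_euler k (QCohLib.isCoh_of_iso e'.symm (isCoh_tensorPows k hM hF _))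
    ((topologicalKrullDim_subspace_le X _).trans hd), euler_congr e', ← mul_assoc, ← pow_add,
    Finset.card_sdiff_of_subset (Finset.subset_univ I), Finset.card_univ, Fintype.card_fin]
  congr 1
  have := Finset.card_le_univ I
  rw [Fintype.card_fin] at this
  rw [show r + (r - I.card) = I.card + 2 * (r - I.card) by omega, pow_add, pow_mul]
  simp

/-- Intersection numbers of coherent modules as sums over the top components. -/
theorem intNum_eq_sum_components {d r : ℕ} (hd : topologicalKrullDim X ≤ d) {M : Fin r → X.Modules}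
    (hM : ∀ i, PicF.IsInvertible (M i)) {F : X.Modules} (hF : Coh.IsCoh F)
    (hsupp : topologicalKrullDim ↥(CohB1.support F) ≤ r)
    {s : Finset X} (hs : ∀ ξ : X, ξ ∈ s ↔ ξ ∈ CohB1.support F ∧ topologicalKrullDim ↥(closure ({ξ} : Set X)) = r) :
    FGA.intNum k X d M F = ∑ ξ ∈ s, ((stkLen F ξ).toNat : ℤ) *
      FGA.intNum k X d M (ClSub.quotMod (Scheme.IdealSheafData.vanishingIdeal
        (⟨closure ({ξ} : Set X), isClosed_closure⟩ : Closeds X))) := by
  classical
  have : IsLocallyNoetherian X := LocallyOfFiniteType.isLocallyNoetherian (X ↘ Spec (CommRingCat.of k))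
  apply Int.cast_injective (α := ℚ)
  push_cast
  rw [intNum_eq_altSum k hd hM hF,
    Finset.sum_congr rfl fun ξ (_ : ξ ∈ s) => by rw [intNum_eq_altSum k hd hM (isCoh_quotMod _)]]
  rcases hsupp.lt_or_eq with hlt | heq
  · obtain ⟨P, hP, hPe⟩ := exists_poly_tensorPows k hM hF hlt
    rw [show (fun n => (Curv2.euler k X (Curv2.tensorPows F r M n) : ℚ)) = evN P from funext hPe,
      altSum_eq_coeff (mem_degLT.mpr fun m hm => Nat.lt_succ_of_lt (mem_degLT.mp hP m hm)),
      coeff_diag_eq_zero hP, mul_zero, eq_comm]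
    refine Finset.sum_eq_zero fun ξ hξ => absurd hlt (not_lt.mpr ?_)
    rw [← ((hs ξ).mp hξ).2]
    exact dim_mono ((QCohLib.isClosed_support hF.2).closure_subset_iff.mpr
      (Set.singleton_subset_iff.mpr ((hs ξ).mp hξ).1))
  · obtain ⟨R, hR, hRe⟩ := exists_poly_sub_components k hM hF heq
    have hsum : ∀ n, ∑ᶠ ξ : X, (if topologicalKrullDim (closure ({ξ} : Set X)) = (r : WithBot ℕ∞) then
        ((stkLen F ξ).toNat : ℚ) * chiClosure k M ξ n else 0) =
        ∑ ξ ∈ s, ((stkLen F ξ).toNat : ℚ) * chiClosure k M ξ n := fun n => by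
      rw [finsum_eq_sum_of_support_subset _ (s := s) ?_]
      · exact Finset.sum_congr rfl fun ξ hξ => if_pos ((hs ξ).mp hξ).2
      · intro ξ hξ
        simp only [Function.mem_support] at hξ
        obtain ⟨hdim, hne⟩ := ite_ne_right_iff.mp hξ
        refine Finset.mem_coe.mpr ((hs ξ).mpr ⟨?_, hdim⟩)
        by_contra hns
        rw [stkLen_eq_zero hns] at hne
        simp at hne
    have hF' : (fun n => (Curv2.euler k X (Curv2.tensorPows F r M n) : ℚ)) =
        fun n => (∑ ξ ∈ s, ((stkLen F ξ).toNat : ℚ) * chiClosure k M ξ n) + evN R n := funext fun n => by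
      rw [← hRe n, hsum]; ring
    have hR0 : altSum (evN R) = 0 := by
      rw [altSum_eq_coeff (mem_degLT.mpr fun m hm => Nat.lt_succ_of_lt (mem_degLT.mp hR m hm)),
        coeff_diag_eq_zero hR]
    rw [hF']
    simp only [altSum, mul_add, Finset.sum_add_distrib] at hR0 ⊢
    rw [hR0, mul_zero, add_zero, Finset.mul_sum]
    simp only [Finset.mul_sum]
    rw [Finset.sum_comm]
    refine Finset.sum_congr rfl fun ξ _ => Finset.sum_congr rfl fun t _ => ?_
    rw [← euler_tensorPows_closure k hM ξ]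
    ring

end Groth.Agent.HilbPoly
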