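import Groth.Agent.HilbPoly.Family
import Groth.Agent.ModGroth.PushTensor
import Groth.Agent.CohFinite.Push
import Groth.Agent.CohVanish.AffineMorphism

/-!
# Euler characteristics and twists of direct images under closed immersions

`euler_push`, `nonempty_push_tensor`, `nonempty_push_tensorPows`.
-/

universe u

open CategoryTheory CategoryTheory.Limits AlgebraicGeometry Opposite TopologicalSpace
open scoped Groth.Agent.CohVanish

set_option backward.isDefEq.respectTransparency false

namespace Groth.Agent.HilbPoly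

open InvBasic ProjUniv Groth.Agent.InvPow Groth.Agent.CohFinite Groth.Agent.CechCmp Groth.Agent.CohVanish

variable {X W : Scheme.{u}} (j : W ⟶ X) [IsClosedImmersion j]

/-- The projection formula for a closed immersion. -/
theorem nonempty_push_tensor (N : W.Modules) (A : X.Modules) :
    Nonempty (CohB1.tensorMod ((Scheme.Modules.pushforward j).obj N) A ≅
      (Scheme.Modules.pushforward j).obj (CohB1.tensorMod N ((Scheme.Modules.pullback j).obj A))) :=
  ⟨@asIso _ _ _ _ (ModGroth.PushStalk.beta j N A) (ModGroth.PushStalk.isIso_beta j N A)⟩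

theorem nonempty_push_tensorPow (N : W.Modules) {L : X.Modules} (hL : PicF.IsInvertible L) :
    ∀ m : ℕ, Nonempty (CohB1.tensorMod ((Scheme.Modules.pushforward j).obj N) (CohB1.tensorPow L m) ≅
      (Scheme.Modules.pushforward j).obj
        (CohB1.tensorMod N (CohB1.tensorPow ((Scheme.Modules.pullback j).obj L) m)))
  | 0 => ⟨SecTwist.unitorR _ ≪≫ (Scheme.Modules.pushforward j).mapIso (SecTwist.unitorR N).symm⟩
  | m + 1 => by
    have hL' := isInvertible_pullback j hL
    obtain ⟨e⟩ := nonempty_push_tensorPow N hL m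
    obtain ⟨a⟩ := nonempty_assoc ((Scheme.Modules.pushforward j).obj N) (isInvertible_tensorPow hL m) hL
    obtain ⟨p⟩ := nonempty_push_tensor j
      (CohB1.tensorMod N (CohB1.tensorPow ((Scheme.Modules.pullback j).obj L) m)) L
    obtain ⟨a'⟩ := nonempty_assoc N (isInvertible_tensorPow hL' m) hL'
    exact ⟨a ≪≫ (ProjTwist.nonempty_tensorMod_iso e (Iso.refl L)).some ≪≫ p ≪≫
      (Scheme.Modules.pushforward j).mapIso a'.symm⟩

/-- The projection formula for iterated twists. -/
theorem nonempty_push_tensorPows (N : W.Modules) : ∀ {r : ℕ} {L : Fin r → X.Modules},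
    (∀ i, PicF.IsInvertible (L i)) → ∀ n : Fin r → ℕ,
    Nonempty (Curv2.tensorPows ((Scheme.Modules.pushforward j).obj N) r L n ≅
      (Scheme.Modules.pushforward j).obj
        (Curv2.tensorPows N r (fun i => (Scheme.Modules.pullback j).obj (L i)) n))
  | 0, _, _, _ => ⟨Iso.refl _⟩
  | r + 1, L, hL, n => by
    obtain ⟨e⟩ := nonempty_push_tensorPows N (fun i => hL i.castSucc) fun i => n i.castSucc
    obtain ⟨p⟩ := nonempty_push_tensorPow j (Curv2.tensorPows N r
      (fun i => (Scheme.Modules.pullback j).obj (L i.castSucc)) fun i => n i.castSucc)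
      (hL (Fin.last r)) (n (Fin.last r))
    exact ⟨(ProjTwist.nonempty_tensorMod_iso e (Iso.refl _)).some ≪≫ p⟩

theorem isQuasicoherent_tensorPows {N : W.Modules} [N.IsQuasicoherent] :
    ∀ {r : ℕ} {L : Fin r → W.Modules}, (∀ i, PicF.IsInvertible (L i)) → ∀ n : Fin r → ℕ,
      (Curv2.tensorPows N r L n).IsQuasicoherent
  | 0, _, _, _ => inferInstanceAs N.IsQuasicoherent
  | r + 1, L, hL, n => by
    have := isQuasicoherent_tensorPows (N := N) (fun i => hL i.castSucc) fun i => n i.castSucc
    have := (isCoh_of_isInvertible (isInvertible_tensorPow (hL (Fin.last r)) (n (Fin.last r)))).1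
    exact TensorQCoh.isQuasicoherent_tensorMod _ _

variable (k : Type u) [Field k] [X.Over (Spec (CommRingCat.of k))]
  [IsProper (X ↘ Spec (CommRingCat.of k))]

/-- The Euler characteristic of a direct image under a closed immersion. -/
theorem euler_push (N : W.Modules) [N.IsQuasicoherent] :
    Curv2.euler k X ((Scheme.Modules.pushforward j).obj N) =
      @Curv2.euler k _ W ⟨j ≫ (X ↘ Spec (CommRingCat.of k))⟩ N := by
  classical
  letI : W.Over (Spec (CommRingCat.of k)) := ⟨j ≫ (X ↘ Spec (CommRingCat.of k))⟩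
  have : CompactSpace X := QuasiCompact.compactSpace_of_compactSpace (X ↘ Spec (CommRingCat.of k))
  have hS : X.IsSeparated := ⟨by
    rw [← terminal.comp_from (X ↘ Spec (CommRingCat.of k))]
    infer_instance⟩
  have : ((Scheme.Modules.pushforward j).obj N).IsQuasicoherent := QCohLib.isQuasicoherent_pushforward j
  unfold Curv2.euler
  refine finsum_congr fun p => ?_
  congr 2
  rcases isEmpty_or_nonempty X with hX | hX
  · have : IsEmpty W := Function.isEmpty j
    have h1 : IsZero ((Scheme.Modules.pushforward j).obj N) :=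
      QCohLib.isZero_of_subsingleton_stalk fun x => isEmptyElim x
    have h2 : IsZero N := QCohLib.isZero_of_subsingleton_stalk fun x => isEmptyElim x
    have := subsingleton_HH_of_isZero h1 p
    have := subsingleton_HH_of_isZero h2 p
    rw [Module.finrank_zero_of_subsingleton, Module.finrank_zero_of_subsingleton]
  obtain ⟨C, hC⟩ := isCompact_univ.elim_finite_subcover (fun V : X.affineOpens => (V.1 : Set X))
    (fun V => V.1.2) fun x _ => by
      obtain ⟨V, hV, hxV, -⟩ := exists_isAffineOpen_mem_and_subset (X := X) (x := x) (U := ⊤) trivial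
      exact Set.mem_iUnion.mpr ⟨⟨V, hV⟩, hxV⟩
  have : Nonempty C := by
    obtain ⟨x⟩ := hX
    obtain ⟨V, hV, -⟩ := Set.mem_iUnion₂.mp (hC (Set.mem_univ x))
    exact ⟨⟨V, hV⟩⟩
  let U : C → X.Opens := fun V => V.1.1
  have hU : ∀ s : Finset C, s.Nonempty → IsAffineOpen (RSh.meetOpen U s) := fun s hs => by
    induction hs using Finset.Nonempty.cons_induction with
    | singleton a =>
      rw [RSh.meetOpen, Finset.iInf_singleton]
      exact a.1.2
    | cons a s ha hs ih =>
      rw [RSh.meetOpen, Finset.cons_eq_insert, Finset.iInf_insert]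
      exact a.1.2.inf ih
  have hcov : ⨆ V, U V = ⊤ := top_unique fun x _ => by
    obtain ⟨V, hV, hxV⟩ := Set.mem_iUnion₂.mp (hC (Set.mem_univ x))
    exact Opens.mem_iSup.mpr ⟨⟨V, hV⟩, hxV⟩
  obtain ⟨e⟩ := nonempty_push_equiv j (Coh.toGlobal (X ↘ Spec (CommRingCat.of k))) N U hcov hU
    (fun s hs q => subsingleton_EU_of_isAffineOpen N ((hU s hs).preimage j) q) p
  have hφ : pullAct j (Coh.toGlobal (X ↘ Spec (CommRingCat.of k))) =
      Coh.toGlobal (W ↘ Spec (CommRingCat.of k)) := rfl
  rw [hφ] at e
  exact ((hhEquiv _ p).trans (e.trans (hhEquiv N p).symm)).finrank_eq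

end Groth.Agent.HilbPoly
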