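import Groth.Agent.HilbPoly.Positive
import Groth.Prelude.Def_FGA

/-!
# Vanishing of quasi-coherent cohomology above the dimension of the support

`subsingleton_HH_of_dim`, `eulerCharLE_eq_euler`.
-/

universe u

open CategoryTheory CategoryTheory.Limits AlgebraicGeometry Opposite TopologicalSpace

set_option backward.isDefEq.respectTransparency false

namespace Groth.Agent.HilbPoly

open Groth.Agent.QCohLib Groth.Agent.CohVanish InvBasic ProjUniv

variable {X : Scheme.{u}}

theorem notMem_support_push_open {U : X.Opens} {M : X.Modules} {c : X}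
    (hc : c ∉ closure ((CohB1.support M) ∩ (U : Set X))) :
    c ∉ CohB1.support ((Scheme.Modules.pushforward U.ι).obj (M.restrict U.ι)) := fun h => h <| by
  refine subsingleton_of_forall_eq 0 fun z => ?_
  let P := (Scheme.Modules.pushforward U.ι).obj (M.restrict U.ι)
  obtain ⟨V, hV, s, rfl⟩ := P.presheaf.exists_germ_eq z
  let V' : X.Opens := V ⊓ ⟨(closure ((CohB1.support M) ∩ (U : Set X)))ᶜ, isClosed_closure.isOpen_compl⟩
  have hV' : c ∈ V' := ⟨hV, hc⟩
  rw [← TopCat.Presheaf.germ_res_apply P.presheaf (homOfLE (inf_le_left : V' ≤ V)) c hV' s]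
  have h0 : ∀ t : Γ(M, U.ι ''ᵁ U.ι ⁻¹ᵁ V'), t = 0 := fun t => section_ext t 0 fun y hy => by
    have hy' : y ∈ V' ∧ y ∈ U := ⟨(U.ι.image_preimage_le V') hy, by
      obtain ⟨w, -, rfl⟩ := hy; exact w.2⟩
    have : Subsingleton (M.presheaf.stalk y) :=
      not_not.mp fun hs => hy'.1.2 (subset_closure ⟨hs, hy'.2⟩)
    exact Subsingleton.elim _ _
  rw [h0 (P.presheaf.map (homOfLE (inf_le_left : V' ≤ V)).op s), map_zero]

theorem subsingleton_HH_of_closeds [IsNoetherian X] [X.IsSeparated] : ∀ (Z : Closeds X) (K : X.Modules),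
    K.IsQuasicoherent → CohB1.support K ⊆ Z → ∀ p : ℕ, topologicalKrullDim (Z : Set X) < (p : WithBot ℕ∞) →
      Subsingleton (Coh.HH X K p) := by
  intro Z
  induction Z using WellFoundedLT.induction with
  | _ Z IH =>
    intro K hK hKZ p hp
    rcases (Z : Set X).eq_empty_or_nonempty with hZ | ⟨x, hx⟩
    · exact subsingleton_HH_of_isZero (isZero_of_support_empty (Set.subset_eq_empty hKZ hZ)) p
    obtain ⟨U, hU, hxU, -⟩ := exists_isAffineOpen_mem_and_subset (X := X) (x := x) (U := ⊤) trivial
    have hp0 : 0 < p := by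
      by_contra h0
      have : Nonempty (Z : Set X) := ⟨⟨x, hx⟩⟩
      have : Nonempty (IrreducibleCloseds (Z : Set X)) :=
        ⟨⟨closure {(⟨x, hx⟩ : (Z : Set X))}, isIrreducible_singleton.closure, isClosed_closure⟩⟩
      rw [show p = 0 by omega] at hp
      exact absurd (Order.krullDim_nonneg (α := IrreducibleCloseds (Z : Set X))) (not_le.mpr hp)
    have : IsAffine U.toScheme := hU
    have : IsAffineHom U.ι := by
      refine ⟨fun V hV => ?_⟩
      rw [← Scheme.Hom.isAffineOpen_iff_of_isOpenImmersion U.ι, Scheme.Hom.image_preimage_eq_opensRange_inf,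
        Scheme.Opens.opensRange_ι]
      exact hU.inf hV
    let P := (Scheme.Modules.pushforward U.ι).obj (K.restrict U.ι)
    have : (K.restrict U.ι).IsQuasicoherent := inferInstance
    have hP : P.IsQuasicoherent := isQuasicoherent_pushforward U.ι
    let η : K ⟶ P := (Scheme.Modules.restrictAdjunction U.ι).unit.app K
    have hbij : ∀ V : X.Opens, V ≤ U → Function.Bijective (η.app V) := fun V hV => by
      have h := (le_inf le_rfl hV).trans (inf_le_ι_image_preimage U V)
      have hη : ∀ s, η.app V s = res K (ι_image_preimage_le U V) s := fun s => by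
        simp only [η]
        rw [Scheme.Modules.restrictAdjunction_unit_app_app]
        rfl
      exact Function.bijective_iff_has_inverse.mpr ⟨res K h,
        fun m => (congrArg (res K h) (hη m)).trans
          ((res_res K _ h m).trans (QCohLib.map_self K _ _)),
        fun m => (hη _).trans ((res_res K h _ m).trans (QCohLib.map_self K _ _))⟩
    let Z' : Closeds X := ⟨(Z : Set X) ∩ (U : Set X)ᶜ, Z.isClosed.inter U.isOpen.isClosed_compl⟩
    have hlt : Z' < Z := lt_of_le_of_ne (fun y hy => hy.1) fun h =>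
      (h.ge (show x ∈ Z from hx) : x ∈ Z').2 hxU
    let Z₁ : Closeds X := ⟨closure ((Z : Set X) ∩ U) ∩ (U : Set X)ᶜ,
      isClosed_closure.inter U.isOpen.isClosed_compl⟩
    have hZ₁' : Z₁ ≤ Z' := fun y hy => ⟨(Z.isClosed.closure_subset_iff.mpr Set.inter_subset_left) hy.1, hy.2⟩
    have hdim : ∀ q : ℕ, p = q + 1 → topologicalKrullDim (Z₁ : Set X) < (q : WithBot ℕ∞) ∨ (Z₁ : Set X) = ∅ := by
      rintro q rfl
      obtain ⟨S, hSf, hSc, hSi, hZS⟩ := NoetherianSpace.exists_finite_set_isClosed_irreducible Z.isClosed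
      let S' := {T ∈ S | (T ∩ (U : Set X)).Nonempty}
      have hS'f : S'.Finite := hSf.subset fun T h => h.1
      have hsub : (Z₁ : Set X) ⊆ ⋃₀ S' := by
        intro y hy
        refine (closure_minimal ?_ ?_) hy.1
        · rintro z ⟨hz, hzU⟩
          rw [hZS] at hz
          obtain ⟨T, hT, hzT⟩ := hz
          exact ⟨T, ⟨hT, ⟨z, hzT, hzU⟩⟩, hzT⟩
        · rw [Set.sUnion_eq_biUnion]
          exact hS'f.isClosed_biUnion fun T hT => hSc T hT.1
      have hcl : ∀ y ∈ (Z₁ : Set X), topologicalKrullDim (closure ({y} : Set X)) < (q : WithBot ℕ∞) := by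
        intro y hy
        obtain ⟨T, ⟨hT, z, hzT, hzU⟩, hyT⟩ := hsub hy
        have h1 := ((dim_add_one_le isClosed_closure (hSi T hT) (hSc T hT) (A := closure ({y} : Set X))
          ⟨(hSc T hT).closure_subset_iff.mpr (Set.singleton_subset_iff.mpr hyT), fun hTy =>
            (closure_minimal (Set.singleton_subset_iff.mpr hy.2) U.isOpen.isClosed_compl (hTy hzT)) hzU⟩
          ⟨y, subset_closure rfl⟩).trans
            (dim_mono (hZS ▸ Set.subset_sUnion_of_mem hT : T ⊆ (Z : Set X)))).trans_lt hp
        by_contra hc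
        rw [Nat.cast_add, Nat.cast_one] at h1
        exact absurd (add_le_add (not_lt.mp hc) le_rfl) (not_le.mpr h1)
      rcases q with _ | q
      · refine Or.inr (Set.eq_empty_iff_forall_notMem.mpr fun y hy => ?_)
        have h1 := eq_empty_of_dim_lt_zero (by simpa using hcl y hy)
        exact (h1 ▸ subset_closure rfl : y ∈ (∅ : Set X))
      · refine Or.inl ((dim_le_of_closures Z₁.isClosed (c := ((q : ℕ) : WithBot ℕ∞))
          fun y hy => le_of_lt_succ' (hcl y hy)).trans_lt ?_)
        exact_mod_cast Nat.lt_succ_self q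
    have hη₀ : ∀ y ∈ U, CohB1.support (kernel η) ⊆ (Z : Set X) → y ∉ CohB1.support (kernel η) := fun y hy _ =>
      CohFinite.notMem_support_kernel η y fun a b h => by
        obtain ⟨W, hW, a', rfl⟩ := K.presheaf.exists_germ_eq a
        obtain ⟨W', hW', b', rfl⟩ := K.presheaf.exists_germ_eq b
        rw [stalkHom_germ, stalkHom_germ] at h
        obtain ⟨V, hV, i₁, i₂, e⟩ := P.presheaf.germ_eq y hW hW' _ _ h
        rw [← TopCat.Presheaf.germ_res_apply K.presheaf (homOfLE ((inf_le_left : V ⊓ U ≤ V).trans i₁.le)) y ⟨hV, hy⟩ a',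
          ← TopCat.Presheaf.germ_res_apply K.presheaf (homOfLE ((inf_le_left : V ⊓ U ≤ V).trans i₂.le)) y ⟨hV, hy⟩ b']
        refine congrArg _ ((hbij (V ⊓ U) inf_le_right).1 ?_)
        rw [QCohLib.app_map, QCohLib.app_map]
        have e' := congrArg (res P (inf_le_left : V ⊓ U ≤ V)) e
        rw [show (P.presheaf.map i₁.op) (η.app W a') = res P i₁.le (η.app W a') from rfl,
          show (P.presheaf.map i₂.op) (η.app W' b') = res P i₂.le (η.app W' b') from rfl,
          res_res, res_res] at e'
        exact e'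
    have hker : CohB1.support (kernel η) ⊆ (Z' : Set X) := fun y hy => by
      have hyZ : y ∈ (Z : Set X) := hKZ (CohFinite.support_subset_of_mono (kernel.ι η) hy)
      exact ⟨hyZ, fun hyU => hη₀ y hyU ((CohFinite.support_subset_of_mono (kernel.ι η)).trans hKZ) hy⟩
    have hcok : CohB1.support (cokernel η) ⊆ (Z₁ : Set X) := fun y hy => by
      have hyP := CohFinite.support_subset_of_epi (cokernel.π η) hy
      refine ⟨closure_mono (Set.inter_subset_inter_left _ hKZ) (not_not.mp fun hc =>
        notMem_support_push_open hc hyP), fun hyU => CohFinite.notMem_support_cokernel η y (fun z => ?_) hy⟩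
      obtain ⟨V, hV, s, rfl⟩ := P.presheaf.exists_germ_eq z
      obtain ⟨t, ht⟩ := (hbij (V ⊓ U) inf_le_right).2 (P.presheaf.map (homOfLE (inf_le_left : V ⊓ U ≤ V)).op s)
      refine ⟨K.presheaf.germ (V ⊓ U) y ⟨hV, hyU⟩ t, ?_⟩
      rw [stalkHom_germ, ht, TopCat.Presheaf.germ_res_apply]
    let I := Abelian.image η
    have hqk := isQuasicoherent_kernel η
    have hqc := isQuasicoherent_cokernel η
    have hI : Subsingleton (Coh.HH X I p) := by
      let T := ShortComplex.mk (Abelian.image.ι η) (cokernel.π η) (kernel.condition _)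
      have hT : T.ShortExact :=
        { exact := ShortComplex.exact_of_f_is_kernel _ (kernelIsKernel _)
          mono_f := inferInstanceAs (Mono (kernel.ι (cokernel.π η)))
          epi_g := inferInstanceAs (Epi (cokernel.π η)) }
      obtain ⟨q, rfl⟩ : ∃ q, p = q + 1 := ⟨p - 1, by omega⟩
      have hPp : Subsingleton (Coh.HH X P (q + 1)) := by
        obtain ⟨e⟩ := nonempty_HH_push_equiv U.ι (K.restrict U.ι) (q + 1)
        have := subsingleton_HH_of_isAffine U.toScheme (K.restrict U.ι) (q + 1) (by omega)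
        exact e.symm.injective.subsingleton
      have hC : Subsingleton (Coh.HH X (cokernel η) q) := by
        rcases hdim q rfl with hdim | hemp
        · exact IH Z₁ (lt_of_le_of_lt hZ₁' hlt) (cokernel η) hqc hcok q hdim
        · exact subsingleton_HH_of_isZero (isZero_of_support_empty (Set.subset_eq_empty hcok hemp)) q
      exact subsingleton_HH_of_left hT q hC hPp
    have hK' : Subsingleton (Coh.HH X (kernel η) p) :=
      IH Z' hlt (kernel η) hqk hker p ((dim_mono fun y hy => hy.1).trans_lt hp)
    let T₀ := ShortComplex.mk (kernel.ι η) (Abelian.factorThruImage η) (by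
      rw [← cancel_mono (Abelian.image.ι η), Category.assoc, Abelian.image.fac, kernel.condition, zero_comp])
    have hT₀ : T₀.ShortExact := by
      refine { exact := ShortComplex.exact_of_f_is_kernel _ (KernelFork.IsLimit.ofι' _ _ fun g hg => ?_) }
      refine ⟨kernel.lift η g ?_, kernel.lift_ι _ _ _⟩
      rw [← Abelian.image.fac η, ← Category.assoc, hg, zero_comp]
    exact subsingleton_HH_of_shortExact₂ hT₀ p hK' hI
where
  le_of_lt_succ' {a : WithBot ℕ∞} {n : ℕ} (h : a < ((n + 1 : ℕ) : WithBot ℕ∞)) : a ≤ (n : WithBot ℕ∞) := by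
    induction a with
    | bot => exact bot_le
    | coe a =>
      induction a with
      | top => exact absurd h (by simp)
      | coe m => exact_mod_cast Nat.lt_succ_iff.mp (by exact_mod_cast h)
  subsingleton_HH_of_left {S : ShortComplex X.Modules} (hS : S.ShortExact) (n : ℕ)
      (h₃ : Subsingleton (Coh.HH X S.X₃ n)) (h₂ : Subsingleton (Coh.HH X S.X₂ (n + 1))) :
      Subsingleton (Coh.HH X S.X₁ (n + 1)) := by
    have hS' := shortExact_toAb hS
    have : Subsingleton (EU (S.map (toAbF X)).X₂ ⊤ (n + 1)) :=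
      (hEquiv (X := sp X) (Coh.toAb S.X₂) (n + 1)).symm.injective.subsingleton
    have : Subsingleton (EU (S.map (toAbF X)).X₃ ⊤ n) :=
      (hEquiv (X := sp X) (Coh.toAb S.X₃) n).symm.injective.subsingleton
    have h : Subsingleton (EU (X := sp X) (Coh.toAb S.X₁) ⊤ (n + 1)) := subsingleton_of_forall_eq 0 fun x => by
      obtain ⟨y, rfl⟩ := (eMap_f_eq_zero_iff hS' ⊤ n x).mp (Subsingleton.elim _ _)
      rw [Subsingleton.elim y 0]
      exact map_zero _
    exact (hEquiv (X := sp X) (Coh.toAb S.X₁) (n + 1)).injective.subsingleton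

variable (k : Type u) [Field k] [X.Over (Spec (CommRingCat.of k))] [IsProper (X ↘ Spec (CommRingCat.of k))]

include k in
/-- Cohomology of a quasi-coherent module vanishes above the dimension of its support. -/
theorem subsingleton_HH_of_dim {K : X.Modules} (hK : Coh.IsCoh K) {d : ℕ}
    (hd : topologicalKrullDim (CohB1.support K) ≤ (d : WithBot ℕ∞)) {p : ℕ} (hp : d < p) :
    Subsingleton (Coh.HH X K p) := by
  have : CompactSpace X := QuasiCompact.compactSpace_of_compactSpace (X ↘ Spec (CommRingCat.of k))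
  have : IsLocallyNoetherian X := LocallyOfFiniteType.isLocallyNoetherian (X ↘ Spec (CommRingCat.of k))
  have : IsNoetherian X := ⟨⟩
  have : X.IsSeparated := ⟨by
    rw [← terminal.comp_from (X ↘ Spec (CommRingCat.of k))]
    infer_instance⟩
  exact subsingleton_HH_of_closeds ⟨_, isClosed_support hK.2⟩ K hK.1 subset_rfl p
    (hd.trans_lt (by exact_mod_cast hp))

theorem eulerCharLE_eq_euler {K : X.Modules} (hK : Coh.IsCoh K) {d : ℕ}
    (hd : topologicalKrullDim (CohB1.support K) ≤ (d : WithBot ℕ∞)) :
    FGA.eulerCharLE k X K d = Curv2.euler k X K := by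
  rw [euler_eq_sum (N := d + 1) fun n hn => subsingleton_HH_of_dim k hK hd (by omega)]
  rfl

end Groth.Agent.HilbPoly
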