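import Groth.Agent.HilbPoly.InterDim
import Groth.Prelude.Def_FGA

/-!
# Intersection numbers and effective Cartier divisors

`(L₀ ⋯ L_e · X) = (L₁ ⋯ L_e · D)` for `L₀ ≅ O(D)`.
-/

universe u

open CategoryTheory CategoryTheory.Limits AlgebraicGeometry Opposite TopologicalSpace

set_option backward.isDefEq.respectTransparency false

namespace Groth.Agent.HilbPoly

open InvBasic ProjUniv Groth.Agent.InvPow Groth.Agent.QCohLib

variable {X : Scheme.{u}}

theorem epi_toSubscheme (D : X.IdealSheafData) : Epi (ClSub.toSubscheme D) := by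
  refine (epi_iff_locally_surjective _).mpr fun U t x hx => ?_
  obtain ⟨V, hV, hxV, hVU⟩ := exists_isAffineOpen_mem_and_subset hx
  obtain ⟨a, ha⟩ := D.subschemeι.app_surjective V hV
    (D.subscheme.presheaf.map (homOfLE (D.subschemeι.preimage_mono hVU)).op t)
  exact ⟨V, hVU, ⟨a, ha⟩, hxV⟩

/-- An effective Cartier divisor contains no generic point of a component. -/
theorem notMem_support_of_maximal {D : X.IdealSheafData} (hD : FGA.IsEffCartier D) {η : X}
    (hη : ∀ y : X, y ⤳ η → y = η) : η ∉ (D.support : Set X) := by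
  intro hmem
  obtain ⟨U, hηU, a, ha, hspan⟩ := hD η
  have hmin : (U.2.primeIdealOf ⟨η, hηU⟩).asIdeal ∈ minimalPrimes Γ(X, U.1) := by
    refine ⟨⟨inferInstance, bot_le⟩, fun q hq hle => ?_⟩
    have := hq.1
    let q' : PrimeSpectrum Γ(X, U.1) := ⟨q, hq.1⟩
    have hsp : U.2.fromSpec q' ⤳ η := by
      have h := ((PrimeSpectrum.le_iff_specializes q' (U.2.primeIdealOf ⟨η, hηU⟩)).mp hle).map U.2.fromSpec.continuous
      rwa [U.2.fromSpec_primeIdealOf ⟨η, hηU⟩] at h
    have h2 : q' = U.2.primeIdealOf ⟨η, hηU⟩ := U.2.fromSpec.isOpenEmbedding.injective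
      ((hη _ hsp).trans (U.2.fromSpec_primeIdealOf ⟨η, hηU⟩).symm)
    exact (congrArg PrimeSpectrum.asIdeal h2).ge
  refine Set.disjoint_left.mp (Ideal.disjoint_nonZeroDivisors_of_mem_minimalPrimes hmin) ?_ ha
  have h3 : η ∈ X.zeroLocus (U := U.1) (D.ideal U : Set Γ(X, U.1)) := (D.coe_support_inter U).le ⟨hmem, hηU⟩ |>.1
  have h4 : η ∉ X.basicOpen a := (Scheme.mem_zeroLocus_iff _ _ _).mp h3 a (by rw [hspan]; exact Ideal.mem_span_singleton_self a)
  rw [mem_basicOpen_iff_notMem_primeIdealOf U.2 hηU] at h4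
  exact not_not.mp h4

variable (k : Type u) [Field k] [X.Over (Spec (CommRingCat.of k))]
  [IsProper (X ↘ Spec (CommRingCat.of k))]

include k in
theorem dim_support_cartier {D : X.IdealSheafData} (hD : FGA.IsEffCartier D) {e : ℕ}
    (hX : topologicalKrullDim X = e + 1) : topologicalKrullDim (D.support : Set X) ≤ (e : WithBot ℕ∞) := by
  refine dim_le_of_closures (D.support.isClosed) fun x hx => ?_
  obtain ⟨η, hη⟩ : ∃ η : X, IsGenericPoint η (irreducibleComponent x) :=
    QuasiSober.sober isIrreducible_irreducibleComponent isClosed_irreducibleComponent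
  have hmax : ∀ y : X, y ⤳ η → y = η := fun y hy => by
    have h1 : irreducibleComponent x ⊆ closure ({y} : Set X) := by
      rw [← hη.def]
      exact closure_minimal (Set.singleton_subset_iff.mpr hy.mem_closure) isClosed_closure
    have h2 := eq_irreducibleComponent isIrreducible_singleton.closure.isPreirreducible h1
    exact IsGenericPoint.eq (x := y) (S := irreducibleComponent x) h2 hη
  have hss : closure ({x} : Set X) ⊂ irreducibleComponent x := by
    refine ssubset_of_subset_of_ne (isClosed_irreducibleComponent.closure_subset_iff.mpr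
      (Set.singleton_subset_iff.mpr mem_irreducibleComponent)) fun he => notMem_support_of_maximal hD hmax ?_
    have : x = η := IsGenericPoint.eq (x := x) (S := irreducibleComponent x) he hη
    exact this ▸ hx
  obtain ⟨b, hb⟩ := exists_dim_closure k x
  have h1 := (dim_add_one_le isClosed_closure isIrreducible_irreducibleComponent isClosed_irreducibleComponent
    hss ⟨x, subset_closure rfl⟩).trans ((topologicalKrullDim_subspace_le X _).trans hX.le)
  rw [hb] at h1 ⊢
  norm_cast at h1 ⊢
  omega

omit [X.Over (Spec (CommRingCat.of k))] [IsProper (X ↘ Spec (CommRingCat.of k))] in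
theorem nonempty_tensorPows_zero_head (F : X.Modules) : ∀ {e : ℕ} {L : Fin (e + 1) → X.Modules}
    {n : Fin (e + 1) → ℕ}, n 0 = 0 →
    Nonempty (Curv2.tensorPows F (e + 1) L n ≅ Curv2.tensorPows F e (fun j => L j.succ) fun j => n j.succ)
  | 0, L, n, hn => ⟨eqToIso (by
      show CohB1.tensorMod _ (CohB1.tensorPow _ (n (Fin.last 0))) = _
      rw [show (Fin.last 0) = (0 : Fin 1) from rfl, hn]
      rfl) ≪≫ SecTwist.unitorR _⟩
  | e + 1, L, n, hn => by
    obtain ⟨a⟩ := nonempty_tensorPows_zero_head F (e := e) (L := fun i => L i.castSucc)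
      (n := fun i => n i.castSucc) hn
    exact ⟨(ProjTwist.nonempty_tensorMod_iso a (Iso.refl _)).some ≪≫ eqToIso (by
      conv_rhs => unfold Curv2.tensorPows
      simp only [Fin.succ_castSucc, Fin.succ_last])⟩

theorem altSum_succ {e : ℕ} (g : (Fin (e + 1) → ℕ) → ℚ) :
    altSum g = altSum (fun m : Fin e → ℕ => g (Fin.cons 1 m)) - altSum fun m : Fin e → ℕ => g (Fin.cons 0 m) := by
  classical
  unfold altSum
  have hu : (Finset.univ : Finset (Fin (e + 1))) = insert 0 (Finset.univ.map (Fin.succEmb e)) := by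
    rw [Fin.univ_succ, Finset.cons_eq_insert]
    congr 1
  have h0 : (0 : Fin (e + 1)) ∉ Finset.univ.map (Fin.succEmb e) := by simp [Fin.succ_ne_zero]
  have hcard : ∀ t : Finset (Fin e),
      (Finset.univ \ t.map (Fin.succEmb e)).card = (Finset.univ \ t).card + 1 ∧
      (Finset.univ \ insert 0 (t.map (Fin.succEmb e))).card = (Finset.univ \ t).card := fun t => by
    have hn : (0 : Fin (e + 1)) ∉ t.map (Fin.succEmb e) := by simp [Fin.succ_ne_zero]
    rw [Finset.card_sdiff_of_subset (Finset.subset_univ _), Finset.card_sdiff_of_subset (Finset.subset_univ _),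
      Finset.card_sdiff_of_subset (Finset.subset_univ _), Finset.card_insert_of_notMem hn, Finset.card_map,
      Finset.card_univ, Finset.card_univ, Fintype.card_fin, Fintype.card_fin]
    have := Finset.card_le_univ t
    rw [Fintype.card_fin] at this
    omega
  have hind : ∀ t : Finset (Fin e), ind (t.map (Fin.succEmb e)) = Fin.cons 0 (ind t) ∧
      ind (insert 0 (t.map (Fin.succEmb e))) = Fin.cons 1 (ind t) := fun t => by
    constructor <;> funext j <;> refine Fin.cases ?_ (fun i => ?_) j <;>
      simp [ind, Fin.succ_ne_zero]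
  rw [hu, Finset.sum_powerset_insert h0, ← hu]
  have hpm : (Finset.univ.map (Fin.succEmb e)).powerset =
      (Finset.univ : Finset (Fin e)).powerset.map (Finset.mapEmbedding (Fin.succEmb e)).toEmbedding := by
    ext t
    simp only [Finset.mem_powerset, Finset.mem_map, RelEmbedding.coe_toEmbedding, Finset.mapEmbedding_apply,
      Finset.subset_map_iff]
    exact ⟨fun ⟨u, _, hu⟩ => ⟨u, Finset.subset_univ u, hu.symm⟩, fun ⟨u, _, hu⟩ => ⟨u, Finset.subset_univ u, hu.symm⟩⟩
  rw [hpm]
  simp only [Finset.sum_map]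
  rw [show (Finset.univ : Finset (Fin e)).powerset = (Finset.univ : Finset (Fin e)).powerset from rfl,
    sub_eq_add_neg, add_comm, ← Finset.sum_neg_distrib]
  refine congrArg₂ (· + ·) (Finset.sum_congr rfl fun t _ => ?_) (Finset.sum_congr rfl fun t _ => ?_)
  · simp only [Finset.mapEmbedding_apply, RelEmbedding.coe_toEmbedding]
    rw [(hcard t).2, (hind t).2]
  · simp only [Finset.mapEmbedding_apply, RelEmbedding.coe_toEmbedding]
    rw [(hcard t).1, (hind t).1, pow_succ]
    ring

/-- The intersection number with the module of an effective Cartier divisor. -/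
theorem coeff_diag_cartier {e : ℕ} (hX : topologicalKrullDim X = e + 1) {D : X.IdealSheafData}
    (hD : FGA.IsEffCartier D) {L : Fin (e + 1) → X.Modules} (hL : ∀ j, PicF.IsInvertible (L j))
    (hLD : ClSub.IsInverseOf (L 0) (ClSub.idealMod D))
    {P : MvPolynomial (Fin (e + 1)) ℚ} {Q : MvPolynomial (Fin e) ℚ}
    (hP : ∀ n : Fin (e + 1) → ℕ, (Curv2.euler k X (Curv2.tensorPows (Coh.structureModule X) (e + 1) L n) : ℚ) =
      MvPolynomial.eval (fun i => (n i : ℚ)) P)
    (hQ : ∀ n : Fin e → ℕ, (Curv2.euler k X (Curv2.tensorPows (ClSub.quotMod D) e (fun j => L j.succ) n) : ℚ) =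
      MvPolynomial.eval (fun i => (n i : ℚ)) Q) :
    P.coeff (diag (e + 1)) = Q.coeff (diag e) := by
  have : CompactSpace X := QuasiCompact.compactSpace_of_compactSpace (X ↘ Spec (CommRingCat.of k))
  have : IsLocallyNoetherian X := LocallyOfFiniteType.isLocallyNoetherian (X ↘ Spec (CommRingCat.of k))
  let O := Coh.structureModule X
  let L0 := L 0
  let OD := ClSub.quotMod D
  have hO : Coh.IsCoh O := isCoh_of_isInvertible (isInvertible_structureModule X)
  have hOD : Coh.IsCoh OD := isCoh_quotMod D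
  have hdimD : topologicalKrullDim (CohB1.support OD) ≤ (e : WithBot ℕ∞) := by
    rw [support_quotMod_eq]; exact dim_support_cartier k hD hX
  have hdimO : topologicalKrullDim (CohB1.support O) ≤ ((e + 1 : ℕ) : WithBot ℕ∞) :=
    (topologicalKrullDim_subspace_le X _).trans (hX.le.trans (le_of_eq (by norm_cast)))
  have hI : Coh.IsCoh (ClSub.idealMod D) :=
    isCoh_kernel (ClSub.toSubscheme D) hO hOD.1
  have := epi_toSubscheme D
  let S : ShortComplex X.Modules := ShortComplex.mk (kernel.ι (ClSub.toSubscheme D)) (ClSub.toSubscheme D)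
    (kernel.condition _)
  have hS : S.ShortExact :=
    { exact := ShortComplex.exact_of_f_is_kernel _ (kernelIsKernel _)
      mono_f := inferInstanceAs (Mono (kernel.ι (ClSub.toSubscheme D)))
      epi_g := inferInstanceAs (Epi (ClSub.toSubscheme D)) }
  obtain ⟨eI⟩ := hLD
  obtain ⟨c⟩ := ProjTwist.nonempty_tensorMod_comm (ClSub.idealMod D) L0
  let R : (Fin (e + 1) → ℕ) → ℚ := fun n => Curv2.euler k X (Curv2.tensorPows OD (e + 1) L n)
  let G : (Fin (e + 1) → ℕ) → ℚ := fun n => Curv2.euler k X (Curv2.tensorPows O (e + 1) L n)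
  have hshift : ∀ (M : X.Modules) (n : Fin (e + 1) → ℕ),
      Curv2.euler k X (Curv2.tensorPows (CohB1.tensorMod M L0) (e + 1) L n) =
        Curv2.euler k X (Curv2.tensorPows M (e + 1) L (Function.update n 0 (n 0 + 1))) := fun M n => by
    have hT := isInvertible_tensorPows (X := X) hL n
    obtain ⟨s⟩ := nonempty_tensorPows_step hL n 0
    obtain ⟨cc⟩ := ProjTwist.nonempty_tensorMod_comm (Curv2.tensorPows (Coh.structureModule X) (e + 1) L n) L0
    obtain ⟨a⟩ := nonempty_assoc M (hL 0) hT
    refine euler_congr ((nonempty_tensorPows_iso _ hL n).some ≪≫ a.symm ≪≫ ?_ ≪≫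
      ((nonempty_tensorPows_iso M hL _).some).symm)
    exact (ProjTwist.nonempty_tensorMod_iso (Iso.refl M) (cc.symm ≪≫ s.symm)).some
  have hdiff : ∀ n, G (Function.update n 0 (n 0 + 1)) = G n + R (Function.update n 0 (n 0 + 1)) := fun n => by
    have h := euler_tensorPows_additive k hL (S := tSC S (hL 0)) (shortExact_tSC hS (hL 0))
      (by simpa only [tSC] using! isCoh_tensorMod hI (hL 0))
      (by simpa only [tSC] using! isCoh_tensorMod hO (hL 0))
      (by simpa only [tSC] using! isCoh_tensorMod hOD (hL 0)) n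
    simp only [tSC] at h
    change (Curv2.euler k X (Curv2.tensorPows (CohB1.tensorMod O L0) (e + 1) L n) : ℚ) =
      Curv2.euler k X (Curv2.tensorPows (CohB1.tensorMod (ClSub.idealMod D) L0) (e + 1) L n) +
      Curv2.euler k X (Curv2.tensorPows (CohB1.tensorMod OD L0) (e + 1) L n) at h
    rw [hshift O n, hshift OD n, euler_tensorPows_congr k hL (c ≪≫ eI) n] at h
    exact h
  have hR0 : altSum R = 0 := by
    obtain ⟨PR, hPR, hPRe⟩ := exists_poly_tensorPows k hL hOD (d := e + 1)
      (hdimD.trans_lt (by exact_mod_cast Nat.lt_succ_self e))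
    rw [show R = evN PR from funext fun n => hPRe n,
      altSum_eq_coeff (mem_degLT.mpr fun m hm =>
        Nat.lt_succ_of_lt (mem_degLT.mp hPR m hm)), coeff_diag_eq_zero hPR]
  rw [coeff_diag_eq_altSum k hL hO hdimO hP, coeff_diag_eq_altSum k (fun j => hL j.succ) hOD hdimD hQ]
  change altSum G = _
  rw [altSum_succ] at hR0 ⊢
  have hz : ∀ m : Fin e → ℕ, R (Fin.cons 0 m) =
      Curv2.euler k X (Curv2.tensorPows OD e (fun j => L j.succ) m) := fun m => by
    obtain ⟨a⟩ := nonempty_tensorPows_zero_head OD (L := L) (n := Fin.cons 0 m) (Fin.cons_zero _ _)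
    simp only [R]
    rw [euler_congr a]
    simp only [Fin.cons_succ]
  rw [← funext hz, ← sub_eq_zero.mp hR0]
  have hu : ∀ m : Fin e → ℕ, Function.update (Fin.cons 0 m : Fin (e + 1) → ℕ) 0 1 = Fin.cons 1 m := fun m =>
    Fin.update_cons_zero _ _ _
  have hG : ∀ m : Fin e → ℕ, G (Fin.cons 1 m) = G (Fin.cons 0 m) + R (Fin.cons 1 m) := fun m => by
    have h := hdiff (Fin.cons 0 m)
    rwa [Fin.cons_zero, zero_add, hu] at h
  unfold altSum
  rw [← Finset.sum_sub_distrib]
  refine Finset.sum_congr rfl fun t _ => ?_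
  simp only [hG]
  ring

end Groth.Agent.HilbPoly
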