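import Groth.Agent.HilbPoly.Snapper

/-!
# Twisting families: tensor powers

`tensorPows_spec`, `nonempty_twist_succ`, `exists_poly_tensorPows`.
-/

universe u

open CategoryTheory CategoryTheory.Limits AlgebraicGeometry Opposite TopologicalSpace

set_option backward.isDefEq.respectTransparency false

namespace Groth.Agent.HilbPoly

open InvBasic ProjUniv Groth.Agent.InvPow

variable {X : Scheme.{u}}

theorem isInvertible_structureModule (X : Scheme.{u}) : PicF.IsInvertible (Coh.structureModule X) :=
  isInvertible_tensorPow (L := Coh.structureModule X)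
    (isInvertible_of_isBasis fun _ => ⟨⊤, trivial, (1 : Γ(X, ⊤)), fun W hW => by
      change Function.Bijective fun r : Γ(X, W) => r * X.presheaf.map (homOfLE hW).op (1 : Γ(X, ⊤))
      simp only [map_one, mul_one]
      exact Function.bijective_id⟩) 0

theorem isInvertible_tensorPows : ∀ {r : ℕ} {L : Fin r → X.Modules}, (∀ i, PicF.IsInvertible (L i)) →
    ∀ n : Fin r → ℕ, PicF.IsInvertible (Curv2.tensorPows (Coh.structureModule X) r L n)
  | 0, _, _, _ => isInvertible_structureModule X
  | _ + 1, _, hL, _ => isInvertible_tensorMod (isInvertible_tensorPows (fun i => hL i.castSucc) _)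
      (isInvertible_tensorPow (hL _) _)

theorem nonempty_tensorPows_iso (F : X.Modules) : ∀ {r : ℕ} {L : Fin r → X.Modules},
    (∀ i, PicF.IsInvertible (L i)) → ∀ n : Fin r → ℕ,
    Nonempty (Curv2.tensorPows F r L n ≅ CohB1.tensorMod F (Curv2.tensorPows (Coh.structureModule X) r L n))
  | 0, _, _, _ => ⟨(SecTwist.unitorR F).symm⟩
  | r + 1, L, hL, n => by
    obtain ⟨e⟩ := nonempty_tensorPows_iso F (fun i => hL i.castSucc) fun i => n i.castSucc
    obtain ⟨a⟩ := nonempty_assoc F
      (isInvertible_tensorPows (fun i => hL i.castSucc) fun i => n i.castSucc)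
      (isInvertible_tensorPow (hL (Fin.last r)) (n (Fin.last r)))
    exact ⟨(ProjTwist.nonempty_tensorMod_iso e (Iso.refl _)).some ≪≫ a.symm⟩

theorem nonempty_tensorPows_step : ∀ {r : ℕ} {L : Fin r → X.Modules},
    (∀ i, PicF.IsInvertible (L i)) → ∀ (n : Fin r → ℕ) (i : Fin r),
    Nonempty (Curv2.tensorPows (Coh.structureModule X) r L (Function.update n i (n i + 1)) ≅
      CohB1.tensorMod (Curv2.tensorPows (Coh.structureModule X) r L n) (L i))
  | 0, _, _, _, i => i.elim0
  | r + 1, L, hL, n, i => by
    have hA := fun m : Fin r → ℕ => isInvertible_tensorPows (X := X) (fun j => hL j.castSucc) m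
    have hP := fun m : ℕ => isInvertible_tensorPow (hL (Fin.last r)) m
    induction i using Fin.lastCases with
    | last =>
      have e : (fun j : Fin r => Function.update n (Fin.last r) (n (Fin.last r) + 1) j.castSucc) =
          fun j => n j.castSucc :=
        funext fun j => Function.update_of_ne (Fin.castSucc_lt_last j).ne _ _
      obtain ⟨a⟩ := nonempty_tensor_assoc (hA fun j => n j.castSucc) (hP (n (Fin.last r))) (hL (Fin.last r))
      refine ⟨eqToIso ?_ ≪≫ a⟩
      conv_lhs => unfold Curv2.tensorPows
      rw [e, Function.update_self]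
      rfl
    | cast j =>
      obtain ⟨e⟩ := nonempty_tensorPows_step (fun j => hL j.castSucc) (fun j => n j.castSucc) j
      have e' : (fun l : Fin r => Function.update n j.castSucc (n j.castSucc + 1) l.castSucc) =
          Function.update (fun l => n l.castSucc) j (n j.castSucc + 1) := funext fun l => by
        by_cases h : l = j
        · subst h; simp
        · rw [Function.update_of_ne h, Function.update_of_ne fun hc => h (Fin.castSucc_inj.mp hc)]
      let A := Curv2.tensorPows (Coh.structureModule X) r (fun l => L l.castSucc) fun l => n l.castSucc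
      let P := CohB1.tensorPow (L (Fin.last r)) (n (Fin.last r))
      obtain ⟨a₁⟩ := nonempty_tensor_assoc (hA fun l => n l.castSucc) (hL j.castSucc) (hP (n (Fin.last r)))
      obtain ⟨c⟩ := ProjTwist.nonempty_tensorMod_comm (L j.castSucc) P
      obtain ⟨a₂⟩ := nonempty_tensor_assoc (hA fun l => n l.castSucc) (hP (n (Fin.last r))) (hL j.castSucc)
      refine ⟨eqToIso ?_ ≪≫ (ProjTwist.nonempty_tensorMod_iso e (Iso.refl P)).some ≪≫ a₁.symm ≪≫
        (ProjTwist.nonempty_tensorMod_iso (Iso.refl A) c).some ≪≫ a₂⟩
      conv_lhs => unfold Curv2.tensorPows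
      rw [e', Function.update_of_ne (Fin.castSucc_lt_last j).ne']

/-- Multi-variable Snapper polynomial. -/
theorem exists_poly_tensorPows (k : Type u) [Field k] [X.Over (Spec (CommRingCat.of k))]
    [IsProper (X ↘ Spec (CommRingCat.of k))] {r : ℕ} {L : Fin r → X.Modules}
    (hL : ∀ i, PicF.IsInvertible (L i)) {F : X.Modules} (hF : Coh.IsCoh F) {d : ℕ}
    (hd : topologicalKrullDim (CohB1.support F) < (d : WithBot ℕ∞)) :
    ∃ P ∈ degLT r d, ∀ n : Fin r → ℕ,
      (Curv2.euler k X (Curv2.tensorPows F r L n) : ℚ) = evN P n := by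
  obtain ⟨P, hP, h⟩ := exists_poly k (isInvertible_tensorPows hL) hL (nonempty_tensorPows_step hL) d F hF hd
  refine ⟨P, hP, fun n => ?_⟩
  rw [euler_congr (nonempty_tensorPows_iso F hL n).some]
  exact h n

end Groth.Agent.HilbPoly
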