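import Groth.Agent.HilbPoly.Snapper
import Groth.Prelude.Def_ShStab
import Mathlib.Algebra.Polynomial.Roots

/-!
# Hilbert polynomials

`exists_hilbPoly`, `hilbPoly_unique`, `hilbPoly_additive`, `hilbPoly_shift`.
-/

universe u

open CategoryTheory CategoryTheory.Limits AlgebraicGeometry Opposite TopologicalSpace

set_option backward.isDefEq.respectTransparency false

namespace Groth.Agent.HilbPoly

open InvBasic Groth.Agent.InvPow

variable {k : Type u} [Field k] {X : Scheme.{u}} [X.Over (Spec (CommRingCat.of k))]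

theorem hilbPoly_unique {L F : X.Modules} {P Q : Polynomial ℚ} (hP : ShStab.IsHilbPoly k X L F P)
    (hQ : ShStab.IsHilbPoly k X L F Q) : P = Q := by
  apply Polynomial.eq_of_infinite_eval_eq
  refine Set.Infinite.mono ?_ (Set.infinite_range_of_injective (Nat.cast_injective (R := ℚ)))
  rintro _ ⟨m, rfl⟩
  exact (hP m).symm.trans (hQ m)

theorem hilbPoly_congr {L F F' : X.Modules} (e : F ≅ F') {P : Polynomial ℚ}
    (hP : ShStab.IsHilbPoly k X L F P) : ShStab.IsHilbPoly k X L F' P := fun m => by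
  rw [← hP m, ShStab.twist, ShStab.twist,
    euler_congr (ProjTwist.nonempty_tensorMod_iso e (Iso.refl (CohB1.tensorPow L m))).some]

variable [IsProper (X ↘ Spec (CommRingCat.of k))]

theorem exists_hilbPoly {L : X.Modules} (hL : PicF.IsInvertible L) {F : X.Modules} (hF : Coh.IsCoh F)
    {d : ℕ} (hd : topologicalKrullDim (CohB1.support F) < (d : WithBot ℕ∞)) :
    ∃ P : Polynomial ℚ, (∀ j, d ≤ j → P.coeff j = 0) ∧ ShStab.IsHilbPoly k X L F P := by
  obtain ⟨P, hP, h⟩ := exists_poly k (r := 1) (T := fun n => CohB1.tensorPow L (n 0)) (L := fun _ => L)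
    (fun n => isInvertible_tensorPow hL _) (fun _ => hL) (fun n i => ⟨eqToIso (by
      rw [Subsingleton.elim i 0, Function.update_self]; rfl)⟩) d F hF hd
  refine ⟨∑ m ∈ P.support, Polynomial.monomial (m 0) (P.coeff m), fun j hj => ?_, fun n => ?_⟩
  · rw [Polynomial.finsetSum_coeff]
    refine Finset.sum_eq_zero fun m hm => ?_
    rw [Polynomial.coeff_monomial, if_neg]
    have := mem_degLT.mp hP m hm
    rw [Finsupp.sum_fintype _ _ (fun _ => rfl), Fin.sum_univ_one] at this
    omega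
  · refine (h fun _ => n).trans ?_
    rw [evN, Polynomial.eval_finsetSum]
    conv_lhs => rw [P.as_sum, map_sum]
    refine Finset.sum_congr rfl fun m _ => ?_
    rw [← evN, evN_monomial, Polynomial.eval_monomial, Fin.prod_univ_one]

theorem exists_hilbPoly' {L : X.Modules} (hL : PicF.IsInvertible L) {F : X.Modules} (hF : Coh.IsCoh F)
    {d : ℕ} (hd : topologicalKrullDim (CohB1.support F) ≤ (d : WithBot ℕ∞)) :
    ∃ P : Polynomial ℚ, P.natDegree ≤ d ∧ ShStab.IsHilbPoly k X L F P := by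
  obtain ⟨P, hP, h⟩ := exists_hilbPoly (k := k) hL hF (d := d + 1)
    (hd.trans_lt (by exact_mod_cast Nat.lt_succ_self d))
  exact ⟨P, Polynomial.natDegree_le_iff_coeff_eq_zero.mpr fun j hj => hP j hj, h⟩

theorem hilbPoly_additive {L : X.Modules} (hL : PicF.IsInvertible L) {S : ShortComplex X.Modules}
    (hS : S.ShortExact) (h₁ : Coh.IsCoh S.X₁) (h₂ : Coh.IsCoh S.X₂) (h₃ : Coh.IsCoh S.X₃)
    {P₁ P₂ P₃ : Polynomial ℚ} (e₁ : ShStab.IsHilbPoly k X L S.X₁ P₁)
    (e₂ : ShStab.IsHilbPoly k X L S.X₂ P₂) (e₃ : ShStab.IsHilbPoly k X L S.X₃ P₃) : P₂ = P₁ + P₃ := by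
  refine hilbPoly_unique e₂ fun m => ?_
  have h := chiT_additive k (r := 1) (T := fun n => CohB1.tensorPow L (n 0))
    (fun n => isInvertible_tensorPow hL _) hS h₁ h₂ h₃ fun _ => m
  rw [Polynomial.eval_add, ← e₁ m, ← e₃ m]
  exact h

omit [IsProper (X ↘ Spec (CommRingCat.of k))] in
theorem hilbPoly_shift {L : X.Modules} (hL : PicF.IsInvertible L) {F : X.Modules} (N : ℕ)
    {P : Polynomial ℚ} (hP : ShStab.IsHilbPoly k X L F P) :
    ShStab.IsHilbPoly k X L (CohB1.tensorMod F (CohB1.tensorPow L N))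
      (P.comp (Polynomial.X + Polynomial.C (N : ℚ))) := fun m => by
  rw [Polynomial.eval_comp]
  simp only [Polynomial.eval_add, Polynomial.eval_X, Polynomial.eval_C]
  rw [← Nat.cast_add, ← hP (m + N), ShStab.twist, ShStab.twist]
  obtain ⟨a⟩ := nonempty_assoc F (isInvertible_tensorPow hL N) (isInvertible_tensorPow hL m)
  obtain ⟨b⟩ := nonempty_pow_add_iso hL N m
  rw [euler_congr (a.symm ≪≫ (ProjTwist.nonempty_tensorMod_iso (Iso.refl F)
    (b ≪≫ eqToIso (by rw [Nat.add_comm]))).some)]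

end Groth.Agent.HilbPoly
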