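import Groth.Agent.HilbPoly.Components
import Groth.Agent.HilbPoly.AmpleVanish

/-!
# Intersection numbers: the `n_1⋯n_d` coefficient of Snapper polynomials

`evN_injective`, `coeff_diag_eq_alternating`, `exists_poly_quotMod`.
-/

universe u

open CategoryTheory CategoryTheory.Limits AlgebraicGeometry Opposite TopologicalSpace

set_option backward.isDefEq.respectTransparency false

namespace Groth.Agent.HilbPoly

open MvPolynomial InvBasic ProjUniv Groth.Agent.InvPow Groth.Agent.QCohLib

/-- The monomial `n_1⋯n_d`. -/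
noncomputable abbrev diag (d : ℕ) : Fin d →₀ ℕ := Finsupp.equivFunOnFinite.symm fun _ : Fin d => 1

theorem evN_injective {r : ℕ} {P Q : MvPolynomial (Fin r) ℚ} (h : ∀ n, evN P n = evN Q n) : P = Q := by
  refine MvPolynomial.funext_set (fun _ => Set.range ((↑) : ℕ → ℚ))
    (fun _ => Set.infinite_range_of_injective Nat.cast_injective) fun x hx => ?_
  choose n hn using fun i => Set.mem_pi.mp hx i trivial
  rw [show x = fun i => (n i : ℚ) from funext fun i => (hn i).symm]
  exact h n

theorem sum_diag (d : ℕ) : ((diag d).sum fun _ e => e) = d := by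
  rw [Finsupp.sum_fintype _ _ (fun _ => rfl)]
  simp

theorem coeff_diag_eq_zero {d : ℕ} {P : MvPolynomial (Fin d) ℚ} (h : P ∈ degLT d d) :
    P.coeff (diag d) = 0 := by
  by_contra hc
  have h1 := mem_degLT.mp h (diag d) (MvPolynomial.mem_support_iff.mpr hc)
  rw [sum_diag] at h1
  exact lt_irrefl _ h1

/-- The indicator exponent of a set of variables. -/
def ind {d : ℕ} (t : Finset (Fin d)) : Fin d → ℕ := fun j => if j ∈ t then 1 else 0

/-- Alternating sum of the values on `{0,1}^d`. -/
noncomputable def altSum {d : ℕ} (f : (Fin d → ℕ) → ℚ) : ℚ :=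
  ∑ t ∈ (Finset.univ : Finset (Fin d)).powerset, (-1 : ℚ) ^ (Finset.univ \ t).card * f (ind t)

theorem altSum_monomial {d : ℕ} (m : Fin d →₀ ℕ) (c : ℚ) :
    altSum (evN (monomial m c)) = c * ∏ j, ((1 : ℚ) ^ m j + -((0 : ℚ) ^ m j)) := by
  classical
  rw [Finset.prod_add, Finset.mul_sum]
  refine Finset.sum_congr rfl fun t _ => ?_
  rw [evN_monomial, Finset.prod_neg, ← Finset.prod_sdiff (Finset.subset_univ t)]
  rw [Finset.prod_congr rfl fun j (hj : j ∈ Finset.univ \ t) => show ((ind t j : ℕ) : ℚ) ^ m j = (0 : ℚ) ^ m j by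
      rw [ind, if_neg (Finset.mem_sdiff.mp hj).2, Nat.cast_zero],
    Finset.prod_congr rfl fun j (hj : j ∈ t) => show ((ind t j : ℕ) : ℚ) ^ m j = (1 : ℚ) ^ m j by
      rw [ind, if_pos hj, Nat.cast_one]]
  ring

theorem altSum_eq_coeff {d : ℕ} {P : MvPolynomial (Fin d) ℚ} (h : P ∈ degLT d (d + 1)) :
    altSum (evN P) = P.coeff (diag d) := by
  classical
  have hlin : altSum (evN P) = ∑ m ∈ P.support, altSum (evN (monomial m (P.coeff m))) := by
    unfold altSum
    rw [Finset.sum_comm]
    refine Finset.sum_congr rfl fun t _ => ?_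
    rw [← Finset.mul_sum]
    congr 1
    unfold evN
    rw [← map_sum, ← P.as_sum]
  rw [hlin]
  have hz : ∀ m ∈ P.support, m ≠ diag d → altSum (evN (monomial m (P.coeff m))) = 0 := by
    intro m hm hne
    rw [altSum_monomial]
    obtain ⟨j, hj⟩ : ∃ j, m j = 0 := by
      by_contra hc
      push Not at hc
      apply hne
      have h1 := mem_degLT.mp h m hm
      rw [Finsupp.sum_fintype _ _ (fun _ => rfl)] at h1
      refine Finsupp.ext fun j => ?_
      change m j = 1
      have h2 : ∑ i : Fin d, (1 : ℕ) ≤ ∑ i, m i := Finset.sum_le_sum fun i _ => Nat.one_le_iff_ne_zero.mpr (hc i)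
      by_contra hj
      have h3 : ∑ i : Fin d, (1 : ℕ) < ∑ i, m i := Finset.sum_lt_sum (fun i _ => Nat.one_le_iff_ne_zero.mpr (hc i))
        ⟨j, Finset.mem_univ j, lt_of_le_of_ne (Nat.one_le_iff_ne_zero.mpr (hc j)) (Ne.symm hj)⟩
      simp only [Finset.sum_const, Finset.card_univ, Fintype.card_fin, smul_eq_mul, mul_one] at h3
      omega
    rw [Finset.prod_eq_zero (Finset.mem_univ j) (by simp [hj]), mul_zero]
  have h1 : altSum (evN (monomial (diag d) (P.coeff (diag d)))) = P.coeff (diag d) := by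
    rw [altSum_monomial]
    simp
  rw [Finset.sum_eq_single (diag d) hz, h1]
  intro hc
  rw [h1]
  exact MvPolynomial.notMem_support_iff.mp hc

variable {X : Scheme.{u}} (k : Type u) [Field k] [X.Over (Spec (CommRingCat.of k))]
  [IsProper (X ↘ Spec (CommRingCat.of k))]

theorem isCoh_quotMod [IsLocallyNoetherian X] (D : X.IdealSheafData) : Coh.IsCoh (ClSub.quotMod D) := by
  have := LocallyOfFiniteType.isLocallyNoetherian D.subschemeι
  refine QCohLib.isCoh_pushforward D.subschemeι (QCohLib.isCoh_iff.mpr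
    ⟨InvBasic.isQuasicoherent_structureModule _, fun U => ?_⟩)
  exact inferInstanceAs (Module.Finite Γ(D.subscheme, U.1) Γ(D.subscheme, U.1))

theorem support_quotMod_subset (D : X.IdealSheafData) : CohB1.support (ClSub.quotMod D) ⊆ D.support := by
  refine (CohFinite.support_pushforward_subset D.subschemeι _).trans ?_
  rw [Scheme.IdealSheafData.range_subschemeι]

/-- A polynomial computing twisted Euler characteristics of a coherent module has degree at most the
dimension of the support. -/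
theorem mem_degLT_of_euler {r : ℕ} {L : Fin r → X.Modules} (hL : ∀ i, PicF.IsInvertible (L i))
    {F : X.Modules} (hF : Coh.IsCoh F) {d : ℕ} (hd : topologicalKrullDim (CohB1.support F) ≤ d)
    {P : MvPolynomial (Fin r) ℚ}
    (hP : ∀ n : Fin r → ℕ, (Curv2.euler k X (Curv2.tensorPows F r L n) : ℚ) = MvPolynomial.eval (fun i => (n i : ℚ)) P) :
    P ∈ degLT r (d + 1) := by
  obtain ⟨Q, hQ, hQe⟩ := exists_poly_tensorPows k hL hF (d := d + 1)
    (hd.trans_lt (by exact_mod_cast Nat.lt_succ_self d))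
  rwa [show P = Q from evN_injective fun n => (hP n).symm.trans (hQe n)]

/-- The intersection number as an alternating sum of Euler characteristics. -/
theorem coeff_diag_eq_altSum {d : ℕ} {L : Fin d → X.Modules} (hL : ∀ i, PicF.IsInvertible (L i))
    {F : X.Modules} (hF : Coh.IsCoh F) (hd : topologicalKrullDim (CohB1.support F) ≤ d)
    {P : MvPolynomial (Fin d) ℚ}
    (hP : ∀ n : Fin d → ℕ, (Curv2.euler k X (Curv2.tensorPows F d L n) : ℚ) = MvPolynomial.eval (fun i => (n i : ℚ)) P) :
    P.coeff (diag d) = altSum fun n => (Curv2.euler k X (Curv2.tensorPows F d L n) : ℚ) := by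
  rw [← altSum_eq_coeff (mem_degLT_of_euler k hL hF hd hP)]
  exact congrArg altSum (funext fun n => (hP n).symm)

/-- Intersection numbers are integers. -/
theorem exists_int_coeff_diag {d : ℕ} {L : Fin d → X.Modules} (hL : ∀ i, PicF.IsInvertible (L i))
    {F : X.Modules} (hF : Coh.IsCoh F) (hd : topologicalKrullDim (CohB1.support F) ≤ d)
    {P : MvPolynomial (Fin d) ℚ}
    (hP : ∀ n : Fin d → ℕ, (Curv2.euler k X (Curv2.tensorPows F d L n) : ℚ) = MvPolynomial.eval (fun i => (n i : ℚ)) P) :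
    ∃ z : ℤ, P.coeff (diag d) = z := by
  refine ⟨∑ t ∈ (Finset.univ : Finset (Fin d)).powerset,
    (-1 : ℤ) ^ (Finset.univ \ t).card * Curv2.euler k X (Curv2.tensorPows F d L (ind t)), ?_⟩
  rw [coeff_diag_eq_altSum k hL hF hd hP, altSum]
  push_cast
  rfl

/-- The intersection number of a cycle is the sum over the top-dimensional components. -/
theorem coeff_diag_eq_sum_components {d : ℕ} {L : Fin d → X.Modules} (hL : ∀ i, PicF.IsInvertible (L i))
    {F : X.Modules} (hF : Coh.IsCoh F) (hd : topologicalKrullDim (CohB1.support F) = d)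
    {P : MvPolynomial (Fin d) ℚ}
    (hP : ∀ n : Fin d → ℕ, (Curv2.euler k X (Curv2.tensorPows F d L n) : ℚ) = MvPolynomial.eval (fun i => (n i : ℚ)) P)
    {Q : X → MvPolynomial (Fin d) ℚ}
    (hQ : ∀ ξ : X, topologicalKrullDim (closure ({ξ} : Set X)) = (d : WithBot ℕ∞) →
      ∀ n : Fin d → ℕ, (Curv2.euler k X (Curv2.tensorPows (ClSub.quotMod
        (Scheme.IdealSheafData.vanishingIdeal (⟨closure ({ξ} : Set X), isClosed_closure⟩ : Closeds X))) d L n) : ℚ) =
          MvPolynomial.eval (fun i => (n i : ℚ)) (Q ξ)) :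
    P.coeff (diag d) = ∑ᶠ ξ : X, (if topologicalKrullDim (closure ({ξ} : Set X)) = (d : WithBot ℕ∞) then
        ((stkLen F ξ).toNat : ℚ) * (Q ξ).coeff (diag d) else 0) := by
  classical
  have : CompactSpace X := QuasiCompact.compactSpace_of_compactSpace (X ↘ Spec (CommRingCat.of k))
  have : IsLocallyNoetherian X := LocallyOfFiniteType.isLocallyNoetherian (X ↘ Spec (CommRingCat.of k))
  have : IsNoetherian X := ⟨⟩
  obtain ⟨R, hR, hRe⟩ := exists_poly_sub_components k hL hF hd
  let S := (finite_topPoints (QCohLib.isClosed_support hF.2) hd).toFinset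
  have hS : ∀ ξ, ξ ∈ S ↔ ξ ∈ CohB1.support F ∧ topologicalKrullDim (closure ({ξ} : Set X)) = d :=
    fun ξ => by simp [S]
  have hzero : ∀ ξ, ξ ∉ S → topologicalKrullDim (closure ({ξ} : Set X)) = d → stkLen F ξ = 0 :=
    fun ξ h h' => stkLen_eq_zero fun hs => h ((hS ξ).mpr ⟨hs, h'⟩)
  have hfin : ∀ g : X → ℚ, ∑ᶠ ξ : X, (if topologicalKrullDim (closure ({ξ} : Set X)) = (d : WithBot ℕ∞) then
        ((stkLen F ξ).toNat : ℚ) * g ξ else 0) = ∑ ξ ∈ S, ((stkLen F ξ).toNat : ℚ) * g ξ := fun g => by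
    rw [finsum_eq_sum_of_support_subset _ (s := S) ?_]
    · exact Finset.sum_congr rfl fun ξ hξ => if_pos ((hS ξ).mp hξ).2
    · intro ξ hξ
      by_contra hn
      simp only [Function.mem_support] at hξ
      obtain ⟨hdim, hne⟩ := ite_ne_right_iff.mp hξ
      rw [hzero ξ (fun h => hn (Finset.mem_coe.mpr h)) hdim] at hne
      simp at hne
  have key : P = (∑ ξ ∈ S, ((stkLen F ξ).toNat : ℚ) • Q ξ) + R := evN_injective fun n => by
    have h1 := hRe n
    rw [hfin fun ξ => chiClosure k L ξ n] at h1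
    rw [evN, ← hP n, evN, map_add, ← evN, ← evN, ← h1]
    have hsum : evN (∑ ξ ∈ S, ((stkLen F ξ).toNat : ℚ) • Q ξ) n =
        ∑ ξ ∈ S, ((stkLen F ξ).toNat : ℚ) * chiClosure k L ξ n := by
      rw [evN, map_sum]
      refine Finset.sum_congr rfl fun ξ hξ => ?_
      rw [MvPolynomial.smul_eval, ← hQ ξ ((hS ξ).mp hξ).2 n]
      congr 1
      exact euler_tensorPows_closure k hL ξ n
    rw [hsum]
    ring
  rw [hfin fun ξ => (Q ξ).coeff (diag d), key, MvPolynomial.coeff_add, MvPolynomial.coeff_sum,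
    coeff_diag_eq_zero hR, add_zero]
  exact Finset.sum_congr rfl fun ξ _ => by rw [MvPolynomial.coeff_smul, smul_eq_mul]

end Groth.Agent.HilbPoly
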